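import Cfsg.Agent.Mrg.Omega.NOne.LemmaT
import Cfsg.Agent.Omega.NatPair.Semi

section


/-!
# THEOREM D0ag: tools

* `chain_mem` = (K): an element of `C` centralising the factors of a chain of normal subgroups of `C`
  from `O₂(C)` to `1` lies in `O₂(C)`.
* `dual`: the functionals `[e, ·]`, `e ∈ E`, are all functionals vanishing on `C_X(E)`.
-/

set_option autoImplicit false

namespace Cfsg.Agent.Omega.NOne.AG

open Subgroup Cfsg Cfsg.Agent.ZN
open Cfsg.Agent.MinSimple.VModule (o2_isPGroup)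

universe u

variable {G : Type u} [Group G]

theorem inv_comm' {c x : G} (hc : c * x = x * c) : c⁻¹ * x = x * c⁻¹ := by
  rw [inv_mul_eq_iff_eq_mul, ← mul_assoc, hc, mul_assoc, mul_inv_cancel, mul_one]

theorem conj_comm' {x y : G} (h : x * y * x⁻¹ = y) : x * y = y * x := by
  calc x * y = x * y * x⁻¹ * x := by group
    _ = y * x := by rw [h]

theorem comm_conj' {x y : G} (h : x * y = y * x) : x * y * x⁻¹ = y := by
  rw [h]; group

theorem le_norm_of {H K : Subgroup G} (h : ∀ x ∈ H, ∀ y ∈ K, x * y * x⁻¹ ∈ K) :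
    H ≤ normalizer (K : Set G) := by
  intro x hx
  rw [mem_normalizer_iff]
  intro y
  refine ⟨h x hx y, fun hy => ?_⟩
  have h1 := h x⁻¹ (inv_mem hx) _ hy
  have e : x⁻¹ * (x * y * x⁻¹) * x⁻¹⁻¹ = y := by group
  rwa [e] at h1

theorem norm_conj {H K : Subgroup G} (h : H ≤ normalizer (K : Set G)) {x y : G} (hx : x ∈ H)
    (hy : y ∈ K) : x * y * x⁻¹ ∈ K := (mem_normalizer_iff.1 (h hx) y).1 hy

/-- `A B` if `A` normalises `B` -/
theorem mem_sup_iff {A B : Subgroup G} (hn : ∀ a ∈ A, ∀ b ∈ B, a * b * a⁻¹ ∈ B) {x : G} :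
    x ∈ A ⊔ B ↔ ∃ a ∈ A, ∃ b ∈ B, x = a * b := by
  constructor
  · intro hx
    let H : Subgroup G :=
      { carrier := {x | ∃ a ∈ A, ∃ b ∈ B, x = a * b}
        one_mem' := ⟨1, one_mem _, 1, one_mem _, by simp⟩
        mul_mem' := by
          rintro _ _ ⟨a, ha, b, hb, rfl⟩ ⟨c, hc, d, hd, rfl⟩
          refine ⟨a * c, mul_mem ha hc, c⁻¹ * b * c⁻¹⁻¹ * d,
            mul_mem (hn _ (inv_mem hc) _ hb) hd, by group⟩
        inv_mem' := by
          rintro _ ⟨a, ha, b, hb, rfl⟩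
          exact ⟨a⁻¹, inv_mem ha, a * b⁻¹ * a⁻¹, hn a ha _ (inv_mem hb), by group⟩ }
    have h1 : A ⊔ B ≤ H := sup_le (fun a ha => ⟨a, ha, 1, one_mem _, by simp⟩)
      (fun b hb => ⟨1, one_mem _, b, hb, by simp⟩)
    exact h1 hx
  · rintro ⟨a, ha, b, hb, rfl⟩
    exact mul_mem (mem_sup_left ha) (mem_sup_right hb)

/-- a subgroup of index 2 -/
theorem card_two {H K : Subgroup G} (hHK : H ≤ K) (hne : ∃ k ∈ K, k ∉ H)
    (h2 : ∀ a ∈ K, ∀ b ∈ K, a ∉ H → b ∉ H → a * b ∈ H) : Nat.card K = 2 * Nat.card H := by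
  obtain ⟨k, hk, hkH⟩ := hne
  have h1 : (H.subgroupOf K).index = 2 := by
    rw [index_eq_two_iff]
    refine ⟨⟨k, hk⟩, fun b => ?_⟩
    rw [mem_subgroupOf, mem_subgroupOf]
    by_cases hb : (b : G) ∈ H
    · refine Or.inr ⟨hb, fun hc => hkH ?_⟩
      have := mul_mem (inv_mem hb) hc
      simpa using this
    · exact Or.inl ⟨h2 _ b.2 _ hk hb hkH, hb⟩
  have h3 := card_mul_index (H.subgroupOf K)
  rw [h1, Nat.card_congr (subgroupOfEquivOfLe hHK).toEquiv] at h3
  omega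

/-- a group of order 4 generated by `z`, `e` -/
theorem mem_of_card_four [Finite G] {K : Subgroup G} (hK : Nat.card K = 4) {z e f : G} (hz : z ∈ K)
    (he : e ∈ K) (hf : f ∈ K) (hz1 : z ≠ 1) (hzz : z * z = 1) (he1 : e ≠ 1) (hez : e ≠ z) :
    f = 1 ∨ f = z ∨ f = e ∨ f = e * z := by
  classical
  by_contra hcon
  push Not at hcon
  obtain ⟨h1, h2, h3, h4⟩ := hcon
  have : Fintype K := Fintype.ofFinite _
  have a1 : z ∉ ({1} : Finset G) := by simpa using hz1
  have a2 : e ∉ ({z, 1} : Finset G) := by simp [he1, hez]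
  have a3 : e * z ∉ ({e, z, 1} : Finset G) := by
    simp only [Finset.mem_insert, Finset.mem_singleton, not_or]
    refine ⟨fun hc => hz1 (mul_left_cancel (hc.trans (mul_one e).symm)),
      fun hc => he1 (mul_right_cancel (hc.trans (one_mul z).symm)), fun hc => hez ?_⟩
    exact mul_right_cancel (hc.trans hzz.symm)
  have a4 : f ∉ ({e * z, e, z, 1} : Finset G) := by simp [h1, h2, h3, h4]
  have hs : ({f, e * z, e, z, 1} : Finset G).card = 5 := by
    rw [Finset.card_insert_of_notMem a4, Finset.card_insert_of_notMem a3,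
      Finset.card_insert_of_notMem a2, Finset.card_insert_of_notMem a1, Finset.card_singleton]
  have h6 : (({f, e * z, e, z, 1} : Finset G) : Set G) ⊆ (K : Set G) := by
    intro x hx
    simp only [Finset.coe_insert, Finset.coe_singleton, Set.mem_insert_iff,
      Set.mem_singleton_iff] at hx
    rcases hx with rfl | rfl | rfl | rfl | rfl
    · exact hf
    · exact mul_mem he hz
    · exact he
    · exact hz
    · exact one_mem _
  have h7 := Set.ncard_le_ncard h6 (Set.toFinite _)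
  rw [Set.ncard_coe_finset, hs] at h7
  have h8 : (K : Set G).ncard = 4 := by rw [← hK]; rfl
  omega

/-- (K) -/
theorem chain_mem [Finite G] {C : Subgroup G}
    (char2 : ∀ c ∈ C, (∀ x ∈ o2 C, c * x = x * c) → c ∈ o2 C)
    (n : ℕ) (N : ℕ → Subgroup G) (h0 : N 0 = o2 C) (hn : N n = ⊥)
    (hN : ∀ k, C ≤ normalizer (N k : Set G)) (hm : ∀ k, N (k + 1) ≤ N k)
    {v : G} (hv : v ∈ C) (hvN : ∀ k, ∀ x ∈ N k, v * x * v⁻¹ * x⁻¹ ∈ N (k + 1)) : v ∈ o2 C := by
  let B : Subgroup G :=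
    { carrier := {g | g ∈ C ∧ ∀ k, ∀ x ∈ N k, g * x * g⁻¹ * x⁻¹ ∈ N (k + 1)}
      one_mem' := ⟨one_mem _, fun k x _ => by simp⟩
      mul_mem' := by
        rintro a b ⟨ha0, ha⟩ ⟨hb0, hb⟩
        refine ⟨mul_mem ha0 hb0, fun k x hx => ?_⟩
        have e : a * b * x * (a * b)⁻¹ * x⁻¹ =
            (a * (b * x * b⁻¹ * x⁻¹) * a⁻¹) * (a * x * a⁻¹ * x⁻¹) := by group
        rw [e]
        exact mul_mem (norm_conj (hN _) ha0 (hb k x hx)) (ha k x hx)
      inv_mem' := by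
        rintro a ⟨ha0, ha⟩
        refine ⟨inv_mem ha0, fun k x hx => ?_⟩
        have e : a⁻¹ * x * a⁻¹⁻¹ * x⁻¹ = a⁻¹ * (a * x * a⁻¹ * x⁻¹)⁻¹ * a⁻¹⁻¹ := by group
        rw [e]
        exact norm_conj (hN _) (inv_mem ha0) (inv_mem (ha k x hx)) }
  have hpN : ∀ k, IsPGroup 2 (N k) := by
    intro k
    have h1 : N k ≤ o2 C := by
      induction k with
      | zero => rw [h0]
      | succ k ih => exact (hm k).trans ih
    exact (o2_isPGroup C).to_le h1
  have hB : B ≤ o2 C := by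
    refine le_o2 (fun g hg => hg.1) ?_ ?_
    · rintro ⟨g, hg⟩
      have key : ∀ j, j ≤ n → ∃ a : ℕ, ∀ x ∈ N (n - j), g ^ 2 ^ a * x = x * g ^ 2 ^ a := by
        intro j
        induction j with
        | zero =>
          intro _
          refine ⟨0, fun x hx => ?_⟩
          rw [Nat.sub_zero, hn, mem_bot] at hx
          rw [hx]; simp
        | succ j ih =>
          intro hj
          obtain ⟨a, ha⟩ := ih (by omega)
          have hgB : g ^ 2 ^ a ∈ B := pow_mem hg _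
          have h1 : n - (j + 1) + 1 = n - j := by omega
          obtain ⟨b, hb⟩ := LemmaT.exists_pow_comm (hpN (n - j)) ha (Q := N (n - (j + 1)))
            (fun q hq => by have := hgB.2 _ q hq; rwa [h1] at this)
          exact ⟨a + b, fun x hx => by rw [pow_add, pow_mul]; exact hb x hx⟩
      obtain ⟨a, ha⟩ := key n le_rfl
      rw [Nat.sub_self, h0] at ha
      have h5 : g ^ 2 ^ a ∈ o2 C := char2 _ (pow_mem hg.1 _) ha
      obtain ⟨m, hm'⟩ := LemmaT.exists_pow_eq_one (o2_isPGroup C)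
      refine ⟨a + m, Subtype.ext ?_⟩
      change g ^ 2 ^ (a + m) = 1
      rw [pow_add, pow_mul]
      exact hm' _ h5
    · refine le_norm_of ?_
      rintro c hc g ⟨hg0, hg⟩
      refine ⟨mul_mem (mul_mem hc hg0) (inv_mem hc), fun k x hx => ?_⟩
      have h6 := norm_conj (hN _) hc (hg k _ (norm_conj (hN _) (inv_mem hc) hx))
      have e : c * g * c⁻¹ * x * (c * g * c⁻¹)⁻¹ * x⁻¹ =
          c * (g * (c⁻¹ * x * c⁻¹⁻¹) * g⁻¹ * (c⁻¹ * x * c⁻¹⁻¹)⁻¹) * c⁻¹ := by group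
      rw [e]; exact h6
  exact hB ⟨hv, hvN⟩

/-! ### duality -/

theorem units_cases (u : ℤˣ) : u = 1 ∨ u = -1 := Int.units_eq_one_or u

/-- a functional vanishing on the common kernel of finitely many functionals is a product of some -/
theorem mem_closure_of_ker {X : Type*} [Group X] (s : Finset (X →* ℤˣ)) :
    ∀ (H : Subgroup X) (l : X →* ℤˣ), (∀ x ∈ H, (∀ f ∈ s, f x = 1) → l x = 1) →
      ∃ g ∈ closure (s : Set (X →* ℤˣ)), ∀ x ∈ H, l x = g x := by
  classical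
  induction s using Finset.induction_on with
  | empty =>
    intro H l hl
    exact ⟨1, one_mem _, fun x hx => hl x hx (by simp)⟩
  | insert f s hf ih =>
    intro H l hl
    obtain ⟨g, hg, hg1⟩ := ih (H ⊓ f.ker) l (by
      rintro x ⟨hx, hxf⟩ hxs
      refine hl x hx fun f' hf' => ?_
      rcases Finset.mem_insert.1 hf' with rfl | h
      · exact MonoidHom.mem_ker.1 hxf
      · exact hxs f' h)
    have hmono : Subgroup.closure (s : Set (X →* ℤˣ)) ≤
        Subgroup.closure ((insert f s : Finset (X →* ℤˣ)) : Set (X →* ℤˣ)) :=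
      Subgroup.closure_mono (by rw [Finset.coe_insert]; exact Set.subset_insert _ _)
    by_cases hall : ∀ x ∈ H, l x = g x
    · exact ⟨g, hmono hg, hall⟩
    push Not at hall
    obtain ⟨x0, hx0, hne⟩ := hall
    have hf0 : f x0 = -1 := by
      rcases units_cases (f x0) with h | h
      · exact absurd (hg1 x0 ⟨hx0, h⟩) hne
      · exact h
    refine ⟨g * f, mul_mem (hmono hg)
      (subset_closure (by rw [Finset.coe_insert]; exact Set.mem_insert _ _)), fun x hx => ?_⟩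
    rw [MonoidHom.mul_apply]
    rcases units_cases (f x) with h | h
    · rw [h, mul_one]; exact hg1 x (mem_inf.2 ⟨hx, MonoidHom.mem_ker.2 h⟩)
    · have h0 : x0⁻¹ * x ∈ H ⊓ f.ker := by
        refine mem_inf.2 ⟨mul_mem (inv_mem hx0) hx, MonoidHom.mem_ker.2 ?_⟩
        rw [map_mul, map_inv, hf0, h]; decide
      have h1 := hg1 _ h0
      rw [map_mul, map_mul, map_inv, map_inv] at h1
      rw [h]
      revert hne h1
      generalize l x0 = a
      generalize g x0 = b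
      generalize l x = c
      generalize g x = d
      revert a b c d
      decide

open Classical in
/-- the functional `[u, ·]` on `X` -/
noncomputable def chi {z : G} (X : Subgroup G) (hz1 : z ≠ 1) (hz : z * z = 1)
    (zX : ∀ x ∈ X, x * z = z * x) (u : G)
    (hu : ∀ x ∈ X, u * x = x * u ∨ u * x = z * (x * u)) : X →* ℤˣ where
  toFun x := if u * x = x * u then 1 else -1
  map_one' := by simp
  map_mul' := by
    rintro ⟨x, hx⟩ ⟨y, hy⟩
    have key : ∀ w : G, ¬ (w = z * w) := fun w h => hz1 (by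
      have := congrArg (· * w⁻¹) h
      simp only [mul_inv_cancel, mul_assoc, mul_one] at this
      exact this.symm)
    change (if u * (x * y) = x * y * u then (1 : ℤˣ) else -1) =
      (if u * x = x * u then 1 else -1) * (if u * y = y * u then 1 else -1)
    have e0 : u * (x * y) = (u * x) * y := by group
    rcases hu x hx with h1 | h1 <;> rcases hu y hy with h2 | h2
    · have : u * (x * y) = x * y * u := by rw [e0, h1, mul_assoc, h2]; group
      simp [this, h1, h2]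
    · have e : u * (x * y) = z * (x * y * u) := by
        calc u * (x * y) = x * (u * y) := by rw [e0, h1]; group
          _ = (x * z) * (y * u) := by rw [h2]; group
          _ = z * (x * y * u) := by rw [zX x hx]; group
      have n1 : ¬ u * (x * y) = x * y * u := by
        rw [e]; intro h; exact key _ h.symm
      have n2 : ¬ u * y = y * u := by rw [h2]; intro h; exact key _ h.symm
      simp [n1, n2, h1]
    · have e : u * (x * y) = z * (x * y * u) := by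
        calc u * (x * y) = z * (x * (u * y)) := by rw [e0, h1]; group
          _ = z * (x * y * u) := by rw [h2]; group
      have n1 : ¬ u * (x * y) = x * y * u := by
        rw [e]; intro h; exact key _ h.symm
      have n2 : ¬ u * x = x * u := by rw [h1]; intro h; exact key _ h.symm
      simp [n1, n2, h2]
    · have e : u * (x * y) = x * y * u := by
        calc u * (x * y) = z * (x * (u * y)) := by rw [e0, h1]; group
          _ = z * ((x * z) * (y * u)) := by rw [h2]; group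
          _ = (z * z) * (x * y * u) := by rw [zX x hx]; group
          _ = x * y * u := by rw [hz, one_mul]
      have n1 : ¬ u * x = x * u := by rw [h1]; intro h; exact key _ h.symm
      have n2 : ¬ u * y = y * u := by rw [h2]; intro h; exact key _ h.symm
      simp [e, n1, n2]

theorem chi_eq_one {z : G} {X : Subgroup G} {hz1 : z ≠ 1} {hz : z * z = 1}
    {zX : ∀ x ∈ X, x * z = z * x} {u : G}
    {hu : ∀ x ∈ X, u * x = x * u ∨ u * x = z * (x * u)} {x : X} :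
    chi X hz1 hz zX u hu x = 1 ↔ u * x = x * u := by
  classical
  change (if u * (x : G) = x * u then (1 : ℤˣ) else -1) = 1 ↔ _
  split_ifs with h
  · simp [h]
  · simp only [h, iff_false]; decide

/-- **duality**: if `u` acts on `X` modulo `⟨z⟩` trivially and centralises `C_X(E)`, then `u e`
centralises `X` for some `e ∈ E`. -/
theorem dual [Finite G] {z : G} {X E : Subgroup G} (hz1 : z ≠ 1) (hz : z * z = 1)
    (zX : ∀ x ∈ X, x * z = z * x) (zE : ∀ e ∈ E, e * z = z * e)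
    (hE : ∀ e ∈ E, ∀ x ∈ X, e * x = x * e ∨ e * x = z * (x * e))
    {u : G} (uz : u * z = z * u) (hu : ∀ x ∈ X, u * x = x * u ∨ u * x = z * (x * u))
    (hk : ∀ x ∈ X, (∀ e ∈ E, e * x = x * e) → u * x = x * u) :
    ∃ e ∈ E, ∀ x ∈ X, (u * e) * x = x * (u * e) := by
  classical
  have : Fintype E := Fintype.ofFinite _
  let f : E → (X →* ℤˣ) := fun e => chi X hz1 hz zX e (hE e e.2)
  let l : X →* ℤˣ := chi X hz1 hz zX u hu
  have h1 : ∀ x : X, (∀ g ∈ Finset.univ.image f, g x = 1) → l x = 1 := by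
    intro x hx
    refine chi_eq_one.2 (hk x x.2 fun e he => ?_)
    exact chi_eq_one.1 (hx (f ⟨e, he⟩) (Finset.mem_image.2 ⟨_, Finset.mem_univ _, rfl⟩))
  obtain ⟨g, hg, hlg⟩ := mem_closure_of_ker (Finset.univ.image f) ⊤ l (fun x _ => h1 x)
  have h2 : ∀ g ∈ closure ((Finset.univ.image f : Finset (X →* ℤˣ)) : Set (X →* ℤˣ)),
      ∃ e ∈ E, ∀ x : X, g x = 1 ↔ e * (x : G) = x * e := by
    intro g hg
    induction hg using closure_induction with
    | mem g hg =>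
      rw [Finset.mem_coe, Finset.mem_image] at hg
      obtain ⟨e, -, rfl⟩ := hg
      exact ⟨e, e.2, fun x => chi_eq_one⟩
    | one => exact ⟨1, one_mem _, fun x => by simp⟩
    | mul a b _ _ ha hb =>
      obtain ⟨e, he, h⟩ := ha
      obtain ⟨e', he', h'⟩ := hb
      refine ⟨e * e', mul_mem he he', fun x => ?_⟩
      rw [MonoidHom.mul_apply]
      have key : ∀ w : G, ¬ (w = z * w) := fun w h => hz1 (by
        have := congrArg (· * w⁻¹) h
        simp only [mul_inv_cancel, mul_assoc, mul_one] at this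
        exact this.symm)
      rcases hE e he x x.2 with p | p <;> rcases hE e' he' x x.2 with q | q
      · have h3 := (h x).2 p
        have h4 := (h' x).2 q
        rw [h3, h4, mul_one]
        simp only [true_iff]
        rw [mul_assoc, q, ← mul_assoc, p, mul_assoc]
      · have h3 := (h x).2 p
        have h4 : b x ≠ 1 := fun hb1 => key _ (((h' x).1 hb1).symm.trans q)
        have e1 : e * e' * x = z * (x * (e * e')) := by
          calc e * e' * x = e * (e' * x) := by group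
            _ = (e * z) * (x * e') := by rw [q]; group
            _ = z * ((e * x) * e') := by rw [zE e he]; group
            _ = z * (x * (e * e')) := by rw [p]; group
        rw [h3, one_mul]
        refine ⟨fun hb1 => absurd hb1 h4, fun hc => absurd (hc.symm.trans e1) (key _)⟩
      · have h3 : a x ≠ 1 := fun hb1 => key _ (((h x).1 hb1).symm.trans p)
        have h4 := (h' x).2 q
        have e1 : e * e' * x = z * (x * (e * e')) := by
          calc e * e' * x = e * (e' * x) := by group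
            _ = (e * x) * e' := by rw [q]; group
            _ = z * (x * (e * e')) := by rw [p]; group
        rw [h4, mul_one]
        refine ⟨fun hb1 => absurd hb1 h3, fun hc => absurd (hc.symm.trans e1) (key _)⟩
      · have h3 : a x = -1 := (units_cases _).resolve_left
          fun hb1 => key _ (((h x).1 hb1).symm.trans p)
        have h4 : b x = -1 := (units_cases _).resolve_left
          fun hb1 => key _ (((h' x).1 hb1).symm.trans q)
        have e1 : e * e' * x = x * (e * e') := by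
          calc e * e' * x = e * (e' * x) := by group
            _ = (e * z) * (x * e') := by rw [q]; group
            _ = z * ((e * x) * e') := by rw [zE e he]; group
            _ = (z * z) * (x * (e * e')) := by rw [p]; group
            _ = x * (e * e') := by rw [hz, one_mul]
        rw [h3, h4]
        simp [e1]
    | inv a _ ha =>
      obtain ⟨e, he, h⟩ := ha
      refine ⟨e, he, fun x => ?_⟩
      rw [MonoidHom.inv_apply, inv_eq_one]
      exact h x
  obtain ⟨e, he, h3⟩ := h2 g hg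
  refine ⟨e, he, fun x hx => ?_⟩
  have h4 : u * x = x * u ↔ e * x = x * e := by
    have a1 := hlg ⟨x, hx⟩ (mem_top _)
    have a2 := h3 ⟨x, hx⟩
    have a3 : l ⟨x, hx⟩ = 1 ↔ u * x = x * u := chi_eq_one
    rw [a1] at a3
    exact a3.symm.trans a2
  rcases hu x hx with p | p <;> rcases hE e he x hx with q | q
  · rw [mul_assoc, q, ← mul_assoc, p, mul_assoc]
  · have := h4.1 p
    rw [mul_assoc, this, ← mul_assoc, p, mul_assoc]
  · have := h4.2 q
    rw [mul_assoc, q, ← mul_assoc, this, mul_assoc]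
  · calc u * e * x = u * (e * x) := by group
      _ = (u * z) * (x * e) := by rw [q]; group
      _ = z * ((u * x) * e) := by rw [uz]; group
      _ = (z * z) * (x * (u * e)) := by rw [p]; group
      _ = x * (u * e) := by rw [hz, one_mul]

end Cfsg.Agent.Omega.NOne.AG

end

section


/-!
# THEOREM D0ag (bb #15001): (1) and (2)
-/

set_option autoImplicit false

namespace Cfsg.Agent.Omega.NOne.AG

open Subgroup Cfsg Cfsg.Agent.ZN

universe u

variable {G : Type u} [Group G] {ι : Type*}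

namespace Conf

variable {P V T : Subgroup G} {z : ι → G} {opp : ι → ι → Prop} {C Q QF Qs : ι → Subgroup G}
variable (h : Conf P V T z opp C Q QF Qs)
include h

/-! ### elementary facts -/

theorem zinv (i : ι) : (z i)⁻¹ = z i := inv_eq_of_mul_eq_one_left (h.sq i)

theorem z_mem_Q (i : ι) : z i ∈ Q i := by
  by_contra hc
  exact h.irr i ((h.opp_iff i i).2 hc)

theorem z_mem_Qs (i : ι) : z i ∈ Qs i := h.VQs i _ (h.zV i) (h.z_mem_Q i)

theorem VP : V ≤ P := h.VT.trans h.TP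

theorem TC (i : ι) : T ≤ C i := fun t ht =>
  h.PC i t (h.TP ht) (h.TV t ht _ (h.zV i))

theorem VC (i : ι) : V ≤ C i := h.VT.trans (h.TC i)

theorem QC (i : ι) : Q i ≤ C i := by rw [h.Qo2]; exact o2_le _

theorem nQ (i : ι) : C i ≤ normalizer (Q i : Set G) := by
  rw [h.Qo2]; exact le_normalizer_o2 _

theorem QsQ (i : ι) : Qs i ≤ Q i := (h.QsQF i).trans (h.QFQ i)

theorem QsP (i : ι) : Qs i ≤ P := (h.QsQ i).trans (h.QP i)

theorem QsC (i : ι) : Qs i ≤ C i := (h.QsQ i).trans (h.QC i)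

theorem QFC (i : ι) : QF i ≤ C i := (h.QFQ i).trans (h.QC i)

theorem QFP (i : ι) : QF i ≤ P := (h.QFQ i).trans (h.QP i)

omit h in
/-- back transport of a point -/
theorem back {m : G} {i j : ι} (hij : m * z i * m⁻¹ = z j) : m⁻¹ * z j * m⁻¹⁻¹ = z i := by
  rw [← hij]; group

theorem perm' {m : G} (hm : m ∈ P) (j : ι) : ∃ i, m * z i * m⁻¹ = z j := by
  obtain ⟨i, hi⟩ := h.perm m⁻¹ (inv_mem hm) j
  exact ⟨i, by rw [← hi]; group⟩

theorem mem_B {i : ι} {x : G} : x ∈ h.B i ↔ x ∈ QF i ∧ ∀ y ∈ Qs i, x * y = y * x := by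
  rw [B, mem_inf, mem_centralizer_iff]
  exact and_congr_right fun _ => ⟨fun H y hy => (H y hy).symm, fun H y hy => (H y hy).symm⟩

theorem B_V {i : ι} {x : G} (hx : x ∈ h.B i) : ∀ v ∈ V, x * v = v * x :=
  h.faith i x (h.QFP i (h.mem_B.1 hx).1) fun v hv hvQ => (h.mem_B.1 hx).2 v (h.VQs i v hv hvQ)

theorem B_T (i : ι) : h.B i ≤ T := fun x hx =>
  h.cT i x (h.QFQ i (h.mem_B.1 hx).1) (h.B_V hx)

theorem B_Q (i : ι) : h.B i ≤ Q i := fun _ hx => h.QFQ i (h.mem_B.1 hx).1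

theorem B_Tt (i : ι) : h.B i ≤ h.Tt i := le_inf (h.B_T i) (h.B_Q i)

theorem B_norm (i : ι) : C i ≤ normalizer (h.B i : Set G) := by
  refine le_norm_of fun c hc x hx => ?_
  obtain ⟨h1, h2⟩ := h.mem_B.1 hx
  refine h.mem_B.2 ⟨norm_conj (h.nQF i) hc h1, fun y hy => ?_⟩
  have h3 := h2 _ (norm_conj (h.nQs i) (inv_mem hc) hy)
  calc c * x * c⁻¹ * y = c * (x * (c⁻¹ * y * c⁻¹⁻¹)) * c⁻¹ := by group
    _ = c * ((c⁻¹ * y * c⁻¹⁻¹) * x) * c⁻¹ := by rw [h3]
    _ = y * (c * x * c⁻¹) := by group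

theorem eqB {m : G} (hm : m ∈ P) {i j : ι} (hij : m * z i * m⁻¹ = z j) {x : G}
    (hx : x ∈ h.B i) : m * x * m⁻¹ ∈ h.B j := by
  obtain ⟨h1, h2⟩ := h.mem_B.1 hx
  refine h.mem_B.2 ⟨h.eqQF m hm i j hij x h1, fun y hy => ?_⟩
  have h3 := h2 _ (h.eqQs m⁻¹ (inv_mem hm) j i (back hij) y hy)
  calc m * x * m⁻¹ * y = m * (x * (m⁻¹ * y * m⁻¹⁻¹)) * m⁻¹ := by group
    _ = m * ((m⁻¹ * y * m⁻¹⁻¹) * x) * m⁻¹ := by rw [h3]
    _ = y * (m * x * m⁻¹) := by group

theorem mem_Tt {i : ι} {x : G} : x ∈ h.Tt i ↔ x ∈ T ∧ x ∈ Q i := by rw [Tt, mem_inf]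

theorem Tt_T (i : ι) : h.Tt i ≤ T := inf_le_left

theorem Tt_QF {i : ι} {x : G} (hx : x ∈ h.Tt i) : x ∈ QF i :=
  h.QQF i x (h.mem_Tt.1 hx).2 fun v hv _ => Or.inl (h.TV x (h.mem_Tt.1 hx).1 v hv)

theorem conj_T {m x : G} (hm : m ∈ P) (hx : x ∈ T) : m * x * m⁻¹ ∈ T := norm_conj h.nT hm hx

theorem conj_V {m x : G} (hm : m ∈ P) (hx : x ∈ V) : m * x * m⁻¹ ∈ V := norm_conj h.nV hm hx

theorem eqTt {m : G} (hm : m ∈ P) {i j : ι} (hij : m * z i * m⁻¹ = z j) {x : G}
    (hx : x ∈ h.Tt i) : m * x * m⁻¹ ∈ h.Tt j :=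
  h.mem_Tt.2 ⟨h.conj_T hm (h.mem_Tt.1 hx).1, h.eqQ m hm i j hij x (h.mem_Tt.1 hx).2⟩

/-- `T` normalises `Tt i` -/
theorem Tt_norm (i : ι) : T ≤ normalizer (h.Tt i : Set G) := by
  refine le_norm_of fun t ht x hx => ?_
  exact h.mem_Tt.2 ⟨mul_mem (mul_mem ht (h.mem_Tt.1 hx).1) (inv_mem ht),
    norm_conj (h.nQ i) (h.TC i ht) (h.mem_Tt.1 hx).2⟩

/-- `Qs i ∩ T ≤ Tt i` -/
theorem mem_Tt_of_Qs {i : ι} {x : G} (hx : x ∈ Qs i) (hxT : x ∈ T) : x ∈ h.Tt i :=
  h.mem_Tt.2 ⟨hxT, h.QsQ i hx⟩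

/-- `[T, Qs i] ≤ Qs i ∩ T` -/
theorem comm_T_Qs {i : ι} {t x : G} (ht : t ∈ T) (hx : x ∈ Qs i) :
    t * x * t⁻¹ * x⁻¹ ∈ Qs i ∧ t * x * t⁻¹ * x⁻¹ ∈ T := by
  refine ⟨mul_mem (norm_conj (h.nQs i) (h.TC i ht) hx) (inv_mem hx), ?_⟩
  have e : t * x * t⁻¹ * x⁻¹ = t * (x * t⁻¹ * x⁻¹) := by group
  rw [e]
  exact mul_mem ht (h.conj_T (h.QsP i hx) (inv_mem ht))

theorem Qcomm_z {i : ι} {x : G} (hx : x ∈ Q i) : x * z i = z i * x := h.Cz i x (h.QC i hx)

/-- `z i ≠ 1` form: `w ≠ z i w` -/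
theorem ne_z_mul (i : ι) (w : G) : w ≠ z i * w := fun hw => h.ne_one i (by
  have := congrArg (· * w⁻¹) hw
  simp only [mul_inv_cancel, mul_assoc, mul_one] at this
  exact this.symm)

/-! ### (1.1) -/

/-- (1.1) -/
theorem B_inf {i j : ι} (hij : opp i j) {x : G} (hi : x ∈ h.B i) (hj : x ∈ h.B j) : x = 1 := by
  let N : Subgroup G := ⨅ k, h.B k
  have hN : ∀ {x}, x ∈ N ↔ ∀ k, x ∈ h.B k := fun {x} => mem_iInf
  have key : ∀ x, x ∈ h.B i → x ∈ h.B j → x ∈ N := by
    intro x hi hj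
    refine hN.2 fun k => ?_
    obtain ⟨y, hy, hyk⟩ := h.trans i j hij k
    have hyP : y ∈ P := (sup_le (h.QsP i) (h.QsP j)) hy
    have hc : y ∈ centralizer ({x} : Set G) := by
      have h1 : Qs i ⊔ Qs j ≤ centralizer ({x} : Set G) := by
        refine sup_le ?_ ?_
        · intro w hw
          rw [mem_centralizer_iff]
          rintro _ rfl
          exact (h.mem_B.1 hi).2 w hw
        · intro w hw
          rw [mem_centralizer_iff]
          rintro _ rfl
          exact (h.mem_B.1 hj).2 w hw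
      exact h1 hy
    have hc' : x * y = y * x := mem_centralizer_iff.1 hc x rfl
    have h2 := h.eqB hyP hyk hi
    rwa [comm_conj' hc'.symm] at h2
  have hxN := key x hi hj
  by_contra hx1
  have hNne : N ≠ ⊥ := fun h0 => hx1 (by rw [h0, mem_bot] at hxN; exact hxN)
  have hz := h.min i N (fun y hy => h.B_T i (hN.1 hy i)) (fun m hm hmz y hy => by
    refine hN.2 fun k => ?_
    obtain ⟨k', hk'⟩ := h.perm' hm k
    exact h.eqB hm hk' (hN.1 hy k')) hNne
  exact (h.opp_iff j i).1 (h.symm hij) (h.B_Q j (hN.1 hz j))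

/-! ### (1.2) -/

/-- `T₀` -/
def T0 (h : Conf P V T z opp C Q QF Qs) : Subgroup G := ⨆ k, h.Tt k

theorem Tt_le_T0 (i : ι) : h.Tt i ≤ h.T0 := le_iSup h.Tt i

theorem T0_le_T : h.T0 ≤ T := iSup_le h.Tt_T

omit h in
theorem norm_sup {H A B' : Subgroup G} (hA : ∀ x ∈ H, ∀ a ∈ A, x * a * x⁻¹ ∈ A ⊔ B')
    (hB : ∀ x ∈ H, ∀ b ∈ B', x * b * x⁻¹ ∈ A ⊔ B') : H ≤ normalizer ((A ⊔ B' : Subgroup G) : Set G) := by
  refine le_norm_of fun x hx y hy => ?_
  have h1 : A ⊔ B' ≤ (A ⊔ B').comap (MulAut.conj x).toMonoidHom :=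
    sup_le (fun a ha => hA x hx a ha) (fun b hb => hB x hx b hb)
  exact h1 hy

/-- `Qs j` normalises `Tt i ⊔ Tt j` -/
theorem norm_TT (i j : ι) : Qs j ≤ normalizer ((h.Tt i ⊔ h.Tt j : Subgroup G) : Set G) := by
  have key : ∀ x ∈ Qs j, ∀ t ∈ T, t ∈ h.Tt i ⊔ h.Tt j → x * t * x⁻¹ ∈ h.Tt i ⊔ h.Tt j := by
    intro x hx t ht hti
    obtain ⟨h1, h2⟩ := h.comm_T_Qs ht hx
    have h3 : t * x * t⁻¹ * x⁻¹ ∈ h.Tt j := h.mem_Tt_of_Qs h1 h2
    have e : x * t * x⁻¹ = (t * x * t⁻¹ * x⁻¹)⁻¹ * t := by group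
    rw [e]
    exact mul_mem (inv_mem (mem_sup_right h3)) hti
  exact norm_sup (fun x hx a ha => key x hx a (h.Tt_T i ha) (mem_sup_left ha))
    (fun x hx a ha => key x hx a (h.Tt_T j ha) (mem_sup_right ha))

theorem norm_TT' (i j : ι) : Qs i ≤ normalizer ((h.Tt i ⊔ h.Tt j : Subgroup G) : Set G) := by
  rw [sup_comm]; exact h.norm_TT j i

/-- (1.2) -/
theorem T0_eq {i j : ι} (hij : opp i j) : h.Tt i ⊔ h.Tt j = h.T0 := by
  refine le_antisymm (sup_le (h.Tt_le_T0 i) (h.Tt_le_T0 j)) (iSup_le fun k t ht => ?_)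
  obtain ⟨y, hy, hyk⟩ := h.trans i j hij k
  have hyP : y ∈ P := (sup_le (h.QsP i) (h.QsP j)) hy
  have hyN : y ∈ normalizer ((h.Tt i ⊔ h.Tt j : Subgroup G) : Set G) :=
    (sup_le (h.norm_TT' i j) (h.norm_TT i j)) hy
  have h1 := h.eqTt (inv_mem hyP) (back hyk) ht
  have h2 := (mem_normalizer_iff.1 hyN _).1 (mem_sup_left h1 : _ ∈ h.Tt i ⊔ h.Tt j)
  have e : y * (y⁻¹ * t * y⁻¹⁻¹) * y⁻¹ = t := by group
  rwa [e] at h2

theorem T0_norm : P ≤ normalizer (h.T0 : Set G) := by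
  refine le_norm_of fun m hm x hx => ?_
  have h1 : h.T0 ≤ h.T0.comap (MulAut.conj m).toMonoidHom := by
    refine iSup_le fun k t ht => ?_
    obtain ⟨l, hl⟩ := h.perm m hm k
    exact h.Tt_le_T0 l (h.eqTt hm hl ht)
  exact h1 hx

/-! ### (1.3) -/

/-- elements of `Qs i` commuting with `E_i` are in `T` -/
theorem T_of_comm {i : ι} {x : G} (hx : x ∈ Qs i) (hc : ∀ v ∈ V, v ∈ Q i → x * v = v * x) :
    x ∈ T :=
  h.cT i x (h.QsQ i hx) (h.faith i x (h.QsP i hx) hc)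

/-- an element of `QF i` centralising `T ∩ Qs i` is in `E_i B_i` -/
theorem dualE [Finite G] {i : ι} {u : G} (hu : u ∈ QF i)
    (hc : ∀ w ∈ Qs i, w ∈ T → u * w = w * u) :
    ∃ e ∈ V, e ∈ Q i ∧ u * e ∈ h.B i := by
  obtain ⟨e, he, h1⟩ := dual (X := Qs i) (E := V ⊓ Q i) (h.ne_one i) (h.sq i)
    (fun x hx => h.Qcomm_z (h.QsQ i hx)) (fun e he => h.Qcomm_z (mem_inf.1 he).2)
    (fun e he x hx => by
      have h2 := h.VQs i e (mem_inf.1 he).1 (mem_inf.1 he).2
      rcases h.com i e h2 x (h.QsQF i hx) with h3 | h3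
      · exact Or.inl h3
      · exact Or.inr h3)
    (h.Qcomm_z (h.QFQ i hu))
    (fun x hx => by
      rcases h.com i x hx u hu with h3 | h3
      · exact Or.inl h3.symm
      · refine Or.inr ?_
        rw [h3, ← mul_assoc, h.sq, one_mul])
    (fun x hx hxe => hc x hx (h.T_of_comm hx fun v hv hvQ =>
      (hxe v (mem_inf.2 ⟨hv, hvQ⟩)).symm))
  obtain ⟨he1, he2⟩ := mem_inf.1 he
  exact ⟨e, he1, he2, h.mem_B.2 ⟨mul_mem hu (h.QsQF i (h.VQs i e he1 he2)), h1⟩⟩

/-- (1.3) -/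
theorem inter [Finite G] {i j : ι} (hij : opp i j) {u : G} (hi : u ∈ h.Tt i) (hj : u ∈ h.Tt j) :
    ∃ e ∈ V, e ∈ Q i ∧ u * e ∈ h.B i := by
  refine h.dualE (h.Tt_QF hi) fun w hw hwT => ?_
  rcases h.com i w hw u (h.Tt_QF hi) with h1 | h1
  · exact h1.symm
  · exfalso
    have h2 : w * u * w⁻¹ * u⁻¹ ∈ Q j :=
      mul_mem (norm_conj (h.nQ j) (h.TC j hwT) (h.mem_Tt.1 hj).2) (inv_mem (h.mem_Tt.1 hj).2)
    have h3 : w * u * w⁻¹ * u⁻¹ = z i := by rw [h1]; group
    rw [h3] at h2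
    exact (h.opp_iff j i).1 (h.symm hij) h2

/-! ### (1.4) -/

/-- `Δ_i = B_i V` -/
theorem mem_BV {i : ι} {x : G} : x ∈ h.B i ⊔ V ↔ ∃ b ∈ h.B i, ∃ v ∈ V, x = b * v :=
  mem_sup_iff fun _ ha _ hb => h.conj_V (h.QFP i (h.mem_B.1 ha).1) hb

/-- `Qs i` moves the elements of `B_i V` by elements of `V`. -/
theorem Qs_BV {i : ι} {x d : G} (hx : x ∈ Qs i) (hd : d ∈ h.B i ⊔ V) : d⁻¹ * (x * d * x⁻¹) ∈ V := by
  obtain ⟨b, hb, v, hv, rfl⟩ := h.mem_BV.1 hd
  have h1 : x * b = b * x := ((h.mem_B.1 hb).2 x hx).symm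
  have e : (b * v)⁻¹ * (x * (b * v) * x⁻¹) = v⁻¹ * (x * v * x⁻¹) := by
    calc (b * v)⁻¹ * (x * (b * v) * x⁻¹) = v⁻¹ * b⁻¹ * ((x * b) * v * x⁻¹) := by group
      _ = v⁻¹ * (x * v * x⁻¹) := by rw [h1]; group
  rw [e]
  exact mul_mem (inv_mem hv) (h.conj_V (h.QsP i hx) hv)

theorem eqBV {m : G} (hm : m ∈ P) {i j : ι} (hij : m * z i * m⁻¹ = z j) {x : G}
    (hx : x ∈ h.B i ⊔ V) : m * x * m⁻¹ ∈ h.B j ⊔ V := by
  obtain ⟨b, hb, v, hv, rfl⟩ := h.mem_BV.1 hx
  have e : m * (b * v) * m⁻¹ = (m * b * m⁻¹) * (m * v * m⁻¹) := by group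
  rw [e]
  exact mul_mem (mem_sup_left (h.eqB hm hij hb)) (mem_sup_right (h.conj_V hm hv))

theorem mem_Dl {x : G} : x ∈ h.Dl ↔ ∀ k, x ∈ h.B k ⊔ V := by
  rw [Dl, mem_iInf]

theorem V_le_Dl : V ≤ h.Dl := fun _ hv => h.mem_Dl.2 fun _ => mem_sup_right hv

theorem BV_le_T (i : ι) : h.B i ⊔ V ≤ T := sup_le (h.B_T i) h.VT

/-- (1.4) -/
theorem Dl_eq {i j : ι} (hij : opp i j) : (h.B i ⊔ V) ⊓ (h.B j ⊔ V) = h.Dl := by
  refine le_antisymm (fun d hd => h.mem_Dl.2 fun k => ?_)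
    (fun d hd => mem_inf.2 ⟨h.mem_Dl.1 hd i, h.mem_Dl.1 hd j⟩)
  obtain ⟨y, hy, hyk⟩ := h.trans i j hij k
  have hyP : y ∈ P := (sup_le (h.QsP i) (h.QsP j)) hy
  -- elements of `Qs i ⊔ Qs j` move `(B i V) ∩ (B j V)` by elements of `V`
  let H : Subgroup G :=
    { carrier := {x | x ∈ P ∧ ∀ d ∈ (h.B i ⊔ V) ⊓ (h.B j ⊔ V), d⁻¹ * (x * d * x⁻¹) ∈ V}
      one_mem' := ⟨one_mem _, fun d _ => by simp⟩
      mul_mem' := by
        rintro a b ⟨ha0, ha⟩ ⟨hb0, hb⟩
        refine ⟨mul_mem ha0 hb0, fun d hd => ?_⟩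
        have e : d⁻¹ * (a * b * d * (a * b)⁻¹) =
            d⁻¹ * (a * d * a⁻¹) * (a * (d⁻¹ * (b * d * b⁻¹)) * a⁻¹) := by group
        rw [e]
        exact mul_mem (ha d hd) (h.conj_V ha0 (hb d hd))
      inv_mem' := by
        rintro a ⟨ha0, ha⟩
        refine ⟨inv_mem ha0, fun d hd => ?_⟩
        have e : d⁻¹ * (a⁻¹ * d * a⁻¹⁻¹) = a⁻¹ * ((a * d * a⁻¹)⁻¹ * d) * a⁻¹⁻¹ := by group
        rw [e]
        refine h.conj_V (inv_mem ha0) ?_
        have h1 := inv_mem (ha d hd)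
        have e2 : (a * d * a⁻¹)⁻¹ * d = (d⁻¹ * (a * d * a⁻¹))⁻¹ := by group
        rw [e2]; exact h1 }
  have hyH : y ∈ H := by
    have h1 : Qs i ⊔ Qs j ≤ H := sup_le
      (fun x hx => ⟨h.QsP i hx, fun d hd => h.Qs_BV hx (mem_inf.1 hd).1⟩)
      (fun x hx => ⟨h.QsP j hx, fun d hd => h.Qs_BV hx (mem_inf.1 hd).2⟩)
    exact h1 hy
  have h2 := h.eqBV hyP hyk (mem_inf.1 hd).1
  have h3 := hyH.2 d hd
  have e : d = (y * d * y⁻¹) * (d⁻¹ * (y * d * y⁻¹))⁻¹ := by group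
  rw [e]
  exact mul_mem h2 (mem_sup_right (inv_mem h3))

theorem Dl_norm : P ≤ normalizer (h.Dl : Set G) := by
  refine le_norm_of fun m hm x hx => h.mem_Dl.2 fun k => ?_
  obtain ⟨k', hk'⟩ := h.perm' hm k
  exact h.eqBV hm hk' (h.mem_Dl.1 hx k')

theorem Dl_le_T [Nonempty ι] : h.Dl ≤ T := fun _ hx =>
  h.BV_le_T (Classical.arbitrary ι) (h.mem_Dl.1 hx _)

/-- `[Qs i, Δ] ≤ V` -/
theorem comm_Dl {i : ι} {x d : G} (hx : x ∈ Qs i) (hd : d ∈ h.Dl) : d⁻¹ * (x * d * x⁻¹) ∈ V :=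
  h.Qs_BV hx (h.mem_Dl.1 hd i)

/-- `C_P(V)` centralises `Δ`. -/
theorem Dl_comm [Nonempty ι] {c d : G} (hc : c ∈ P) (hcV : ∀ v ∈ V, c * v = v * c) (hd : d ∈ h.Dl) :
    c * d = d * c := by
  obtain ⟨j, k, hij, hik, hjk⟩ := h.tri (Classical.arbitrary ι)
  set i := Classical.arbitrary ι
  have key : ∀ l, c * d * c⁻¹ * d⁻¹ ∈ h.B l := by
    intro l
    obtain ⟨b, hb, v, hv, rfl⟩ := h.mem_BV.1 (h.mem_Dl.1 hd l)
    have hcl : c ∈ C l := h.PC l c hc (hcV _ (h.zV l))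
    have h1 := hcV v hv
    have e : c * (b * v) * c⁻¹ * (b * v)⁻¹ = (c * b * c⁻¹) * b⁻¹ := by
      calc c * (b * v) * c⁻¹ * (b * v)⁻¹ = c * b * (v * c⁻¹) * v⁻¹ * b⁻¹ := by group
        _ = c * b * (c⁻¹ * v) * v⁻¹ * b⁻¹ := by rw [inv_comm' h1]
        _ = (c * b * c⁻¹) * b⁻¹ := by group
    rw [e]
    exact mul_mem (norm_conj (h.B_norm l) hcl hb) (inv_mem hb)
  have h2 := h.B_inf hij (key i) (key j)
  rw [mul_inv_eq_one, mul_inv_eq_iff_eq_mul] at h2
  exact h2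

theorem T_Dl [Nonempty ι] {t d : G} (ht : t ∈ T) (hd : d ∈ h.Dl) : t * d = d * t :=
  h.Dl_comm (h.TP ht) (h.TV t ht) hd

theorem Dl_sq [Nonempty ι] {d : G} (hd : d ∈ h.Dl) : d * d = 1 := by
  obtain ⟨j, k, hij, hik, hjk⟩ := h.tri (Classical.arbitrary ι)
  set i := Classical.arbitrary ι
  have key : ∀ l, d * d ∈ h.B l := by
    intro l
    obtain ⟨b, hb, v, hv, rfl⟩ := h.mem_BV.1 (h.mem_Dl.1 hd l)
    have e : b * v * (b * v) = b * b := by
      calc b * v * (b * v) = b * (v * b) * v := by group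
        _ = b * (b * v) * v := by rw [h.B_V hb v hv]
        _ = b * b * (v * v) := by group
        _ = b * b := by rw [h.Vsq v hv, mul_one]
    rw [e]; exact mul_mem hb hb
  exact h.B_inf hij (key i) (key j)

/-- `Tt i ∩ Tt j ≤ Δ` -/
theorem inter_Dl [Finite G] {i j : ι} (hij : opp i j) {u : G} (hi : u ∈ h.Tt i)
    (hj : u ∈ h.Tt j) : u ∈ h.Dl := by
  have key : ∀ {i j : ι}, opp i j → u ∈ h.Tt i → u ∈ h.Tt j → u ∈ h.B i ⊔ V := by
    intro i j hij hi hj
    obtain ⟨e, he, -, hb⟩ := h.inter hij hi hj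
    have e1 : u = (u * e) * e⁻¹ := by group
    rw [e1]
    exact mul_mem (mem_sup_left hb) (mem_sup_right (inv_mem he))
  rw [← h.Dl_eq hij]
  exact mem_inf.2 ⟨key hij hi hj, key (h.symm hij) hj hi⟩

end Conf

end Cfsg.Agent.Omega.NOne.AG

end

section


/-!
# THEOREM D0ag (bb #15001): (2)

`h.Two` : for every `i` the intersections `B i ∩ Q j` (for suitable `j` opposite `i`) lie in `⟨a⟩`, and for
other `j` in `⟨b⟩`, where `a`, `b` are central in `T` and `⟨a⟩ ∩ ⟨b⟩ = 1` (`a = b = 1` if `Δ = V`).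

Output: `[B i, T₀] = 1`, `B i` is elementary, `b ∈ Q j` or `b z_i ∈ Q j` for `b ∈ B i`, `QF i = Qs i B i`.
If `Δ = V`: `B i = ⟨z i⟩` and `QF i = Qs i`.
-/

set_option autoImplicit false

namespace Cfsg.Agent.Omega.NOne.AG

open Subgroup Cfsg Cfsg.Agent.ZN

universe u

variable {G : Type u} [Group G] {ι : Type*}

namespace Conf

variable {P V T : Subgroup G} {z : ι → G} {opp : ι → ι → Prop} {C Q QF Qs : ι → Subgroup G}

/-- see the head of the file -/
def Good (h : Conf P V T z opp C Q QF Qs) (i : ι) (a : G) : Prop :=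
  (∀ t ∈ T, t * a = a * t) ∧ a * a = 1 ∧ ∃ j k, opp i j ∧ opp i k ∧ opp j k ∧
    (∀ x ∈ h.B i, x ∈ Q j → x = 1 ∨ x = a) ∧ (∀ x ∈ h.B i, x ∈ Q k → x = 1 ∨ x = a)

/-- see the head of the file -/
def Two (h : Conf P V T z opp C Q QF Qs) : Prop :=
  ∀ i, ∃ a b, h.Good i a ∧ h.Good i b ∧ ∀ x, (x = 1 ∨ x = a) → (x = 1 ∨ x = b) → x = 1

variable (h : Conf P V T z opp C Q QF Qs)
include h

theorem Qs_comm {i : ι} {x y : G} (hx : x ∈ Qs i) (hy : y ∈ Qs i) :
    x * y = y * x ∨ x * y = z i * (y * x) := h.com i x hx y (h.QsQF i hy)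

/-- squares of `Qs i` are in `⟨z i⟩` -/
theorem sq_Qs {i : ι} {x : G} (hx : x ∈ Qs i) : x * x = 1 ∨ x * x = z i := by
  let H : Subgroup G :=
    { carrier := {x | x ∈ Qs i ∧ (x * x = 1 ∨ x * x = z i)}
      one_mem' := ⟨one_mem _, Or.inl (by simp)⟩
      mul_mem' := by
        rintro a b ⟨ha0, ha⟩ ⟨hb0, hb⟩
        refine ⟨mul_mem ha0 hb0, ?_⟩
        have hza := h.Qcomm_z (h.QsQ i ha0)
        have hzb := h.Qcomm_z (h.QsQ i hb0)
        rcases h.Qs_comm hb0 ha0 with hc | hc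
        · have e : a * b * (a * b) = (a * a) * (b * b) := by
            calc a * b * (a * b) = a * (b * a) * b := by group
              _ = a * (a * b) * b := by rw [hc]
              _ = (a * a) * (b * b) := by group
          rw [e]
          rcases ha with ha | ha <;> rcases hb with hb | hb <;> rw [ha, hb] <;> simp [h.sq]
        · have e : a * b * (a * b) = z i * ((a * a) * (b * b)) := by
            calc a * b * (a * b) = a * (b * a) * b := by group
              _ = (a * z i) * (a * b) * b := by rw [hc]; group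
              _ = z i * ((a * a) * (b * b)) := by rw [hza]; group
          rw [e]
          rcases ha with ha | ha <;> rcases hb with hb | hb <;> rw [ha, hb] <;> simp [h.sq]
      inv_mem' := by
        rintro a ⟨ha0, ha⟩
        refine ⟨inv_mem ha0, ?_⟩
        have e : a⁻¹ * a⁻¹ = (a * a)⁻¹ := by group
        rw [e]
        rcases ha with ha | ha
        · left; rw [ha, inv_one]
        · right; rw [ha, h.zinv] }
  have h1 : Qs i ≤ H := by
    refine (h.QsGen i).trans ((closure_le _).2 ?_)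
    rintro _ ⟨c, hc, e, he, heQ, rfl⟩
    refine ⟨norm_conj (h.nQs i) hc (h.VQs i e he heQ), Or.inl ?_⟩
    calc c * e * c⁻¹ * (c * e * c⁻¹) = c * (e * e) * c⁻¹ := by group
      _ = 1 := by rw [h.Vsq e he]; group
  exact (h1 hx).2

/-- `[B i, Tt j] ≤ B i ∩ Q j` -/
theorem comm_B_Tt {i j : ι} {x t : G} (hx : x ∈ h.B i) (ht : t ∈ h.Tt j) :
    x * t * x⁻¹ * t⁻¹ ∈ h.B i ∧ x * t * x⁻¹ * t⁻¹ ∈ Q j := by
  obtain ⟨ht1, ht2⟩ := h.mem_Tt.1 ht
  constructor
  · have e : x * t * x⁻¹ * t⁻¹ = x * (t * x⁻¹ * t⁻¹) := by group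
    rw [e]
    exact mul_mem hx (norm_conj (h.B_norm i) (h.TC i ht1) (inv_mem hx))
  · exact mul_mem (norm_conj (h.nQ j) (h.TC j (h.B_T i hx)) ht2) (inv_mem ht2)

theorem Good.comm {i : ι} {a : G} (ha : h.Good i a) {x t : G} (hx : x ∈ h.B i) (ht : t ∈ h.T0) :
    x * t * x⁻¹ * t⁻¹ = 1 ∨ x * t * x⁻¹ * t⁻¹ = a := by
  obtain ⟨ha1, ha2, j, k, hij, hik, hjk, hj, hk⟩ := ha
  have hai : a⁻¹ = a := inv_eq_of_mul_eq_one_left ha2
  let H : Subgroup G :=
    { carrier := {t | t ∈ T ∧ (x * t * x⁻¹ * t⁻¹ = 1 ∨ x * t * x⁻¹ * t⁻¹ = a)}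
      one_mem' := ⟨one_mem _, Or.inl (by simp)⟩
      mul_mem' := by
        rintro s t ⟨hs0, hs⟩ ⟨ht0, ht⟩
        refine ⟨mul_mem hs0 ht0, ?_⟩
        have e : x * (s * t) * x⁻¹ * (s * t)⁻¹ =
            (x * s * x⁻¹ * s⁻¹) * (s * (x * t * x⁻¹ * t⁻¹) * s⁻¹) := by group
        rw [e]
        have e2 : s * a * s⁻¹ = a := comm_conj' (ha1 s hs0)
        rcases hs with hs | hs <;> rcases ht with ht | ht <;> rw [hs, ht] <;> simp [e2, ha2]
      inv_mem' := by
        rintro s ⟨hs0, hs⟩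
        refine ⟨inv_mem hs0, ?_⟩
        have e : x * s⁻¹ * x⁻¹ * s⁻¹⁻¹ = s⁻¹ * (x * s * x⁻¹ * s⁻¹)⁻¹ * s := by group
        rw [e]
        have e2 : s⁻¹ * a * s = a := by
          rw [mul_assoc, ← ha1 s hs0]; group
        rcases hs with hs | hs
        · left; rw [hs]; group
        · right; rw [hs, hai]; exact e2 }
  have h1 : h.T0 ≤ H := by
    rw [← h.T0_eq hjk]
    refine sup_le (fun t ht => ⟨h.Tt_T j ht, ?_⟩) (fun t ht => ⟨h.Tt_T k ht, ?_⟩)
    · obtain ⟨h1, h2⟩ := h.comm_B_Tt hx ht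
      exact hj _ h1 h2
    · obtain ⟨h1, h2⟩ := h.comm_B_Tt hx ht
      exact hk _ h1 h2
  exact (h1 ht).2

/-- **(2)** `[B i, T₀] = 1` -/
theorem B_T0 (h2 : h.Two) {i : ι} {x t : G} (hx : x ∈ h.B i) (ht : t ∈ h.T0) : x * t = t * x := by
  obtain ⟨a, b, ha, hb, hab⟩ := h2 i
  have h1 := hab _ (Good.comm h ha hx ht) (Good.comm h hb hx ht)
  rw [mul_inv_eq_one, mul_inv_eq_iff_eq_mul] at h1
  exact h1

/-- centraliser of `Qs i` in `Qs i` -/
def Zs (_h : Conf P V T z opp C Q QF Qs) (i : ι) : Subgroup G := Qs i ⊓ centralizer (Qs i : Set G)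

theorem mem_Zs {i : ι} {x : G} : x ∈ h.Zs i ↔ x ∈ Qs i ∧ ∀ y ∈ Qs i, x * y = y * x := by
  rw [Zs, mem_inf, mem_centralizer_iff]
  exact and_congr_right fun _ => ⟨fun H y hy => (H y hy).symm, fun H y hy => (H y hy).symm⟩

theorem Zs_B (i : ι) : h.Zs i ≤ h.B i := fun _ hx =>
  h.mem_B.2 ⟨h.QsQF i (h.mem_Zs.1 hx).1, (h.mem_Zs.1 hx).2⟩

theorem Zs_norm (i : ι) : C i ≤ normalizer (h.Zs i : Set G) := by
  refine le_norm_of fun c hc x hx => ?_
  obtain ⟨h1, h2⟩ := h.mem_Zs.1 hx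
  refine h.mem_Zs.2 ⟨norm_conj (h.nQs i) hc h1, fun y hy => ?_⟩
  have h3 := h2 _ (norm_conj (h.nQs i) (inv_mem hc) hy)
  calc c * x * c⁻¹ * y = c * (x * (c⁻¹ * y * c⁻¹⁻¹)) * c⁻¹ := by group
    _ = c * ((c⁻¹ * y * c⁻¹⁻¹) * x) * c⁻¹ := by rw [h3]
    _ = y * (c * x * c⁻¹) := by group

theorem z_mem_Zs (i : ι) : z i ∈ h.Zs i :=
  h.mem_Zs.2 ⟨h.z_mem_Qs i, fun y hy => (h.Qcomm_z (h.QsQ i hy)).symm⟩

/-- an element of `T` centralising `Tt j` and the factors of `Qs j ≥ R ≥ 1` is in `Q j` -/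
theorem mem_Q_of_chain [Finite G] {j : ι} {R : Subgroup G} (hR : R ≤ Qs j)
    (nR : C j ≤ normalizer (R : Set G)) {b : G} (hb : b ∈ T)
    (hbT : ∀ t ∈ h.Tt j, b * t = t * b) (h1 : ∀ x ∈ Qs j, b * x * b⁻¹ * x⁻¹ ∈ R)
    (h2 : ∀ x ∈ R, b * x = x * b) : b ∈ Q j := by
  have hc2 : ∀ c ∈ C j, (∀ x ∈ o2 (C j), c * x = x * c) → c ∈ o2 (C j) := by
    rw [← h.Qo2 j]; exact h.char2 j
  have hbot : C j ≤ normalizer ((⊥ : Subgroup G) : Set G) := by
    refine le_norm_of fun x _ y hy => ?_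
    rw [mem_bot] at hy ⊢
    rw [hy]; group
  rw [h.Qo2 j]
  let N : ℕ → Subgroup G := fun k =>
    match k with
    | 0 => Q j
    | 1 => QF j
    | 2 => Qs j
    | 3 => R
    | _ => ⊥
  refine chain_mem hc2 4 N (h.Qo2 j) rfl ?_ ?_ (h.TC j hb) ?_
  · intro k
    match k with
    | 0 => exact h.nQ j
    | 1 => exact h.nQF j
    | 2 => exact h.nQs j
    | 3 => exact nR
    | (n + 4) => exact hbot
  · intro k
    match k with
    | 0 => exact h.QFQ j
    | 1 => exact h.QsQF j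
    | 2 => exact hR
    | 3 => exact bot_le
    | (n + 4) => exact le_rfl
  · intro k x hx
    rcases k with _ | _ | _ | _ | n
    · change x ∈ Q j at hx
      change b * x * b⁻¹ * x⁻¹ ∈ QF j
      by_cases hxF : x ∈ QF j
      · exact mul_mem (norm_conj (h.nQF j) (h.TC j hb) hxF) (inv_mem hxF)
      · refine h.QF2 j _ (norm_conj (h.nQ j) (h.TC j hb) hx) _ (inv_mem hx) (fun hc => hxF ?_)
          (fun hc => hxF ?_)
        · have h3 := norm_conj (h.nQF j) (inv_mem (h.TC j hb)) hc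
          have e : b⁻¹ * (b * x * b⁻¹) * b⁻¹⁻¹ = x := by group
          rwa [e] at h3
        · have h3 := inv_mem hc
          rwa [inv_inv] at h3
    · change x ∈ QF j at hx
      change b * x * b⁻¹ * x⁻¹ ∈ Qs j
      obtain ⟨t, ht, y, hy, rfl⟩ := h.QFT j x hx
      have htQ : t ∈ h.Tt j := h.mem_Tt.2 ⟨ht, by
        have h3 : t * y * y⁻¹ ∈ Q j := mul_mem (h.QFQ j hx) (inv_mem (h.QsQ j hy))
        rwa [mul_inv_cancel_right] at h3⟩
      have e : b * (t * y) * b⁻¹ * (t * y)⁻¹ = t * (b * y * b⁻¹ * y⁻¹) * t⁻¹ := by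
        calc b * (t * y) * b⁻¹ * (t * y)⁻¹ = (b * t) * y * b⁻¹ * y⁻¹ * t⁻¹ := by group
          _ = t * (b * y * b⁻¹ * y⁻¹) * t⁻¹ := by rw [hbT t htQ]; group
      rw [e]
      exact norm_conj (h.nQs j) (h.TC j ht)
        (mul_mem (norm_conj (h.nQs j) (h.TC j hb) hy) (inv_mem hy))
    · exact h1 x hx
    · change x ∈ R at hx
      change b * x * b⁻¹ * x⁻¹ ∈ (⊥ : Subgroup G)
      rw [mem_bot, mul_inv_eq_one, mul_inv_eq_iff_eq_mul]
      exact h2 x hx
    · change x ∈ (⊥ : Subgroup G) at hx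
      change b * x * b⁻¹ * x⁻¹ ∈ (⊥ : Subgroup G)
      rw [mem_bot] at hx ⊢
      rw [hx]; group

/-- the square of `b ∈ B i` is in `Q j` -/
theorem B_sq_mem [Finite G] (h2 : h.Two) {i j : ι} {b : G} (hb : b ∈ h.B i) : b * b ∈ Q j := by
  have hbT := h.B_T i hb
  have hbt : ∀ t ∈ h.Tt j, b * t = t * b := fun t ht => h.B_T0 h2 hb (h.Tt_le_T0 j ht)
  have hR : zpowers (z j) ≤ Qs j := by rw [zpowers_le]; exact h.z_mem_Qs j
  have hmem : ∀ x, x = 1 ∨ x = z j → x ∈ zpowers (z j) := by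
    rintro x (rfl | rfl)
    · exact one_mem _
    · exact mem_zpowers _
  refine h.mem_Q_of_chain hR ?_ (mul_mem hbT hbT) ?_ ?_ ?_
  · refine le_norm_of fun c hc x hx => ?_
    obtain ⟨n, rfl⟩ := mem_zpowers_iff.1 hx
    have : Commute c (z j ^ n) := (show Commute c (z j) from h.Cz j c hc).zpow_right n
    rw [comm_conj' this]
    exact hx
  · intro t ht
    rw [mul_assoc, hbt t ht, ← mul_assoc, hbt t ht, mul_assoc]
  · intro x hx
    obtain ⟨h3, h4⟩ := h.comm_T_Qs hbT hx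
    have h5 := hbt _ (h.mem_Tt_of_Qs h3 h4)
    have e : b * b * x * (b * b)⁻¹ * x⁻¹ =
        (b * x * b⁻¹ * x⁻¹) * (b * x * b⁻¹ * x⁻¹) := by
      calc b * b * x * (b * b)⁻¹ * x⁻¹ =
          b * (b * x * b⁻¹ * x⁻¹) * b⁻¹ * (b * x * b⁻¹ * x⁻¹) := by group
        _ = _ := by rw [comm_conj' h5]
    rw [e]
    exact hmem _ (h.sq_Qs h3)
  · intro x hx
    obtain ⟨n, rfl⟩ := mem_zpowers_iff.1 hx
    have : Commute (b * b) (z j ^ n) :=
      (show Commute (b * b) (z j) from h.Cz j _ (h.TC j (mul_mem hbT hbT))).zpow_right n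
    exact this

/-- **(2)** `B i` is elementary abelian -/
theorem B_sq [Finite G] (h2 : h.Two) {i : ι} {b : G} (hb : b ∈ h.B i) : b * b = 1 := by
  obtain ⟨a, c, ⟨-, -, j, k, -, -, -, hj, -⟩, ⟨-, -, j', k', -, -, -, hj', -⟩, hac⟩ := h2 i
  exact hac _ (hj _ (mul_mem hb hb) (h.B_sq_mem h2 hb)) (hj' _ (mul_mem hb hb) (h.B_sq_mem h2 hb))

theorem B_comm [Finite G] (h2 : h.Two) {i : ι} {b c : G} (hb : b ∈ h.B i) (hc : c ∈ h.B i) :
    b * c = c * b := h.B_T0 h2 hb (h.Tt_le_T0 i (h.B_Tt i hc))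

/-! ### the action of `β ∈ B i` on `Qs j / Zs j` -/

/-- `|E_i| = 8` -/
theorem card_E [Finite G] {i j : ι} (hij : opp i j) : Nat.card ↥(V ⊓ Q i) = 8 := by
  have h1 := card_two (inf_le_left : V ⊓ Q i ≤ V)
    ⟨z j, h.zV j, fun hc => (h.opp_iff i j).1 hij (mem_inf.1 hc).2⟩
    (fun a ha b hb ha' hb' => mem_inf.2 ⟨mul_mem ha hb, h.VQ2 i a ha b hb
      (fun hc => ha' (mem_inf.2 ⟨ha, hc⟩)) (fun hc => hb' (mem_inf.2 ⟨hb, hc⟩))⟩)
  rw [h.cardV] at h1
  omega

/-- the elements of `E_i` commuting with `x ∈ Qs i`, `x ∉ T` -/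
theorem E_comm [Finite G] {i j : ι} (hij : opp i j) {x e f : G} (hx : x ∈ Qs i) (hxT : x ∉ T)
    (he : e ∈ V) (heQ : e ∈ Q i) (hf : f ∈ V) (hfQ : f ∈ Q i) (hex : e * x = x * e)
    (hfx : f * x = x * f) (he1 : e ≠ 1) (hez : e ≠ z i) :
    f = 1 ∨ f = z i ∨ f = e ∨ f = e * z i := by
  let K : Subgroup G := (V ⊓ Q i) ⊓ centralizer ({x} : Set G)
  have hK : ∀ {y}, y ∈ K ↔ (y ∈ V ∧ y ∈ Q i) ∧ y * x = x * y := by
    intro y
    rw [mem_inf, mem_inf, mem_centralizer_singleton_iff]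
  have h1 : Nat.card ↥(V ⊓ Q i) = 2 * Nat.card K := by
    refine card_two inf_le_left ?_ ?_
    · by_contra hcon
      push Not at hcon
      exact hxT (h.T_of_comm hx fun v hv hvQ => ((hK.1 (hcon v (mem_inf.2 ⟨hv, hvQ⟩))).2).symm)
    · intro a ha b hb ha' hb'
      obtain ⟨ha1, ha2⟩ := mem_inf.1 ha
      obtain ⟨hb1, hb2⟩ := mem_inf.1 hb
      refine hK.2 ⟨⟨mul_mem ha1 hb1, mul_mem ha2 hb2⟩, ?_⟩
      have ca : a * x = z i * (x * a) :=
        (h.Qs_comm (h.VQs i a ha1 ha2) hx).resolve_left fun hc => ha' (hK.2 ⟨⟨ha1, ha2⟩, hc⟩)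
      have cb : b * x = z i * (x * b) :=
        (h.Qs_comm (h.VQs i b hb1 hb2) hx).resolve_left fun hc => hb' (hK.2 ⟨⟨hb1, hb2⟩, hc⟩)
      have hza := h.Qcomm_z ha2
      calc a * b * x = a * (b * x) := by group
        _ = (a * z i) * (x * b) := by rw [cb]; group
        _ = z i * ((a * x) * b) := by rw [hza]; group
        _ = (z i * z i) * (x * (a * b)) := by rw [ca]; group
        _ = x * (a * b) := by rw [h.sq, one_mul]
  rw [h.card_E hij] at h1
  exact mem_of_card_four (K := K) (by omega) (hK.2 ⟨⟨h.zV i, h.z_mem_Q i⟩, (h.Qcomm_z (h.QsQ i hx)).symm⟩)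
    (hK.2 ⟨⟨he, heQ⟩, hex⟩) (hK.2 ⟨⟨hf, hfQ⟩, hfx⟩) (h.ne_one i) (h.sq i) he1 hez

/-- `[b, x] = c e`, `c ∈ Zs j`, `e ∈ E_j`, `[e, x] = 1` -/
theorem split_comm [Finite G] (h2 : h.Two) {i j : ι} {b x : G} (hb : b ∈ h.B i) (hx : x ∈ Qs j) :
    ∃ c ∈ h.Zs j, ∃ e ∈ V, e ∈ Q j ∧ b * x * b⁻¹ * x⁻¹ = c * e ∧ e * x = x * e := by
  have hbT := h.B_T i hb
  have hbt : ∀ t ∈ h.Tt j, b * t = t * b := fun t ht => h.B_T0 h2 hb (h.Tt_le_T0 j ht)
  obtain ⟨hd1, hd2⟩ := h.comm_T_Qs hbT hx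
  set d := b * x * b⁻¹ * x⁻¹ with hd
  have hbx : b * x = d * x * b := by rw [hd]; group
  have hbz : b * z j = z j * b := h.Cz j b (h.TC j hbT)
  have hbd : b * d = d * b := hbt d (h.mem_Tt_of_Qs hd1 hd2)
  -- `d` centralises `T ∩ Qs j`
  have hdc : ∀ y ∈ Qs j, y ∈ T → d * y = y * d := by
    intro y hy hyT
    have hby := hbt y (h.mem_Tt_of_Qs hy hyT)
    rcases h.Qs_comm hx hy with hc | hc
    · have e1 : b * (x * y) = b * (y * x) := by rw [hc]
      have e2 : b * (x * y) = d * x * y * b := by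
        calc b * (x * y) = (b * x) * y := by group
          _ = d * x * (b * y) := by rw [hbx]; group
          _ = d * x * y * b := by rw [hby]; group
      have e3 : b * (y * x) = y * d * x * b := by
        calc b * (y * x) = (b * y) * x := by group
          _ = y * (b * x) := by rw [hby]; group
          _ = y * d * x * b := by rw [hbx]; group
      rw [e2, e3] at e1
      have e4 := mul_right_cancel e1
      have e5 : d * y * x = y * d * x := by
        rw [← e4, mul_assoc, ← hc, ← mul_assoc]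
      exact mul_right_cancel e5
    · have e1 : b * (x * y) = b * (z j * (y * x)) := by rw [hc]
      have e2 : b * (x * y) = d * x * y * b := by
        calc b * (x * y) = (b * x) * y := by group
          _ = d * x * (b * y) := by rw [hbx]; group
          _ = d * x * y * b := by rw [hby]; group
      have e3 : b * (z j * (y * x)) = z j * (y * d * x) * b := by
        calc b * (z j * (y * x)) = (b * z j) * (y * x) := by group
          _ = z j * ((b * y) * x) := by rw [hbz]; group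
          _ = z j * (y * (b * x)) := by rw [hby]; group
          _ = z j * (y * d * x) * b := by rw [hbx]; group
      rw [e2, e3] at e1
      have e4 := mul_right_cancel e1
      have hdz := h.Qcomm_z (h.QsQ j hd1)
      have e5 : z j * (d * y * x) = z j * (y * d * x) := by
        calc z j * (d * y * x) = (z j * d) * (y * x) := by group
          _ = d * (z j * (y * x)) := by rw [← hdz]; group
          _ = d * (x * y) := by rw [hc]
          _ = z j * (y * d * x) := by rw [← e4]; group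
      exact mul_right_cancel (mul_left_cancel e5)
  obtain ⟨e, he, heQ, hde⟩ := h.dualE (h.QsQF j hd1) (fun w hw hwT => hdc w hw hwT)
  have heQs := h.VQs j e he heQ
  have he2 := h.Vsq e he
  have hcZ : d * e ∈ h.Zs j := h.mem_Zs.2 ⟨mul_mem hd1 heQs, (h.mem_B.1 hde).2⟩
  have hce : d * e * e = e * (d * e) := (h.mem_B.1 hde).2 e heQs
  have hdee : d = d * e * e := by rw [mul_assoc, he2, mul_one]
  -- `d² = 1`
  have hdd : d * d = 1 := by
    calc d * d = (d * e * e) * (d * e * e) := by rw [← hdee]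
      _ = (e * (d * e)) * (d * e * e) := by rw [hce]
      _ = e * ((d * e) * (d * e)) * e := by group
      _ = 1 := by rw [h.B_sq h2 hde, mul_one, he2]
  -- `(d x)² = x²`
  have hxx : b * (x * x) = x * x * b := by
    rcases h.sq_Qs hx with h3 | h3
    · rw [h3]; simp
    · rw [h3, hbz]
  have h4 : d * x * (d * x) = x * x := by
    have : b * (x * x) = d * x * (d * x) * b := by
      calc b * (x * x) = (b * x) * x := by group
        _ = d * x * b * x := by rw [hbx]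
        _ = d * x * (b * x) := by group
        _ = d * x * (d * x * b) := by rw [hbx]
        _ = d * x * (d * x) * b := by group
    rw [this] at hxx
    exact mul_right_cancel hxx
  have h5 : d * x = x * d := by
    have h6 : d * x * d = x := by
      have : (d * x * d) * x = x * x := by rw [← h4]; group
      exact mul_right_cancel this
    calc d * x = d * x * (d * d) := by rw [hdd, mul_one]
      _ = (d * x * d) * d := by group
      _ = x * d := by rw [h6]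
  refine ⟨d * e, hcZ, e, he, heQ, hdee, ?_⟩
  have h7 : (d * e) * x = x * (d * e) := (h.mem_B.1 hde).2 x hx
  have h8 : d * (e * x) = d * (x * e) := by
    calc d * (e * x) = (d * e) * x := by group
      _ = (x * d) * e := by rw [h7]; group
      _ = d * (x * e) := by rw [← h5]; group
  exact mul_left_cancel h8

/-- **(2)** `b ∈ Q j` or `b z_i ∈ Q j` -/
theorem B_or [Finite G] (h2 : h.Two) {i j : ι} (hij : opp i j) {b : G} (hb : b ∈ h.B i) :
    b ∈ Q j ∨ b * z i ∈ Q j := by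
  have hji := h.symm hij
  have hziB : z i ∈ h.B i := h.Zs_B i (h.z_mem_Zs i)
  have hbT := h.B_T i hb
  have hbt : ∀ t ∈ h.Tt j, b * t = t * b := fun t ht => h.B_T0 h2 hb (h.Tt_le_T0 j ht)
  have hZn : ∀ x ∈ Qs j, ∀ c ∈ h.Zs j, x * c * x⁻¹ ∈ h.Zs j := fun x hx c hc =>
    norm_conj (h.Zs_norm j) (h.QsC j hx) hc
  -- pointwise
  have key : ∀ x ∈ Qs j, b * x * b⁻¹ * x⁻¹ ∈ h.Zs j ∨ (b * z i) * x * (b * z i)⁻¹ * x⁻¹ ∈ h.Zs j := by
    intro x hx
    by_cases hxT : x ∈ T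
    · left
      rw [comm_conj' (hbt x (h.mem_Tt_of_Qs hx hxT)), mul_inv_cancel]
      exact one_mem _
    obtain ⟨c, hc, e, he, heQ, hd, hex⟩ := h.split_comm h2 hb hx
    obtain ⟨c1, hc1, e1, he1, he1Q, hd1, he1x⟩ := h.split_comm h2 hziB hx
    by_cases hez : e = 1 ∨ e = z j
    · left
      rw [hd]
      refine mul_mem hc ?_
      rcases hez with rfl | rfl
      · exact one_mem _
      · exact h.z_mem_Zs j
    push Not at hez
    -- `e1 ∉ ⟨z j⟩`
    have hne : ¬ (e1 = 1 ∨ e1 = z j) := by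
      intro hcon
      have hmem : e1 ∈ h.Zs j := by
        rcases hcon with rfl | rfl
        · exact one_mem _
        · exact h.z_mem_Zs j
      have h3 : z i * x * (z i)⁻¹ * x⁻¹ ∈ h.Zs j := by rw [hd1]; exact mul_mem hc1 hmem
      have h4 : z i * x * (z i)⁻¹ * x⁻¹ ∈ V := by
        have e : z i * x * (z i)⁻¹ * x⁻¹ = z i * (x * (z i)⁻¹ * x⁻¹) := by group
        rw [e]
        exact mul_mem (h.zV i) (h.conj_V (h.QsP j hx) (inv_mem (h.zV i)))
      rcases h.fixE j _ h4 (fun y hy => ((h.mem_Zs.1 h3).2 y hy).symm) with h5 | h5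
      · apply hxT
        refine h.kv j x hx (z i) (h.zV i) ((h.opp_iff j i).1 hji) (Or.inl ?_)
        rw [mul_inv_eq_one, mul_inv_eq_iff_eq_mul] at h5
        exact h5.symm
      · apply hxT
        refine h.kv j x hx (z i) (h.zV i) ((h.opp_iff j i).1 hji) (Or.inr ?_)
        have h6 : z i * x = z j * (x * z i) := by
          calc z i * x = (z i * x * (z i)⁻¹ * x⁻¹) * (x * z i) := by group
            _ = z j * (x * z i) := by rw [h5]
        rw [h6, ← mul_assoc, h.sq, one_mul]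
    push Not at hne
    right
    have h9 : e1 * e = 1 ∨ e1 * e = z j := by
      rcases h.E_comm hji hx hxT he heQ he1 he1Q hex he1x hez.1 hez.2 with h3 | h3 | h3 | h3
      · exact absurd h3 hne.1
      · exact absurd h3 hne.2
      · left; rw [h3]; exact h.Vsq e he
      · right
        rw [h3, h.Vab e he (z j) (h.zV j), mul_assoc, h.Vsq e he, mul_one]
    have hcB := (h.mem_Zs.1 hc).2
    have h10 : (b * z i) * x * (b * z i)⁻¹ * x⁻¹ = c1 * c * (e1 * e) := by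
      have hd1m : z i * x * (z i)⁻¹ * x⁻¹ ∈ h.Tt j := by
        obtain ⟨h3, h4⟩ := h.comm_T_Qs (h.B_T i hziB) hx
        exact h.mem_Tt_of_Qs h3 h4
      have h11 := hbt _ hd1m
      calc (b * z i) * x * (b * z i)⁻¹ * x⁻¹
          = b * (z i * x * (z i)⁻¹ * x⁻¹) * b⁻¹ * (b * x * b⁻¹ * x⁻¹) := by group
        _ = (c1 * e1) * (c * e) := by rw [comm_conj' h11, hd1, hd]
        _ = c1 * (e1 * c) * e := by group
        _ = c1 * (c * e1) * e := by rw [hcB e1 (h.VQs j e1 he1 he1Q)]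
        _ = c1 * c * (e1 * e) := by group
    rw [h10]
    refine mul_mem (mul_mem hc1 hc) ?_
    rcases h9 with h9 | h9 <;> rw [h9]
    · exact one_mem _
    · exact h.z_mem_Zs j
  -- subgroups
  have sub : ∀ β : G, ∀ x ∈ Qs j, ∀ y ∈ Qs j, β * x * β⁻¹ * x⁻¹ ∈ h.Zs j →
      β * (x * y) * β⁻¹ * (x * y)⁻¹ ∈ h.Zs j → β * y * β⁻¹ * y⁻¹ ∈ h.Zs j := by
    intro β x hx y hy h3 h4
    have e : β * y * β⁻¹ * y⁻¹ = x⁻¹ * ((β * x * β⁻¹ * x⁻¹)⁻¹ *
        (β * (x * y) * β⁻¹ * (x * y)⁻¹)) * x⁻¹⁻¹ := by group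
    rw [e]
    exact hZn _ (inv_mem hx) _ (mul_mem (inv_mem h3) h4)
  have sub' : ∀ β : G, ∀ x ∈ Qs j, ∀ y ∈ Qs j, β * y * β⁻¹ * y⁻¹ ∈ h.Zs j →
      β * (x * y) * β⁻¹ * (x * y)⁻¹ ∈ h.Zs j → β * x * β⁻¹ * x⁻¹ ∈ h.Zs j := by
    intro β x hx y hy h3 h4
    have e : β * x * β⁻¹ * x⁻¹ = (β * (x * y) * β⁻¹ * (x * y)⁻¹) *
        (x * (β * y * β⁻¹ * y⁻¹)⁻¹ * x⁻¹) := by group
    rw [e]
    exact mul_mem h4 (hZn _ hx _ (inv_mem h3))
  have fin : ∀ β ∈ h.B i, (∀ x ∈ Qs j, β * x * β⁻¹ * x⁻¹ ∈ h.Zs j) → β ∈ Q j := by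
    intro β hβ h3
    have hβt : ∀ t ∈ h.Tt j, β * t = t * β := fun t ht => h.B_T0 h2 hβ (h.Tt_le_T0 j ht)
    exact h.mem_Q_of_chain (R := h.Zs j) (fun x hx => (h.mem_Zs.1 hx).1) (h.Zs_norm j)
      (h.B_T i hβ) hβt h3 (fun x hx => hβt x (h.B_Tt j (h.Zs_B j hx)))
  by_cases hall : ∀ x ∈ Qs j, b * x * b⁻¹ * x⁻¹ ∈ h.Zs j
  · exact Or.inl (fin b hb hall)
  right
  refine fin _ (mul_mem hb hziB) fun x hx => ?_
  push Not at hall
  obtain ⟨y, hy, hyn⟩ := hall
  by_contra hxn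
  have hx1 := (key x hx).resolve_right hxn
  have hy1 := (key y hy).resolve_left hyn
  rcases key (x * y) (mul_mem hx hy) with h3 | h3
  · exact hyn (sub b x hx y hy hx1 h3)
  · exact hxn (sub' _ x hx y hy hy1 h3)

/-- **(2)** `QF i = Qs i B i` -/
theorem QF_eq [Finite G] (h2 : h.Two) {i : ι} {x : G} (hx : x ∈ QF i) :
    ∃ y ∈ Qs i, ∃ b ∈ h.B i, x = y * b := by
  obtain ⟨t, ht, y, hy, rfl⟩ := h.QFT i x hx
  have htQ : t ∈ h.Tt i := h.mem_Tt.2 ⟨ht, by
    have h3 : t * y * y⁻¹ ∈ Q i := mul_mem (h.QFQ i hx) (inv_mem (h.QsQ i hy))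
    rwa [mul_inv_cancel_right] at h3⟩
  have htF := h.Tt_QF htQ
  obtain ⟨e, he, h3⟩ := dual (X := Qs i) (E := Qs i) (u := t) (h.ne_one i) (h.sq i)
    (fun x hx => h.Qcomm_z (h.QsQ i hx)) (fun e he => h.Qcomm_z (h.QsQ i he))
    (fun e he x hx => h.Qs_comm he hx) (h.Qcomm_z (h.QFQ i htF))
    (fun x hx => by
      rcases h.com i x hx t htF with h3 | h3
      · exact Or.inl h3.symm
      · refine Or.inr ?_
        rw [h3, ← mul_assoc, h.sq, one_mul])
    (fun x hx hxe => by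
      have h4 : x ∈ h.B i := h.Zs_B i (h.mem_Zs.2 ⟨hx, fun y hy => (hxe y hy).symm⟩)
      exact (h.B_T0 h2 h4 (h.Tt_le_T0 i htQ)).symm)
  have hb : t * e ∈ h.B i := h.mem_B.2 ⟨mul_mem htF (h.QsQF i he), h3⟩
  refine ⟨e⁻¹ * y, mul_mem (inv_mem he) hy, t * e, hb, ?_⟩
  rw [← (h.mem_B.1 hb).2 _ (mul_mem (inv_mem he) hy)]
  group

/-! ### the case `Δ = V` -/

/-- `Δ = V` gives the hypothesis `Two`. -/
theorem two_of_V [Finite G] (hD : h.Dl ≤ V) : h.Two := by
  have key : ∀ i j, opp i j → ∀ x ∈ h.B i, x ∈ Q j → x = 1 ∨ x = 1 := by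
    intro i j hij x hx hxj
    have h1 := hD (h.inter_Dl hij (h.B_Tt i hx) (h.mem_Tt.2 ⟨h.B_T i hx, hxj⟩))
    rcases h.fixE i x h1 (fun y hy => ((h.mem_B.1 hx).2 y hy).symm) with h2 | h2
    · exact Or.inl h2
    · exfalso
      rw [h2] at hxj
      exact (h.opp_iff j i).1 (h.symm hij) hxj
  intro i
  obtain ⟨j, k, hij, hik, hjk⟩ := h.tri i
  have hg : h.Good i 1 := ⟨fun t _ => by simp, by simp, j, k, hij, hik, hjk, key i j hij,
    key i k hik⟩
  exact ⟨1, 1, hg, hg, fun x hx _ => by rcases hx with rfl | rfl <;> rfl⟩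

/-- **(2)**, `Δ = V`: `B i = ⟨z i⟩` -/
theorem B_eq_of_V [Finite G] (hD : h.Dl ≤ V) {i : ι} {b : G} (hb : b ∈ h.B i) : b = 1 ∨ b = z i := by
  obtain ⟨j, k, hij, hik, hjk⟩ := h.tri i
  have key : ∀ x ∈ h.B i, x ∈ Q j → x = 1 := by
    intro x hx hxj
    have h1 := hD (h.inter_Dl hij (h.B_Tt i hx) (h.mem_Tt.2 ⟨h.B_T i hx, hxj⟩))
    rcases h.fixE i x h1 (fun y hy => ((h.mem_B.1 hx).2 y hy).symm) with h2 | h2
    · exact h2
    · exfalso
      rw [h2] at hxj
      exact (h.opp_iff j i).1 (h.symm hij) hxj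
  rcases h.B_or (h.two_of_V hD) hij hb with h1 | h1
  · exact Or.inl (key b hb h1)
  · right
    have h2 := key _ (mul_mem hb (h.Zs_B i (h.z_mem_Zs i))) h1
    calc b = (b * z i) * z i := by rw [mul_assoc, h.sq, mul_one]
      _ = z i := by rw [h2, one_mul]

/-- **(2)**, `Δ = V`: `QF i = Qs i` -/
theorem QF_eq_of_V [Finite G] (hD : h.Dl ≤ V) (i : ι) : QF i = Qs i := by
  refine le_antisymm (fun x hx => ?_) (h.QsQF i)
  obtain ⟨y, hy, b, hb, rfl⟩ := h.QF_eq (h.two_of_V hD) hx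
  refine mul_mem hy ?_
  rcases h.B_eq_of_V hD hb with rfl | rfl
  · exact one_mem _
  · exact h.z_mem_Qs i

/-- `Δ = V`: `Zs i = ⟨z i⟩`, so `Qs i` is extraspecial -/
theorem Zs_eq_of_V [Finite G] (hD : h.Dl ≤ V) {i : ι} {x : G} (hx : x ∈ Qs i)
    (hc : ∀ y ∈ Qs i, x * y = y * x) : x = 1 ∨ x = z i :=
  h.B_eq_of_V hD (h.Zs_B i (h.mem_Zs.2 ⟨hx, hc⟩))

end Conf

end Cfsg.Agent.Omega.NOne.AG

end

section


/-!
# D0ag, type (α): the table of the 15 points of `F₄²`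

`F` is a field with four elements, `w ∈ F`, `w² = w + 1`.  The vectors of `F²` are encoded by four bits,
`ps w : B4 → F²`; `tb a b c d` is the point `z_{ab|cd}`.  The elements of `SL₂(F)` and the field
automorphism permute the points through `S₅`.
-/

set_option autoImplicit false
set_option linter.unusedSectionVars false

namespace Cfsg.Agent.Omega.NOne.AG.Tab

open Cfsg.Agent.Lib.SL2Mat Cfsg.Agent.Omega.NatPair

/-- four bits -/
abbrev B4 : Type := Bool × Bool × Bool × Bool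

/-- addition -/
def ad (x y : B4) : B4 := (xor x.1 y.1, xor x.2.1 y.2.1, xor x.2.2.1 y.2.2.1, xor x.2.2.2 y.2.2.2)

/-- the bits of a number -/
def dec : ℕ → B4
  | 1 => (true, false, false, false)
  | 2 => (false, true, false, false)
  | 3 => (true, true, false, false)
  | 4 => (false, false, true, false)
  | 5 => (true, false, true, false)
  | 6 => (false, true, true, false)
  | 7 => (true, true, true, false)
  | 8 => (false, false, false, true)
  | 9 => (true, false, false, true)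
  | 10 => (false, true, false, true)
  | 11 => (true, true, false, true)
  | 12 => (false, false, true, true)
  | 13 => (true, false, true, true)
  | 14 => (false, true, true, true)
  | 15 => (true, true, true, true)
  | _ => (false, false, false, false)

/-- the table -/
def tabL : List ℕ :=
  [0, 0, 0, 0, 0, 0, 0, 5, 11, 14, 0, 4, 0, 13, 9, 0, 8, 15, 0, 7, 0, 12, 10, 6, 0, 0, 0, 5, 11, 14, 0, 0,
   0, 0, 0, 1, 0, 0, 6, 7, 3, 0, 10, 0, 9, 2, 0, 15, 13, 0, 0, 4, 0, 13, 9, 1, 0, 0, 6, 7, 0, 0, 0, 0, 0,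
   2, 12, 0, 0, 14, 3, 8, 0, 11, 0, 0, 8, 15, 0, 7, 3, 0, 10, 0, 9, 2, 12, 0, 0, 14, 0, 0, 0, 0, 0, 1, 4,
   5, 0, 0, 0, 12, 10, 6, 0, 2, 0, 15, 13, 0, 3, 8, 0, 11, 0, 1, 4, 5, 0, 0, 0, 0, 0, 0, 0]

/-- `z_{ab|cd}` -/
def tb (a b c d : Fin 5) : B4 :=
  dec (tabL.getD (25 * a.1 + 5 * b.1 + (-(a + b + c + d) : Fin 5).1) 0)

theorem m_eq : ∀ a b c d m : Fin 5, D5 a b c d m → m = -(a + b + c + d) := by decide +kernel

theorem tb_swap1 : ∀ a b c d, D4 a b c d → tb a b c d = tb b a c d := by decide +kernel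

theorem tb_swap2 : ∀ a b c d, D4 a b c d → tb a b c d = tb c d a b := by decide +kernel

theorem tb_ne : ∀ a b c d, D4 a b c d → tb a b c d ≠ (false, false, false, false) := by decide +kernel

theorem tb_surj : ∀ x : B4, x ≠ (false, false, false, false) → ∃ a b c d, D4 a b c d ∧ x = tb a b c d := by
  decide +kernel

theorem tb_line4 : ∀ a b c d, D4 a b c d → ad (tb a b c d) (tb a c b d) = tb a d b c := by decide +kernel

theorem tb_line2 : ∀ a b c d m, D5 a b c d m → ad (tb a b c d) (tb a b c m) = tb a b d m := by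
  decide +kernel

theorem tb_hyp : ∀ a b c d m, D5 a b c d m → ad (tb a b c d) (tb b c d m) = tb b m a d := by
  decide +kernel

/-- `x ↦ x₀ + x₁` -/
def U1 (x : B4) : B4 := (xor x.1 x.2.2.1, xor x.2.1 x.2.2.2, x.2.2.1, x.2.2.2)
/-- `x ↦ x₀ + w x₁` -/
def Uw (x : B4) : B4 := (xor x.1 x.2.2.2, xor x.2.1 (xor x.2.2.1 x.2.2.2), x.2.2.1, x.2.2.2)
/-- `x ↦ x₁ + x₀` -/
def L1 (x : B4) : B4 := (x.1, x.2.1, xor x.2.2.1 x.1, xor x.2.2.2 x.2.1)
/-- `x ↦ x₁ + w x₀` -/
def Lw (x : B4) : B4 := (x.1, x.2.1, xor x.2.2.1 x.2.1, xor x.2.2.2 (xor x.1 x.2.1))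
/-- the field automorphism -/
def Th (x : B4) : B4 := (xor x.1 x.2.1, x.2.1, xor x.2.2.1 x.2.2.2, x.2.2.2)

/-- the permutations -/
def sU1 : Equiv.Perm (Fin 5) := ⟨![0, 2, 1, 4, 3], ![0, 2, 1, 4, 3], by decide, by decide⟩
@[inherit_doc sU1] def sUw : Equiv.Perm (Fin 5) := ⟨![0, 3, 4, 1, 2], ![0, 3, 4, 1, 2], by decide, by decide⟩
@[inherit_doc sU1] def sL1 : Equiv.Perm (Fin 5) := ⟨![2, 1, 0, 4, 3], ![2, 1, 0, 4, 3], by decide, by decide⟩
@[inherit_doc sU1] def sLw : Equiv.Perm (Fin 5) := ⟨![4, 1, 3, 2, 0], ![4, 1, 3, 2, 0], by decide, by decide⟩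

theorem tb_U1 : ∀ a b c d, D4 a b c d → U1 (tb a b c d) = tb (sU1 a) (sU1 b) (sU1 c) (sU1 d) := by
  decide +kernel

theorem tb_Uw : ∀ a b c d, D4 a b c d → Uw (tb a b c d) = tb (sUw a) (sUw b) (sUw c) (sUw d) := by
  decide +kernel

theorem tb_L1 : ∀ a b c d, D4 a b c d → L1 (tb a b c d) = tb (sL1 a) (sL1 b) (sL1 c) (sL1 d) := by
  decide +kernel

theorem tb_Lw : ∀ a b c d, D4 a b c d → Lw (tb a b c d) = tb (sLw a) (sLw b) (sLw c) (sLw d) := by
  decide +kernel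

theorem tb_Th : ∀ a b c d, D4 a b c d → Th (tb a b c d) =
    tb (Equiv.swap 3 4 a) (Equiv.swap 3 4 b) (Equiv.swap 3 4 c) (Equiv.swap 3 4 d) := by
  decide +kernel

theorem closure_top : Subgroup.closure ({sUw * sL1, Equiv.swap 3 4} : Set (Equiv.Perm (Fin 5))) = ⊤ := by
  apply Equiv.Perm.closure_prime_cycle_swap
  · rw [Fintype.card_fin]; norm_num
  · refine ⟨0, by decide, ?_⟩
    have h : ∀ y : Fin 5, ∃ n : Fin 5, ((sUw * sL1) ^ n.1) 0 = y := by decide
    intro y _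
    obtain ⟨n, hn⟩ := h y
    exact ⟨n.1, by rw [zpow_natCast]; exact hn⟩
  · decide
  · exact ⟨3, 4, by decide, rfl⟩

end Cfsg.Agent.Omega.NOne.AG.Tab

end

section


/-!
# D0ag, type (α): the points of `F₄²` and `ΣL₂(4) = S₅`

`W4 w` : the elements of `F` are `0, 1, w, w + 1`, `w² = w + 1`.
`Act φ σ` : the map `φ` of `F²` permutes the points `zz a b c d` as `σ ∈ S₅`.
-/

set_option autoImplicit false
set_option linter.unusedSectionVars false

namespace Cfsg.Agent.Omega.NOne.AG.Tab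

open Cfsg.Agent.Lib.SL2Mat Cfsg.Agent.Omega.NatPair

variable {F : Type*} [Field F]

/-- the elements of the field with four elements -/
structure W4 (w : F) : Prop where
  two : (2 : F) = 0
  sq : w * w = w + 1
  all : ∀ x : F, x = 0 ∨ x = 1 ∨ x = w ∨ x = w + 1

theorem exists_w4 [Finite F] [CharP F 2] (h4 : Nat.card F = 4) : ∃ w : F, W4 w := by
  classical
  have := Fintype.ofFinite F
  rw [Nat.card_eq_fintype_card] at h4
  have h2 : (2 : F) = 0 := CharTwo.two_eq_zero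
  have hex : ∃ w : F, w ≠ 0 ∧ w ≠ 1 := by
    by_contra hcon
    push Not at hcon
    have h1 : (Finset.univ : Finset F) ⊆ {0, 1} := by
      intro x _
      by_cases hx : x = 0
      · simp [hx]
      · simp [hcon x hx]
    have h5 := Finset.card_le_card h1
    rw [Finset.card_univ, h4] at h5
    have h6 : ({0, 1} : Finset F).card ≤ 2 := Finset.card_le_two
    omega
  obtain ⟨w, hw0, hw1⟩ := hex
  have hw3 : w ^ 3 = 1 := by
    have := FiniteField.pow_card_sub_one_eq_one w hw0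
    rwa [h4] at this
  have hsq : w * w = w + 1 := by
    have h1 : (w - 1) * (w * w + w + 1) = 0 := by linear_combination hw3
    have h3 := (mul_eq_zero.1 h1).resolve_left (sub_ne_zero.2 hw1)
    linear_combination h3 - (w + 1) * h2
  refine ⟨w, h2, hsq, ?_⟩
  have hw2 : w + 1 ≠ 0 := by
    intro h
    apply hw1
    linear_combination h - h2
  have hcard : ({0, 1, w, w + 1} : Finset F).card = 4 := by
    rw [Finset.card_eq_of_equiv_fin]
    refine Fintype.equivFinOfCardEq ?_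
    rw [Fintype.card_coe, Finset.card_insert_of_notMem, Finset.card_insert_of_notMem,
      Finset.card_insert_of_notMem, Finset.card_singleton]
    · simp
    · simp only [Finset.mem_insert, Finset.mem_singleton, not_or]
      exact ⟨fun h => hw1 h.symm, fun h => hw0 (by linear_combination -h)⟩
    · simp only [Finset.mem_insert, Finset.mem_singleton, not_or]
      exact ⟨zero_ne_one, fun h => hw0 h.symm, fun h => hw2 h.symm⟩
  have huniv : ({0, 1, w, w + 1} : Finset F) = Finset.univ := by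
    apply Finset.eq_univ_of_card
    rw [hcard, h4]
  intro x
  have := huniv ▸ Finset.mem_univ x
  simpa using this

/-- `0` or `1` -/
def bf (b : Bool) : F := if b then 1 else 0

/-- the vector of four bits -/
def ps (w : F) (x : B4) : Fin 2 → F := ![bf x.1 + bf x.2.1 * w, bf x.2.2.1 + bf x.2.2.2 * w]

theorem bf_xor (h2 : (2 : F) = 0) (a b : Bool) : (bf (xor a b) : F) = bf a + bf b := by
  cases a <;> cases b <;> simp [bf]
  linear_combination -h2

variable {w : F}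

theorem ps_ad (h : W4 w) (x y : B4) : ps w (ad x y) = ps w x + ps w y := by
  apply ext2
  · show (bf (xor x.1 y.1) : F) + bf (xor x.2.1 y.2.1) * w =
      (bf x.1 + bf x.2.1 * w) + (bf y.1 + bf y.2.1 * w)
    rw [bf_xor h.two, bf_xor h.two]; ring
  · show (bf (xor x.2.2.1 y.2.2.1) : F) + bf (xor x.2.2.2 y.2.2.2) * w =
      (bf x.2.2.1 + bf x.2.2.2 * w) + (bf y.2.2.1 + bf y.2.2.2 * w)
    rw [bf_xor h.two, bf_xor h.two]; ring

theorem ps_zero : ps w (false, false, false, false) = 0 := by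
  apply ext2 <;> simp [ps, bf]

theorem bf_inj (h : W4 w) {a b c d : Bool} (he : (bf a : F) + bf b * w = bf c + bf d * w) :
    a = c ∧ b = d := by
  have hw0 : w ≠ 0 := by
    intro h0
    have := h.sq
    rw [h0] at this
    simp at this
  have hw1 : w ≠ 1 := by
    intro h0
    have := h.sq
    rw [h0] at this
    simp at this
  have hw2 : (1 : F) + w ≠ 0 := by
    intro h0
    apply hw1
    linear_combination h0 - h.two
  have hw3 : (1 : F) + w ≠ 1 := fun h0 => hw0 (by linear_combination h0)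
  have hw4 : (1 : F) + w ≠ w := fun h0 => one_ne_zero (α := F) (by linear_combination h0)
  cases a <;> cases b <;> cases c <;> cases d <;>
    simp [bf, hw0, hw1, hw2, hw3, hw4, hw0.symm, hw1.symm, hw2.symm, hw3.symm, hw4.symm] at he ⊢

theorem ps_inj (h : W4 w) {x y : B4} (he : ps w x = ps w y) : x = y := by
  obtain ⟨h1, h2⟩ := bf_inj h (congrFun he 0)
  obtain ⟨h3, h4⟩ := bf_inj h (congrFun he 1)
  obtain ⟨x1, x2, x3, x4⟩ := x
  obtain ⟨y1, y2, y3, y4⟩ := y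
  simp only at h1 h2 h3 h4
  rw [h1, h2, h3, h4]

theorem bf_surj (h : W4 w) (x : F) : ∃ a b : Bool, x = bf a + bf b * w := by
  rcases h.all x with rfl | rfl | rfl | rfl
  · exact ⟨false, false, by simp [bf]⟩
  · exact ⟨true, false, by simp [bf]⟩
  · exact ⟨false, true, by simp [bf]⟩
  · exact ⟨true, true, by simp [bf]; ring⟩

theorem ps_surj (h : W4 w) (x : Fin 2 → F) : ∃ b : B4, x = ps w b := by
  obtain ⟨a, b, h1⟩ := bf_surj h (x 0)
  obtain ⟨c, d, h2⟩ := bf_surj h (x 1)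
  exact ⟨(a, b, c, d), ext2 h1 h2⟩

/-- the point `z_{ab|cd}` -/
def zz (w : F) (a b c d : Fin 5) : Fin 2 → F := ps w (tb a b c d)

/-- `φ` permutes the points as `σ` -/
def Act (w : F) (φ : (Fin 2 → F) → (Fin 2 → F)) (σ : Equiv.Perm (Fin 5)) : Prop :=
  ∀ a b c d, D4 a b c d → φ (zz w a b c d) = zz w (σ a) (σ b) (σ c) (σ d)

theorem D4.map {a b c d : Fin 5} (h : D4 a b c d) (σ : Equiv.Perm (Fin 5)) :
    D4 (σ a) (σ b) (σ c) (σ d) := by
  obtain ⟨h1, h2, h3, h4, h5, h6⟩ := h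
  exact ⟨σ.injective.ne h1, σ.injective.ne h2, σ.injective.ne h3, σ.injective.ne h4,
    σ.injective.ne h5, σ.injective.ne h6⟩

theorem Act.comp {φ ψ : (Fin 2 → F) → (Fin 2 → F)} {σ τ : Equiv.Perm (Fin 5)} (h1 : Act w φ σ)
    (h2 : Act w ψ τ) : Act w (fun x => φ (ψ x)) (σ * τ) := by
  intro a b c d hd
  show φ (ψ (zz w a b c d)) = _
  rw [h2 a b c d hd, h1 _ _ _ _ (D4.map hd τ)]
  rfl

theorem Act.id : Act w (fun x => x) 1 := fun _ _ _ _ _ => rfl

theorem act_up_one (h : W4 w) : Act w (ap (up 1)) sU1 := by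
  intro a b c d hd
  have h1 : ∀ x : B4, ap (up 1) (ps w x) = ps w (U1 x) := by
    intro x
    apply ext2
    · rw [ap_zero', up_00, up_01]
      simp only [ps, U1, Matrix.cons_val_zero, Matrix.cons_val_one, bf_xor h.two]; ring
    · rw [ap_one', up_10, up_11]
      simp only [ps, U1, Matrix.cons_val_zero, Matrix.cons_val_one]; ring
  rw [zz, h1, tb_U1 a b c d hd]; rfl

theorem act_up_w (h : W4 w) : Act w (ap (up w)) sUw := by
  intro a b c d hd
  have h1 : ∀ x : B4, ap (up w) (ps w x) = ps w (Uw x) := by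
    intro x
    apply ext2
    · rw [ap_zero', up_00, up_01]
      simp only [ps, Uw, Matrix.cons_val_zero, Matrix.cons_val_one, bf_xor h.two]
      linear_combination (bf x.2.2.2 : F) * h.sq
    · rw [ap_one', up_10, up_11]
      simp only [ps, Uw, Matrix.cons_val_zero, Matrix.cons_val_one]; ring
  rw [zz, h1, tb_Uw a b c d hd]; rfl

theorem act_lo_one (h : W4 w) : Act w (ap (lo 1)) sL1 := by
  intro a b c d hd
  have h1 : ∀ x : B4, ap (lo 1) (ps w x) = ps w (L1 x) := by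
    intro x
    apply ext2
    · rw [ap_zero', lo_00, lo_01]
      simp only [ps, L1, Matrix.cons_val_zero, Matrix.cons_val_one]; ring
    · rw [ap_one', lo_10, lo_11]
      simp only [ps, L1, Matrix.cons_val_zero, Matrix.cons_val_one, bf_xor h.two]; ring
  rw [zz, h1, tb_L1 a b c d hd]; rfl

theorem act_lo_w (h : W4 w) : Act w (ap (lo w)) sLw := by
  intro a b c d hd
  have h1 : ∀ x : B4, ap (lo w) (ps w x) = ps w (Lw x) := by
    intro x
    apply ext2
    · rw [ap_zero', lo_00, lo_01]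
      simp only [ps, Lw, Matrix.cons_val_zero, Matrix.cons_val_one]; ring
    · rw [ap_one', lo_10, lo_11]
      simp only [ps, Lw, Matrix.cons_val_zero, Matrix.cons_val_one, bf_xor h.two]
      linear_combination (bf x.2.1 : F) * h.sq
  rw [zz, h1, tb_Lw a b c d hd]; rfl

/-- squaring of the coordinates -/
def fr (x : Fin 2 → F) : Fin 2 → F := ![x 0 * x 0, x 1 * x 1]

theorem bf_sq (a : Bool) : (bf a : F) * bf a = bf a := by
  cases a <;> simp [bf]

theorem act_fr (h : W4 w) : Act w fr (Equiv.swap 3 4) := by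
  intro a b c d hd
  have h1 : ∀ x : B4, fr (ps w x) = ps w (Th x) := by
    intro x
    apply ext2
    · simp only [fr, ps, Th, Matrix.cons_val_zero, Matrix.cons_val_one, bf_xor h.two]
      linear_combination bf_sq (F := F) x.1 + (w * w) * bf_sq (F := F) x.2.1 + (bf x.2.1 : F) * h.sq +
        (bf x.1 * bf x.2.1 * w : F) * h.two
    · simp only [fr, ps, Th, Matrix.cons_val_zero, Matrix.cons_val_one, bf_xor h.two]
      linear_combination bf_sq (F := F) x.2.2.1 + (w * w) * bf_sq (F := F) x.2.2.2 + (bf x.2.2.2 : F) * h.sq +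
        (bf x.2.2.1 * bf x.2.2.2 * w : F) * h.two
  rw [zz, h1, tb_Th a b c d hd]; rfl

theorem exists_up (h : W4 w) (b : F) : ∃ σ, Act w (ap (up b)) σ := by
  rcases h.all b with rfl | rfl | rfl | rfl
  · refine ⟨1, ?_⟩
    rw [up_zero]
    intro a b c d hd
    rw [ap_one]; rfl
  · exact ⟨_, act_up_one h⟩
  · exact ⟨_, act_up_w h⟩
  · refine ⟨sUw * sU1, ?_⟩
    rw [← up_mul]
    have := (act_up_w h).comp (act_up_one h)
    intro a b c d hd
    rw [ap_mul]
    exact this a b c d hd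

theorem exists_lo (h : W4 w) (b : F) : ∃ σ, Act w (ap (lo b)) σ := by
  rcases h.all b with rfl | rfl | rfl | rfl
  · refine ⟨1, ?_⟩
    rw [lo_zero]
    intro a b c d hd
    rw [ap_one]; rfl
  · exact ⟨_, act_lo_one h⟩
  · exact ⟨_, act_lo_w h⟩
  · refine ⟨sLw * sL1, ?_⟩
    rw [← lo_mul]
    have := (act_lo_w h).comp (act_lo_one h)
    intro a b c d hd
    rw [ap_mul]
    exact this a b c d hd

theorem exists_act (h : W4 w) (A : Matrix.SpecialLinearGroup (Fin 2) F) : ∃ σ, Act w (ap A) σ := by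
  obtain ⟨a, b, c, d, rfl⟩ := exists_up_lo A
  obtain ⟨σ1, h1⟩ := exists_up h a
  obtain ⟨σ2, h2⟩ := exists_lo h b
  obtain ⟨σ3, h3⟩ := exists_up h c
  obtain ⟨σ4, h4⟩ := exists_lo h d
  refine ⟨σ1 * (σ2 * (σ3 * σ4)), ?_⟩
  have := h1.comp (h2.comp (h3.comp h4))
  intro i j k l hd
  rw [mul_assoc, mul_assoc, ap_mul, ap_mul, ap_mul]
  exact this i j k l hd

theorem zz_ne (h : W4 w) {a b c d : Fin 5} (hd : D4 a b c d) : zz w a b c d ≠ 0 := by
  intro h0
  rw [zz, ← ps_zero (w := w)] at h0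
  exact tb_ne a b c d hd (ps_inj h h0)

theorem zz_surj (h : W4 w) {x : Fin 2 → F} (hx : x ≠ 0) : ∃ a b c d, D4 a b c d ∧ x = zz w a b c d := by
  obtain ⟨b, rfl⟩ := ps_surj h x
  have hb : b ≠ (false, false, false, false) := by
    rintro rfl
    exact hx ps_zero
  obtain ⟨i, j, k, l, hd, e⟩ := tb_surj b hb
  exact ⟨i, j, k, l, hd, by rw [zz, ← e]⟩

end Cfsg.Agent.Omega.NOne.AG.Tab

end
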