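import Cfsg.Agent.Mrg.Omega.NOne.AG.Base
import Cfsg.Agent.Mrg.Omega.NOne.AG.Tools


/-!
# THEOREM D0ag (bb #15001): type (γ), `Δ = V`

`Base.Dl_le_of`: `r₁, r₂ ∈ P` of order 3 modulo `C_P(V)`, `C_V(r₁) = 1`, `⟨r₁, r₂⟩ C_P(V)` abelian modulo `C_P(V)` and
`r₁^P ⊆ {r₁^{±1}, r₂^{±1}} C_P(V)`: `Δ = V`.  `Base.Dl_le_of_plus2`: this for `V = O₄⁺(2)`.
-/

set_option autoImplicit false

namespace Cfsg.Agent.Omega.NOne.AG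

open Subgroup Cfsg Cfsg.Agent.ZN Cfsg.Agent.Omega.MinPar Cfsg.Agent.Omega.Frame

universe u

variable {G : Type u} [Group G] {ι : Type*}

namespace Base

variable [Finite G] {S : Sylow 2 G} {P V T : Subgroup G} {z : ι → G} {opp : ι → ι → Prop}
  {C Q QF Qs : ι → Subgroup G} {i₀ : ι}

/-- `x`, `y` act in the same way on `V`. -/
def Eqv (V : Subgroup G) (x y : G) : Prop := ∀ v ∈ V, x * v * x⁻¹ = y * v * y⁻¹

omit [Finite G] in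
theorem Eqv.comm {V : Subgroup G} {x y : G} (h : Eqv V x y) {v : G} (hv : v ∈ V) :
    (y⁻¹ * x) * v = v * (y⁻¹ * x) := by
  have h1 := h v hv
  calc (y⁻¹ * x) * v = y⁻¹ * (x * v * x⁻¹) * x := by group
    _ = v * (y⁻¹ * x) := by rw [h1]; group

section

variable (h : Base S P V T z opp C Q QF Qs i₀)
include h

/-- Two elements of `P` acting in the same way on `V` act in the same way on `Δ`. -/
theorem eqv_Dl {x y : G} (hx : x ∈ P) (hy : y ∈ P) (hxy : Eqv V x y) {d : G} (hd : d ∈ h.toConf.Dl) :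
    x * d * x⁻¹ = y * d * y⁻¹ := by
  have : Nonempty ι := ⟨i₀⟩
  have h1 := h.toConf.Dl_comm (mul_mem (inv_mem hy) hx) (fun v hv => hxy.comm hv) hd
  calc x * d * x⁻¹ = y * ((y⁻¹ * x) * d) * x⁻¹ := by group
    _ = y * (d * (y⁻¹ * x)) * x⁻¹ := by rw [h1]
    _ = y * d * y⁻¹ := by group

/-- `{x ∈ P : [x, Δ] ≤ V}` -/
def KD : Subgroup G where
  carrier := {x | x ∈ P ∧ ∀ d ∈ h.toConf.Dl, x * d * x⁻¹ * d⁻¹ ∈ V}
  one_mem' := ⟨one_mem _, fun d _ => by simp⟩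
  mul_mem' := by
    rintro a b ⟨ha, ha'⟩ ⟨hb, hb'⟩
    refine ⟨mul_mem ha hb, fun d hd => ?_⟩
    have e : a * b * d * (a * b)⁻¹ * d⁻¹ =
        (a * (b * d * b⁻¹ * d⁻¹) * a⁻¹) * (a * d * a⁻¹ * d⁻¹) := by group
    rw [e]
    exact mul_mem (h.toConf.conj_V ha (hb' d hd)) (ha' d hd)
  inv_mem' := by
    rintro a ⟨ha, ha'⟩
    refine ⟨inv_mem ha, fun d hd => ?_⟩
    have e : a⁻¹ * d * a⁻¹⁻¹ * d⁻¹ = a⁻¹ * (a * d * a⁻¹ * d⁻¹)⁻¹ * a⁻¹⁻¹ := by group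
    rw [e]
    exact h.toConf.conj_V (inv_mem ha) (inv_mem (ha' d hd))

theorem mem_KD {x : G} : x ∈ h.KD ↔ x ∈ P ∧ ∀ d ∈ h.toConf.Dl, x * d * x⁻¹ * d⁻¹ ∈ V := Iff.rfl

theorem KD_conj {m x : G} (hm : m ∈ P) (hx : x ∈ h.KD) : m * x * m⁻¹ ∈ h.KD := by
  obtain ⟨hx1, hx2⟩ := h.mem_KD.1 hx
  refine h.mem_KD.2 ⟨mul_mem (mul_mem hm hx1) (inv_mem hm), fun d hd => ?_⟩
  have hd' : m⁻¹ * d * m⁻¹⁻¹ ∈ h.toConf.Dl := norm_conj h.toConf.Dl_norm (inv_mem hm) hd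
  have h1 := h.toConf.conj_V hm (hx2 _ hd')
  have e : m * x * m⁻¹ * d * (m * x * m⁻¹)⁻¹ * d⁻¹ =
      m * (x * (m⁻¹ * d * m⁻¹⁻¹) * x⁻¹ * (m⁻¹ * d * m⁻¹⁻¹)⁻¹) * m⁻¹ := by group
  rwa [e]

theorem Qs_KD (i : ι) : Qs i ≤ h.KD := by
  intro x hx
  refine h.mem_KD.2 ⟨h.toConf.QsP i hx, fun d hd => ?_⟩
  have h1 := h.toConf.comm_Dl hx hd
  have h2 := inv_mem h1
  have : Nonempty ι := ⟨i₀⟩
  -- `d⁻¹ (x d x⁻¹) ∈ V`; `V` is normal in `Δ`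
  have h3 : d * (d⁻¹ * (x * d * x⁻¹)) * d⁻¹ ∈ V :=
    h.toConf.conj_V (h.toConf.TP (h.toConf.Dl_le_T hd)) h1
  have e : d * (d⁻¹ * (x * d * x⁻¹)) * d⁻¹ = x * d * x⁻¹ * d⁻¹ := by group
  rwa [e] at h3

theorem cent_KD {x : G} (hx : x ∈ P) (hc : ∀ v ∈ V, x * v = v * x) : x ∈ h.KD := by
  have : Nonempty ι := ⟨i₀⟩
  refine h.mem_KD.2 ⟨hx, fun d hd => ?_⟩
  rw [h.toConf.Dl_comm hx hc hd]
  have e : d * x * x⁻¹ * d⁻¹ = 1 := by group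
  rw [e]
  exact one_mem _

/-- An element of `P` whose cube centralises `V` centralises `Δ / V`. -/
theorem cube_KD {r : G} (hr : r ∈ P) (h3 : ∀ v ∈ V, r ^ 3 * v = v * r ^ 3) : r ∈ h.KD := by
  -- `r = k s` with `k ∈ K`, `s ∈ S`
  obtain ⟨j, -, hij, -, -⟩ := h.tri i₀
  obtain ⟨i, hi⟩ := h.toConf.perm r hr i₀
  obtain ⟨x, hx, hxi⟩ := h.toConf.trans i₀ j hij i
  have hxK : x ∈ h.KD := (sup_le (h.Qs_KD i₀) (h.Qs_KD j)) hx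
  have hxP : x ∈ P := (h.mem_KD.1 hxK).1
  obtain ⟨s, hs, c, hc, hcV, hsc⟩ := h.stab (x⁻¹ * r) (mul_mem (inv_mem hxP) hr) (by
    calc x⁻¹ * r * z i₀ = x⁻¹ * (r * z i₀ * r⁻¹) * r := by group
      _ = x⁻¹ * (x * z i₀ * x⁻¹) * r := by rw [hi, hxi]
      _ = z i₀ * (x⁻¹ * r) := by group)
  have hcK := h.cent_KD hc hcV
  have hsP : s ∈ P := h.S_le_P hs
  -- a 2-power of `r` lies in `K`
  have key : ∀ n : ℕ, ∃ k ∈ h.KD, r ^ n = k * s ^ n := by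
    intro n
    induction n with
    | zero => exact ⟨1, one_mem _, by simp⟩
    | succ n ih =>
      obtain ⟨k, hk, hkn⟩ := ih
      have hr' : r = x * (s * c * s⁻¹) * s := by
        have e : r = x * (x⁻¹ * r) := by group
        rw [e, hsc]; group
      have h1 : s ^ n * (x * (s * c * s⁻¹)) * (s ^ n)⁻¹ ∈ h.KD :=
        h.KD_conj (pow_mem hsP n) (mul_mem hxK (h.KD_conj hsP hcK))
      refine ⟨k * (s ^ n * (x * (s * c * s⁻¹)) * (s ^ n)⁻¹), mul_mem hk h1, ?_⟩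
      calc r ^ (n + 1) = r ^ n * r := pow_succ r n
        _ = k * s ^ n * (x * (s * c * s⁻¹) * s) := by rw [hkn, ← hr']
        _ = k * (s ^ n * (x * (s * c * s⁻¹)) * (s ^ n)⁻¹) * (s ^ n * s) := by group
        _ = _ := by rw [← pow_succ]
  have : Fact (Nat.Prime 2) := ⟨Nat.prime_two⟩
  obtain ⟨n, hn⟩ := S.isPGroup' ⟨s, hs⟩
  have hn' : s ^ 2 ^ n = 1 := congrArg Subtype.val hn
  obtain ⟨k, hk, hkn⟩ := key (2 ^ n)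
  rw [hn', mul_one] at hkn
  have h4 : r ^ 2 ^ n ∈ h.KD := hkn ▸ hk
  have h5 : r ^ 3 ∈ h.KD := h.cent_KD (pow_mem hr 3) h3
  -- `gcd(3, 2^n) = 1`
  have hco : Nat.Coprime (2 ^ n) 3 := Nat.Coprime.pow_left n (by norm_num)
  have h6 : Nat.gcd (2 ^ n) 3 = 1 := hco
  have h7 : (r : G) ^ ((Nat.gcd (2 ^ n) 3 : ℕ) : ℤ) ∈ h.KD := by
    rw [Nat.gcd_eq_gcd_ab, zpow_add, zpow_mul, zpow_mul, zpow_natCast, zpow_natCast]
    exact mul_mem (zpow_mem h4 _) (zpow_mem h5 _)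
  rw [h6, Nat.cast_one, zpow_one] at h7
  exact h7

/-- **`Δ = V`**: see the file header. -/
theorem Dl_le_of {r₁ r₂ : G} (hr₁ : r₁ ∈ P) (hr₂ : r₂ ∈ P)
    (c₁ : ∀ v ∈ V, r₁ ^ 3 * v = v * r₁ ^ 3) (c₂ : ∀ v ∈ V, r₂ ^ 3 * v = v * r₂ ^ 3)
    (fpf : ∀ v ∈ V, r₁ * v = v * r₁ → v = 1) (hcomm : Eqv V (r₁ * r₂) (r₂ * r₁))
    (hconj : ∀ m ∈ P, Eqv V (m * r₁ * m⁻¹) r₁ ∨ Eqv V (m * r₁ * m⁻¹) r₁⁻¹ ∨
      Eqv V (m * r₁ * m⁻¹) r₂ ∨ Eqv V (m * r₁ * m⁻¹) r₂⁻¹) : h.toConf.Dl ≤ V := by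
  have hne : Nonempty ι := ⟨i₀⟩
  have k₁ := h.cube_KD hr₁ c₁
  have k₂ := h.cube_KD hr₂ c₂
  have hDP : h.toConf.Dl ≤ P := h.toConf.Dl_le_T.trans h.toConf.TP
  -- `N = C_Δ(r₁)`
  let N : Subgroup G := h.toConf.Dl ⊓ centralizer ({r₁} : Set G)
  have hN : ∀ {x}, x ∈ N ↔ x ∈ h.toConf.Dl ∧ x * r₁ = r₁ * x := by
    intro x
    rw [mem_inf, mem_centralizer_singleton_iff]
  -- `r₂` centralises `N`
  have h2 : ∀ d ∈ N, r₂ * d * r₂⁻¹ = d := by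
    intro d hd
    obtain ⟨hd1, hd2⟩ := hN.1 hd
    have hv : r₂ * d * r₂⁻¹ * d⁻¹ ∈ V := (h.mem_KD.1 k₂).2 d hd1
    have e1 : r₁ * (r₂ * d * r₂⁻¹) * r₁⁻¹ = r₂ * d * r₂⁻¹ := by
      calc r₁ * (r₂ * d * r₂⁻¹) * r₁⁻¹ = (r₁ * r₂) * d * (r₁ * r₂)⁻¹ := by group
        _ = (r₂ * r₁) * d * (r₂ * r₁)⁻¹ :=
          h.eqv_Dl (mul_mem hr₁ hr₂) (mul_mem hr₂ hr₁) hcomm hd1
        _ = r₂ * (r₁ * d) * r₁⁻¹ * r₂⁻¹ := by group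
        _ = r₂ * d * r₂⁻¹ := by rw [← hd2]; group
    have e2 : r₁ * d * r₁⁻¹ = d := by rw [← hd2]; group
    have h3 := fpf _ hv (by
      calc r₁ * (r₂ * d * r₂⁻¹ * d⁻¹) =
          (r₁ * (r₂ * d * r₂⁻¹) * r₁⁻¹) * (r₁ * d * r₁⁻¹)⁻¹ * r₁ := by group
        _ = r₂ * d * r₂⁻¹ * d⁻¹ * r₁ := by rw [e1, e2])
    exact mul_inv_eq_one.1 h3
  have h1 : ∀ d ∈ N, r₁ * d * r₁⁻¹ = d := by
    intro d hd
    rw [← (hN.1 hd).2]; group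
  have inv_fix : ∀ {r d : G}, r * d * r⁻¹ = d → r⁻¹ * d * r⁻¹⁻¹ = d := by
    intro r d hrd
    calc r⁻¹ * d * r⁻¹⁻¹ = r⁻¹ * (r * d * r⁻¹) * r := by rw [hrd, inv_inv]
      _ = d := by group
  -- `N` is normalised by `P`
  have hNP : ∀ m ∈ P, ∀ d ∈ N, m * d * m⁻¹ ∈ N := by
    intro m hm d hd
    have hd1 := (hN.1 hd).1
    refine hN.2 ⟨norm_conj h.toConf.Dl_norm hm hd1, ?_⟩
    have hm' := inv_mem hm
    have key : (m⁻¹ * r₁ * m⁻¹⁻¹) * d * (m⁻¹ * r₁ * m⁻¹⁻¹)⁻¹ = d := by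
      have hP' : m⁻¹ * r₁ * m⁻¹⁻¹ ∈ P := mul_mem (mul_mem hm' hr₁) (inv_mem hm')
      rcases hconj m⁻¹ hm' with e | e | e | e
      · rw [h.eqv_Dl hP' hr₁ e hd1]; exact h1 d hd
      · rw [h.eqv_Dl hP' (inv_mem hr₁) e hd1]; exact inv_fix (h1 d hd)
      · rw [h.eqv_Dl hP' hr₂ e hd1]; exact h2 d hd
      · rw [h.eqv_Dl hP' (inv_mem hr₂) e hd1]; exact inv_fix (h2 d hd)
    have key' : (m⁻¹ * r₁ * m⁻¹⁻¹) * d = d * (m⁻¹ * r₁ * m⁻¹⁻¹) := by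
      calc (m⁻¹ * r₁ * m⁻¹⁻¹) * d =
          (m⁻¹ * r₁ * m⁻¹⁻¹) * d * (m⁻¹ * r₁ * m⁻¹⁻¹)⁻¹ * (m⁻¹ * r₁ * m⁻¹⁻¹) := by group
        _ = d * (m⁻¹ * r₁ * m⁻¹⁻¹) := by rw [key]
    calc m * d * m⁻¹ * r₁ = m * (d * (m⁻¹ * r₁ * m⁻¹⁻¹)) * m⁻¹ := by group
      _ = m * ((m⁻¹ * r₁ * m⁻¹⁻¹) * d) * m⁻¹ := by rw [key']
      _ = r₁ * (m * d * m⁻¹) := by group
  -- `N = 1`
  have hN1 : N = ⊥ := by
    by_contra hNe
    have hz := h.toConf.min i₀ N (fun d hd => h.toConf.Dl_le_T (hN.1 hd).1)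
      (fun m hm _ d hd => hNP m hm d hd) hNe
    exact h.ne_one i₀ (fpf _ (h.zV i₀) (hN.1 hz).2.symm)
  -- `Δ = V N`
  intro d hd
  have hvd : r₁ * d * r₁⁻¹ * d⁻¹ ∈ V := (h.mem_KD.1 k₁).2 d hd
  have hinj : Function.Injective (fun v : V => (⟨r₁ * v * r₁⁻¹ * (v : G)⁻¹,
      mul_mem (h.toConf.conj_V hr₁ v.2) (inv_mem v.2)⟩ : V)) := by
    intro v w hvw
    have e : r₁ * v * r₁⁻¹ * (v : G)⁻¹ = r₁ * w * r₁⁻¹ * (w : G)⁻¹ := congrArg Subtype.val hvw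
    have hvw' : (w : G)⁻¹ * v ∈ V := mul_mem (inv_mem w.2) v.2
    have e2 := fpf _ hvw' (by
      have e3 : r₁ * (w : G)⁻¹ * r₁⁻¹ ∈ V := h.toConf.conj_V hr₁ (inv_mem w.2)
      have e5 : (w : G)⁻¹ * (v : G) = (r₁ * (w : G) * r₁⁻¹)⁻¹ * (r₁ * v * r₁⁻¹) := by
        calc (w : G)⁻¹ * (v : G) = (w : G)⁻¹ * ((r₁ * v * r₁⁻¹ * (v : G)⁻¹)⁻¹ * (r₁ * v * r₁⁻¹)) := by group
          _ = (w : G)⁻¹ * ((r₁ * w * r₁⁻¹ * (w : G)⁻¹)⁻¹ * (r₁ * v * r₁⁻¹)) := by rw [e]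
          _ = (r₁ * (w : G) * r₁⁻¹)⁻¹ * (r₁ * v * r₁⁻¹) := by group
      calc r₁ * ((w : G)⁻¹ * v) = ((r₁ * (w : G) * r₁⁻¹)⁻¹ * (r₁ * v * r₁⁻¹)) * r₁ := by group
        _ = (w : G)⁻¹ * v * r₁ := by rw [← e5])
    exact Subtype.ext (inv_mul_eq_one.1 e2).symm
  obtain ⟨v, hv⟩ := (Finite.injective_iff_surjective.1 hinj) ⟨(r₁ * d * r₁⁻¹ * d⁻¹)⁻¹, inv_mem hvd⟩
  have hv' : r₁ * v * r₁⁻¹ * (v : G)⁻¹ = (r₁ * d * r₁⁻¹ * d⁻¹)⁻¹ := congrArg Subtype.val hv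
  have hVD := h.toConf.V_le_Dl
  have hdT := h.toConf.Dl_le_T hd
  have hdv : d * v ∈ N := by
    refine hN.2 ⟨mul_mem hd (hVD v.2), ?_⟩
    have hc : ∀ w ∈ V, d * w = w * d := fun w hw => h.TV d hdT w hw
    have e3 : r₁ * (v : G) * r₁⁻¹ = (r₁ * d * r₁⁻¹ * d⁻¹)⁻¹ * v := by rw [← hv']; group
    have e4 : r₁ * (d * v) * r₁⁻¹ = d * v := by
      calc r₁ * (d * v) * r₁⁻¹ = (r₁ * d * r₁⁻¹ * d⁻¹) * (d * (r₁ * v * r₁⁻¹)) := by group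
        _ = (r₁ * d * r₁⁻¹ * d⁻¹) * ((r₁ * v * r₁⁻¹) * d) := by
          rw [hc _ (h.toConf.conj_V hr₁ v.2)]
        _ = (r₁ * d * r₁⁻¹ * d⁻¹) * ((r₁ * d * r₁⁻¹ * d⁻¹)⁻¹ * v * d) := by rw [e3]
        _ = v * d := by group
        _ = d * v := (hc v v.2).symm
    calc d * v * r₁ = (r₁ * (d * v) * r₁⁻¹) * r₁ := by rw [e4]
      _ = r₁ * (d * v) := by group
  rw [hN1, mem_bot] at hdv
  have e5 : d = (v : G)⁻¹ := eq_inv_of_mul_eq_one_left hdv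
  rw [e5]
  exact inv_mem v.2

end

/-! ### Type (γ) -/

theorem rot_perm (σ : Equiv.Perm (Fin 3)) :
    (∀ i, σ (i + 1) = σ i + 1) ∨ (∀ i, σ (i + 1) = σ i + 2) := by
  revert σ
  decide

/-- **Type (γ): `Δ = V`.** -/
theorem Dl_le_of_plus2 {ζ : Fin 3 → Fin 3 → G}
    (h : Base S P (zl (S : Subgroup G) P) T z opp C Q QF Qs i₀)
    (hz : NO1.Plus2 (S : Subgroup G) P ζ) : h.toConf.Dl ≤ zl (S : Subgroup G) P := by
  obtain ⟨r₁, hr₁, e₁⟩ := hz.full (Equiv.addRight 1) 1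
  obtain ⟨r₂, hr₂, e₂⟩ := hz.full 1 (Equiv.addRight 1)
  simp only [Equiv.coe_addRight, Equiv.Perm.coe_one, id_eq] at e₁ e₂
  have hgen := hz.gen
  have hmem : ∀ i j, ζ i j ∈ zl (S : Subgroup G) P := fun i j => by
    rw [← hgen]
    exact subset_closure ⟨(i, j), rfl⟩
  -- equality of the action on `V`
  have eqv_of : ∀ x y : G, (∀ i j, x * ζ i j * x⁻¹ = y * ζ i j * y⁻¹) →
      Eqv (zl (S : Subgroup G) P) x y := by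
    intro x y hxy v hv
    rw [← hgen] at hv
    induction hv using Subgroup.closure_induction with
    | mem v hv => obtain ⟨⟨i, j⟩, rfl⟩ := hv; exact hxy i j
    | one => simp
    | mul a b _ _ ha hb =>
      calc x * (a * b) * x⁻¹ = (x * a * x⁻¹) * (x * b * x⁻¹) := by group
        _ = (y * a * y⁻¹) * (y * b * y⁻¹) := by rw [ha, hb]
        _ = y * (a * b) * y⁻¹ := by group
    | inv a _ ha =>
      calc x * a⁻¹ * x⁻¹ = (x * a * x⁻¹)⁻¹ := by group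
        _ = (y * a * y⁻¹)⁻¹ := by rw [ha]
        _ = y * a⁻¹ * y⁻¹ := by group
  have e₁' : ∀ i j, r₁⁻¹ * ζ i j * r₁⁻¹⁻¹ = ζ (i + 2) j := by
    intro i j
    have e' : ∀ i : Fin 3, i + 2 + 1 = i := by decide
    have e := e₁ (i + 2) j
    rw [e'] at e
    rw [← e]; group
  have e₂' : ∀ i j, r₂⁻¹ * ζ i j * r₂⁻¹⁻¹ = ζ i (j + 2) := by
    intro i j
    have e' : ∀ j : Fin 3, j + 2 + 1 = j := by decide
    have e := e₂ i (j + 2)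
    rw [e'] at e
    rw [← e]; group
  have c₁ : ∀ v ∈ zl (S : Subgroup G) P, r₁ ^ 3 * v = v * r₁ ^ 3 := by
    intro v hv
    have h1 : Eqv (zl (S : Subgroup G) P) (r₁ ^ 3) 1 := by
      apply eqv_of
      intro i j
      calc r₁ ^ 3 * ζ i j * (r₁ ^ 3)⁻¹ = r₁ * (r₁ * (r₁ * ζ i j * r₁⁻¹) * r₁⁻¹) * r₁⁻¹ := by
            rw [pow_succ, pow_two]; group
        _ = ζ (i + 1 + 1 + 1) j := by rw [e₁, e₁, e₁]
        _ = ζ i j := by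
          have e' : i + 1 + 1 + 1 = i := by revert i; decide
          rw [e']
        _ = 1 * ζ i j * 1⁻¹ := by simp
    have h2 := h1 v hv
    simp only [one_mul, inv_one, mul_one] at h2
    calc r₁ ^ 3 * v = (r₁ ^ 3 * v * (r₁ ^ 3)⁻¹) * r₁ ^ 3 := by group
      _ = v * r₁ ^ 3 := by rw [h2]
  have c₂ : ∀ v ∈ zl (S : Subgroup G) P, r₂ ^ 3 * v = v * r₂ ^ 3 := by
    intro v hv
    have h1 : Eqv (zl (S : Subgroup G) P) (r₂ ^ 3) 1 := by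
      apply eqv_of
      intro i j
      calc r₂ ^ 3 * ζ i j * (r₂ ^ 3)⁻¹ = r₂ * (r₂ * (r₂ * ζ i j * r₂⁻¹) * r₂⁻¹) * r₂⁻¹ := by
            rw [pow_succ, pow_two]; group
        _ = ζ i (j + 1 + 1 + 1) := by rw [e₂, e₂, e₂]
        _ = ζ i j := by
          have e' : j + 1 + 1 + 1 = j := by revert j; decide
          rw [e']
        _ = 1 * ζ i j * 1⁻¹ := by simp
    have h2 := h1 v hv
    simp only [one_mul, inv_one, mul_one] at h2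
    calc r₂ ^ 3 * v = (r₂ ^ 3 * v * (r₂ ^ 3)⁻¹) * r₂ ^ 3 := by group
      _ = v * r₂ ^ 3 := by rw [h2]
  -- `v r₁(v) r₁²(v) = 1`
  have nrm : ∀ v ∈ zl (S : Subgroup G) P, v * (r₁ * v * r₁⁻¹) * (r₁ * (r₁ * v * r₁⁻¹) * r₁⁻¹) = 1 := by
    intro v hv
    rw [← hgen] at hv
    have hab := h.Vab
    induction hv using Subgroup.closure_induction with
    | mem v hv =>
      obtain ⟨⟨i, j⟩, rfl⟩ := hv
      change ζ i j * (r₁ * ζ i j * r₁⁻¹) * (r₁ * (r₁ * ζ i j * r₁⁻¹) * r₁⁻¹) = 1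
      rw [e₁, e₁]
      have hcol := hz.col j
      have h12 := hz.comm 1 j 2 j
      have h01 := hz.comm 0 j 1 j
      have h02 := hz.comm 0 j 2 j
      fin_cases i
      · exact hcol
      · change ζ 1 j * ζ 2 j * ζ 0 j = 1
        rw [← hcol, mul_assoc, ← h02, ← mul_assoc, ← h01]
      · change ζ 2 j * ζ 0 j * ζ 1 j = 1
        rw [← hcol, ← h02, mul_assoc, ← h12, ← mul_assoc]
    | one => simp
    | mul a b ha0 hb0 ha hb =>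
      rw [hgen] at ha0 hb0
      set A := r₁ * a * r₁⁻¹ with hA
      set B := r₁ * b * r₁⁻¹ with hB
      have hAV : A ∈ zl (S : Subgroup G) P := h.toConf.conj_V hr₁ ha0
      have hBV : B ∈ zl (S : Subgroup G) P := h.toConf.conj_V hr₁ hb0
      have hAV' : r₁ * A * r₁⁻¹ ∈ zl (S : Subgroup G) P := h.toConf.conj_V hr₁ hAV
      have e1 : r₁ * (a * b) * r₁⁻¹ = A * B := by rw [hA, hB]; group
      have e2 : r₁ * (A * B) * r₁⁻¹ = (r₁ * A * r₁⁻¹) * (r₁ * B * r₁⁻¹) := by group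
      rw [e1, e2]
      have x1 : b * A = A * b := hab b hb0 A hAV
      have x2 : b * B * (r₁ * A * r₁⁻¹) = (r₁ * A * r₁⁻¹) * (b * B) :=
        hab _ (mul_mem hb0 hBV) _ hAV'
      calc a * b * (A * B) * (r₁ * A * r₁⁻¹ * (r₁ * B * r₁⁻¹))
          = a * (b * A) * B * (r₁ * A * r₁⁻¹) * (r₁ * B * r₁⁻¹) := by group
        _ = a * A * (b * B * (r₁ * A * r₁⁻¹)) * (r₁ * B * r₁⁻¹) := by rw [x1]; group
        _ = (a * A * (r₁ * A * r₁⁻¹)) * (b * B * (r₁ * B * r₁⁻¹)) := by rw [x2]; group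
        _ = 1 := by rw [ha, hb, one_mul]
    | inv a ha0 ha =>
      rw [hgen] at ha0
      set A := r₁ * a * r₁⁻¹ with hA
      have hAV : A ∈ zl (S : Subgroup G) P := h.toConf.conj_V hr₁ ha0
      have hAV' : r₁ * A * r₁⁻¹ ∈ zl (S : Subgroup G) P := h.toConf.conj_V hr₁ hAV
      have e1 : r₁ * a⁻¹ * r₁⁻¹ = A⁻¹ := by rw [hA]; group
      have e2 : r₁ * A⁻¹ * r₁⁻¹ = (r₁ * A * r₁⁻¹)⁻¹ := by group
      rw [e1, e2]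
      have x1 : A * a = a * A := hab A hAV a ha0
      have x2 : (r₁ * A * r₁⁻¹) * (a * A) = (a * A) * (r₁ * A * r₁⁻¹) :=
        hab _ hAV' _ (mul_mem ha0 hAV)
      calc a⁻¹ * A⁻¹ * (r₁ * A * r₁⁻¹)⁻¹ = ((r₁ * A * r₁⁻¹) * (A * a))⁻¹ := by group
        _ = 1 := by rw [x1, x2, ha, inv_one]
  refine h.Dl_le_of hr₁ hr₂ c₁ c₂ ?_ ?_ ?_
  · intro v hv hc
    have h1 := nrm v hv
    have h2 : r₁ * v * r₁⁻¹ = v := by rw [hc]; group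
    rw [h2, h2, h.Vsq v hv, one_mul] at h1
    exact h1
  · apply eqv_of
    intro i j
    calc r₁ * r₂ * ζ i j * (r₁ * r₂)⁻¹ = r₁ * (r₂ * ζ i j * r₂⁻¹) * r₁⁻¹ := by group
      _ = ζ (i + 1) (j + 1) := by rw [e₂, e₁]
      _ = r₂ * (r₁ * ζ i j * r₁⁻¹) * r₂⁻¹ := by rw [e₁, e₂]
      _ = r₂ * r₁ * ζ i j * (r₂ * r₁)⁻¹ := by group
  · intro m hm
    obtain ⟨σ, τ, hστ | hστ⟩ := hz.perm m hm
    · have hm' : ∀ i j, m⁻¹ * ζ (σ i) (τ j) * m⁻¹⁻¹ = ζ i j := fun i j => by rw [← hστ i j]; group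
      rcases rot_perm σ with hσ | hσ
      · left
        apply eqv_of
        intro i j
        obtain ⟨i, rfl⟩ := σ.surjective i
        obtain ⟨j, rfl⟩ := τ.surjective j
        calc m * r₁ * m⁻¹ * ζ (σ i) (τ j) * (m * r₁ * m⁻¹)⁻¹
            = m * (r₁ * (m⁻¹ * ζ (σ i) (τ j) * m⁻¹⁻¹) * r₁⁻¹) * m⁻¹ := by group
          _ = r₁ * ζ (σ i) (τ j) * r₁⁻¹ := by rw [hm', e₁, hστ, e₁, hσ]
      · right; left
        apply eqv_of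
        intro i j
        obtain ⟨i, rfl⟩ := σ.surjective i
        obtain ⟨j, rfl⟩ := τ.surjective j
        calc m * r₁ * m⁻¹ * ζ (σ i) (τ j) * (m * r₁ * m⁻¹)⁻¹
            = m * (r₁ * (m⁻¹ * ζ (σ i) (τ j) * m⁻¹⁻¹) * r₁⁻¹) * m⁻¹ := by group
          _ = r₁⁻¹ * ζ (σ i) (τ j) * r₁⁻¹⁻¹ := by rw [hm', e₁, hστ, e₁', hσ]
    · have hm' : ∀ i j, m⁻¹ * ζ (σ j) (τ i) * m⁻¹⁻¹ = ζ i j := fun i j => by rw [← hστ i j]; group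
      rcases rot_perm τ with hτ | hτ
      · right; right; left
        apply eqv_of
        intro j i
        obtain ⟨j, rfl⟩ := σ.surjective j
        obtain ⟨i, rfl⟩ := τ.surjective i
        calc m * r₁ * m⁻¹ * ζ (σ j) (τ i) * (m * r₁ * m⁻¹)⁻¹
            = m * (r₁ * (m⁻¹ * ζ (σ j) (τ i) * m⁻¹⁻¹) * r₁⁻¹) * m⁻¹ := by group
          _ = r₂ * ζ (σ j) (τ i) * r₂⁻¹ := by rw [hm', e₁, hστ, e₂, hτ]
      · right; right; right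
        apply eqv_of
        intro j i
        obtain ⟨j, rfl⟩ := σ.surjective j
        obtain ⟨i, rfl⟩ := τ.surjective i
        calc m * r₁ * m⁻¹ * ζ (σ j) (τ i) * (m * r₁ * m⁻¹)⁻¹
            = m * (r₁ * (m⁻¹ * ζ (σ j) (τ i) * m⁻¹⁻¹) * r₁⁻¹) * m⁻¹ := by group
          _ = r₂⁻¹ * ζ (σ j) (τ i) * r₂⁻¹⁻¹ := by rw [hm', e₁, hστ, e₂', hτ]

end Base

end Cfsg.Agent.Omega.NOne.AG
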