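import Cfsg.Agent.Mrg.Omega.NOne.LemmaT


/-!
# THEOREM D0ag (bb #15001): from one point to all points

`Pt`: the configuration `Conf` at one point `z`.  `tr P z A i`: the conjugate `A^m` of `A` at the point
`i = z^m`, `m ∈ P`.  `Pt.conf`: `Pt` at `z` gives `Conf` for the set of all points `z^m`, `m ∈ P`.
-/

set_option autoImplicit false

namespace Cfsg.Agent.Omega.NOne.AG

open Subgroup Cfsg Cfsg.Agent.ZN

universe u

variable {G : Type u} [Group G]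

/-- The points: the conjugates of `z` under `P`. -/
abbrev Pts (P : Subgroup G) (z : G) : Type u := {x : G // ∃ m ∈ P, m * z * m⁻¹ = x}

/-- The point `z`. -/
def Pts.base (P : Subgroup G) (z : G) : Pts P z := ⟨z, 1, one_mem _, by group⟩

@[simp] theorem Pts.base_val (P : Subgroup G) (z : G) : (Pts.base P z).val = z := rfl

/-- The conjugate of `A` at the point `i`. -/
noncomputable def tr (P : Subgroup G) (z : G) (A : Subgroup G) (i : Pts P z) : Subgroup G :=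
  A.map (MulAut.conj i.2.choose).toMonoidHom

/-- `A` is normalised by `P ∩ C(z)`. -/
def Nz (P : Subgroup G) (z : G) (A : Subgroup G) : Prop :=
  ∀ m ∈ P, m * z = z * m → ∀ a ∈ A, m * a * m⁻¹ ∈ A

section tr

variable {P A : Subgroup G} {z : G}

theorem mem_tr {A : Subgroup G} (hA : Nz P z A) {m : G} (hm : m ∈ P) {i : Pts P z}
    (hi : m * z * m⁻¹ = i.val) {y : G} : y ∈ tr P z A i ↔ m⁻¹ * y * m ∈ A := by
  have hn := i.2.choose_spec
  set n := i.2.choose with hndef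
  obtain ⟨hnP, hni⟩ := hn
  have key : ∀ a b : G, a ∈ P → b ∈ P → a * z * a⁻¹ = b * z * b⁻¹ → ∀ y, a⁻¹ * y * a ∈ A →
      b⁻¹ * y * b ∈ A := by
    intro a b ha hb hab y hy
    have hc : (b⁻¹ * a) * z = z * (b⁻¹ * a) := by
      calc (b⁻¹ * a) * z = b⁻¹ * (a * z * a⁻¹) * a := by group
        _ = b⁻¹ * (b * z * b⁻¹) * a := by rw [hab]
        _ = z * (b⁻¹ * a) := by group
    have h1 := hA _ (mul_mem (inv_mem hb) ha) hc _ hy
    have e : b⁻¹ * a * (a⁻¹ * y * a) * (b⁻¹ * a)⁻¹ = b⁻¹ * y * b := by group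
    rwa [e] at h1
  have h0 : y ∈ tr P z A i ↔ n⁻¹ * y * n ∈ A := by
    rw [tr, ← hndef]
    constructor
    · rintro ⟨x, hx, rfl⟩
      have e : n⁻¹ * ((MulAut.conj n).toMonoidHom x) * n = x := by
        change n⁻¹ * (n * x * n⁻¹) * n = x
        group
      rwa [e]
    · intro h
      refine ⟨_, h, ?_⟩
      change n * (n⁻¹ * y * n) * n⁻¹ = y
      group
  rw [h0]
  exact ⟨key n m hnP hm (hni.trans hi.symm) y, key m n hm hnP (hi.trans hni.symm) y⟩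

theorem conj_mem_tr {A : Subgroup G} (hA : Nz P z A) {m : G} (hm : m ∈ P) {i : Pts P z}
    (hi : m * z * m⁻¹ = i.val) {a : G} : m * a * m⁻¹ ∈ tr P z A i ↔ a ∈ A := by
  rw [mem_tr hA hm hi]
  have e : m⁻¹ * (m * a * m⁻¹) * m = a := by group
  rw [e]

theorem tr_eq {A : Subgroup G} (hA : Nz P z A) {m : G} (hm : m ∈ P) {i : Pts P z}
    (hi : m * z * m⁻¹ = i.val) : tr P z A i = A.map (MulAut.conj m).toMonoidHom := by
  ext y
  rw [mem_tr hA hm hi]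
  constructor
  · intro h
    refine ⟨_, h, ?_⟩
    change m * (m⁻¹ * y * m) * m⁻¹ = y
    group
  · rintro ⟨x, hx, rfl⟩
    have e : m⁻¹ * ((MulAut.conj m).toMonoidHom x) * m = x := by
      change m⁻¹ * (m * x * m⁻¹) * m = x
      group
    rwa [e]

/-- `tr A z = A`. -/
theorem tr_base {A : Subgroup G} (hA : Nz P z A) : tr P z A (Pts.base P z) = A := by
  ext y
  rw [mem_tr hA (one_mem P) (i := Pts.base P z) (by simp)]
  simp

theorem tr_conj {A : Subgroup G} (hA : Nz P z A) {m : G} (hm : m ∈ P) {i j : Pts P z}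
    (hij : m * i.val * m⁻¹ = j.val) {x : G} (hx : x ∈ tr P z A i) : m * x * m⁻¹ ∈ tr P z A j := by
  obtain ⟨n, hn, hi⟩ := i.2
  have hj : (m * n) * z * (m * n)⁻¹ = j.val := by
    rw [← hij, ← hi]; group
  rw [mem_tr hA (mul_mem hm hn) hj]
  have e : (m * n)⁻¹ * (m * x * m⁻¹) * (m * n) = n⁻¹ * x * n := by group
  rw [e]
  exact (mem_tr hA hn hi).1 hx

end tr

/-- The configuration at one point `z` (see `Conf`). -/
structure Pt (P V T : Subgroup G) (z : G) (C Q QF Qs : Subgroup G) : Prop where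
  -- the point
  ne_one : z ≠ 1
  sq : z * z = 1
  zV : z ∈ V
  zQ : z ∈ Q
  -- `P`, `V`, `T`
  Vab : ∀ v ∈ V, ∀ w ∈ V, v * w = w * v
  Vsq : ∀ v ∈ V, v * v = 1
  cardV : Nat.card V = 16
  VT : V ≤ T
  TP : T ≤ P
  TV : ∀ t ∈ T, ∀ v ∈ V, t * v = v * t
  nT : P ≤ normalizer (T : Set G)
  nV : P ≤ normalizer (V : Set G)
  pT : IsPGroup 2 T
  -- the local subgroups
  Cz : ∀ c ∈ C, c * z = z * c
  PC : ∀ m ∈ P, m * z = z * m → m ∈ C
  /-- `C_1 = L_1 (P ∩ C)` -/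
  gen : C ≤ closure ({m | m ∈ P ∧ m * z = z * m} ∪ {x | ∃ c ∈ C, ∃ v ∈ V, x = c * v * c⁻¹})
  Qo2 : Q = o2 C
  char2 : ∀ c ∈ C, (∀ x ∈ Q, c * x = x * c) → c ∈ Q
  QP : Q ≤ P
  nQF : C ≤ normalizer (QF : Set G)
  nQs : C ≤ normalizer (Qs : Set G)
  QFQ : QF ≤ Q
  QsQF : Qs ≤ QF
  /-- `[Qs, QF] ≤ ⟨z⟩` -/
  com : ∀ x ∈ Qs, ∀ y ∈ QF, x * y = y * x ∨ x * y = z * (y * x)
  QsGen : Qs ≤ closure {y | ∃ c ∈ C, ∃ e ∈ V, e ∈ Q ∧ y = c * e * c⁻¹}
  -- `V` and the local subgroups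
  VQs : ∀ v ∈ V, v ∈ Q → v ∈ Qs
  VQ2 : ∀ v ∈ V, ∀ w ∈ V, v ∉ Q → w ∉ Q → v * w ∈ Q
  VQc : ∀ x ∈ Q, ∀ v ∈ V, x * v * x⁻¹ * v⁻¹ ∈ Q
  cT : ∀ x ∈ Q, (∀ v ∈ V, x * v = v * x) → x ∈ T
  /-- no nontrivial element of `P/C_P(V)` centralises `E` -/
  faith : ∀ x ∈ P, (∀ v ∈ V, v ∈ Q → x * v = v * x) → ∀ v ∈ V, x * v = v * x
  fixE : ∀ e ∈ V, (∀ x ∈ Qs, x * e = e * x) → e = 1 ∨ e = z
  QFT : ∀ x ∈ QF, ∃ t ∈ T, ∃ y ∈ Qs, x = t * y
  /-- `QF = C_Q(E / z)`, `|Q : QF| ≤ 2` -/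
  QQF : ∀ x ∈ Q, (∀ v ∈ V, v ∈ Q → x * v = v * x ∨ x * v = z * (v * x)) → x ∈ QF
  QF2 : ∀ x ∈ Q, ∀ y ∈ Q, x ∉ QF → y ∉ QF → x * y ∈ QF
  /-- `v ∈ V - E`: `C_X(v) = E^⊥` -/
  kv : ∀ x ∈ Qs, ∀ v ∈ V, v ∉ Q → (x * v = v * x ∨ x * v = z * (v * x)) → x ∈ T
  /-- `v ∈ V - E`: `[Qs, v] ⟨z⟩ = E` -/
  ev : ∀ e ∈ V, e ∈ Q → ∀ v ∈ V, v ∉ Q →
    ∃ x ∈ Qs, x * v * x⁻¹ * v⁻¹ = e ∨ x * v * x⁻¹ * v⁻¹ = z * e
  -- global
  /-- being perpendicular is symmetric -/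
  symm : ∀ m ∈ P, m * z * m⁻¹ ∉ Q → m⁻¹ * z * m ∉ Q
  /-- `⟨Qs, Qs^m⟩` is transitive on the points -/
  trans : ∀ m ∈ P, m * z * m⁻¹ ∉ Q → ∀ n ∈ P,
    ∃ x ∈ Qs ⊔ Qs.map (MulAut.conj m).toMonoidHom, x * z * x⁻¹ = n * z * n⁻¹
  /-- three pairwise opposite points `z, z^m, z^n` -/
  tri : ∃ m ∈ P, ∃ n ∈ P, m * z * m⁻¹ ∉ Q ∧ n * z * n⁻¹ ∉ Q ∧ (m⁻¹ * n) * z * (m⁻¹ * n)⁻¹ ∉ Q
  /-- `Ω₁ Z(S) = ⟨z⟩` -/
  min : ∀ N : Subgroup G, N ≤ T →
    (∀ m ∈ P, m * z = z * m → ∀ x ∈ N, m * x * m⁻¹ ∈ N) → N ≠ ⊥ → z ∈ N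

namespace Pt

variable {P V T : Subgroup G} {z : G} {C Q QF Qs : Subgroup G}

section

variable (h : Pt P V T z C Q QF Qs)
include h

theorem nzC : Nz P z C := fun m hm hz _ ha =>
  mul_mem (mul_mem (h.PC m hm hz) ha) (inv_mem (h.PC m hm hz))

theorem nzQF : Nz P z QF := fun m hm hz a ha =>
  (mem_normalizer_iff.1 (h.nQF (h.PC m hm hz)) a).1 ha

theorem nzQs : Nz P z Qs := fun m hm hz a ha =>
  (mem_normalizer_iff.1 (h.nQs (h.PC m hm hz)) a).1 ha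

theorem nQ : C ≤ normalizer (Q : Set G) := by
  rw [h.Qo2]
  exact le_normalizer_o2 C

theorem nzQ : Nz P z Q := fun m hm hz a ha =>
  (mem_normalizer_iff.1 (h.nQ (h.PC m hm hz)) a).1 ha

theorem QC : Q ≤ C := by
  rw [h.Qo2]
  exact o2_le C

theorem conjV {m v : G} (hm : m ∈ P) : m * v * m⁻¹ ∈ V ↔ v ∈ V :=
  (mem_normalizer_iff.1 (h.nV hm) v).symm

theorem conjT {m v : G} (hm : m ∈ P) : m * v * m⁻¹ ∈ T ↔ v ∈ T :=
  (mem_normalizer_iff.1 (h.nT hm) v).symm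

omit h in
theorem conjP {m v : G} (hm : m ∈ P) : m * v * m⁻¹ ∈ P ↔ v ∈ P := by
  constructor
  · intro hv
    have := mul_mem (mul_mem (inv_mem hm) hv) hm
    have e : m⁻¹ * (m * v * m⁻¹) * m = v := by group
    rwa [e] at this
  · intro hv
    exact mul_mem (mul_mem hm hv) (inv_mem hm)

end

/-- Opposite points. -/
def opp (_h : Pt P V T z C Q QF Qs) (i j : Pts P z) : Prop := j.val ∉ tr P z Q i

theorem conf (h : Pt P V T z C Q QF Qs) :
    Conf P V T (fun i : Pts P z => i.val) h.opp (tr P z C) (tr P z Q) (tr P z QF) (tr P z Qs) where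
  ne_one := by
    rintro ⟨x, m, hm, rfl⟩ e
    exact h.ne_one (conj_eq_one_iff.1 e)
  sq := by
    rintro ⟨x, m, hm, rfl⟩
    change m * z * m⁻¹ * (m * z * m⁻¹) = 1
    have e : m * z * m⁻¹ * (m * z * m⁻¹) = m * (z * z) * m⁻¹ := by group
    rw [e, h.sq]; group
  zV := by
    rintro ⟨x, m, hm, rfl⟩
    exact (h.conjV hm).2 h.zV
  irr := by
    intro i hi
    obtain ⟨m, hm, e⟩ := i.2
    apply hi
    rw [← e]
    exact (conj_mem_tr h.nzQ hm e).2 h.zQ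
  symm := by
    intro i j hij
    obtain ⟨m, hm, ei⟩ := i.2
    obtain ⟨n, hn, ej⟩ := j.2
    have h1 : (m⁻¹ * n) * z * (m⁻¹ * n)⁻¹ ∉ Q := by
      intro h2
      apply hij
      rw [mem_tr h.nzQ hm ei, ← ej]
      have e : m⁻¹ * (n * z * n⁻¹) * m = (m⁻¹ * n) * z * (m⁻¹ * n)⁻¹ := by group
      rwa [e]
    have h2 := h.symm _ (mul_mem (inv_mem hm) hn) h1
    change i.val ∉ tr P z Q j
    rw [mem_tr h.nzQ hn ej, ← ei]
    have e : n⁻¹ * (m * z * m⁻¹) * n = (m⁻¹ * n)⁻¹ * z * (m⁻¹ * n) := by group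
    rwa [e]
  Vab := h.Vab
  Vsq := h.Vsq
  cardV := h.cardV
  VT := h.VT
  TP := h.TP
  TV := h.TV
  nT := h.nT
  nV := h.nV
  pT := h.pT
  perm := by
    rintro m hm ⟨x, n, hn, rfl⟩
    exact ⟨⟨m * (n * z * n⁻¹) * m⁻¹, m * n, mul_mem hm hn, by group⟩, rfl⟩
  eqC := fun m hm i j hij x hx => tr_conj h.nzC hm hij hx
  eqQ := fun m hm i j hij x hx => tr_conj h.nzQ hm hij hx
  eqQF := fun m hm i j hij x hx => tr_conj h.nzQF hm hij hx
  eqQs := fun m hm i j hij x hx => tr_conj h.nzQs hm hij hx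
  Cz := by
    intro i c hc
    obtain ⟨m, hm, e⟩ := i.2
    have h1 := h.Cz _ ((mem_tr h.nzC hm e).1 hc)
    rw [← e]
    calc c * (m * z * m⁻¹) = m * ((m⁻¹ * c * m) * z) * m⁻¹ := by group
      _ = m * z * m⁻¹ * c := by rw [h1]; group
  PC := by
    intro i c hc hci
    obtain ⟨m, hm, e⟩ := i.2
    rw [mem_tr h.nzC hm e]
    refine h.PC _ (mul_mem (mul_mem (inv_mem hm) hc) hm) ?_
    rw [← e] at hci
    calc m⁻¹ * c * m * z = m⁻¹ * (c * (m * z * m⁻¹)) * m := by group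
      _ = z * (m⁻¹ * c * m) := by rw [hci]; group
  gen := by
    intro i c hc
    obtain ⟨m, hm, e⟩ := i.2
    have h1 := h.gen ((mem_tr h.nzC hm e).1 hc)
    have key : ∀ y ∈ closure ({m | m ∈ P ∧ m * z = z * m} ∪
        {x | ∃ c ∈ C, ∃ v ∈ V, x = c * v * c⁻¹}), m * y * m⁻¹ ∈
        closure ({m | m ∈ P ∧ m * i.val = i.val * m} ∪
          {x | ∃ c ∈ tr P z C i, ∃ v ∈ V, x = c * v * c⁻¹}) := by
      intro y hy
      induction hy using Subgroup.closure_induction with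
      | mem x hx =>
        apply Subgroup.subset_closure
        rcases hx with ⟨hx1, hx2⟩ | ⟨c, hc, v, hv, rfl⟩
        · left
          refine ⟨(conjP hm).2 hx1, ?_⟩
          rw [← e]
          calc m * x * m⁻¹ * (m * z * m⁻¹) = m * (x * z) * m⁻¹ := by group
            _ = m * z * m⁻¹ * (m * x * m⁻¹) := by rw [hx2]; group
        · right
          refine ⟨m * c * m⁻¹, (conj_mem_tr h.nzC hm e).2 hc, m * v * m⁻¹, (h.conjV hm).2 hv, ?_⟩
          group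
      | one => simp
      | mul x y _ _ hx hy =>
        have e : m * (x * y) * m⁻¹ = (m * x * m⁻¹) * (m * y * m⁻¹) := by group
        rw [e]
        exact mul_mem hx hy
      | inv x _ hx =>
        have e : m * x⁻¹ * m⁻¹ = (m * x * m⁻¹)⁻¹ := by group
        rw [e]
        exact inv_mem hx
    have h2 := key _ h1
    have e1 : m * (m⁻¹ * c * m) * m⁻¹ = c := by group
    rwa [e1] at h2
  Qo2 := by
    intro i
    obtain ⟨m, hm, e⟩ := i.2
    rw [tr_eq h.nzQ hm e, tr_eq h.nzC hm e, h.Qo2]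
    exact (ZN.o2_map (MulAut.conj m).toMonoidHom (MulAut.conj m).injective C).symm
  char2 := by
    intro i c hc hcx
    obtain ⟨m, hm, e⟩ := i.2
    rw [mem_tr h.nzQ hm e]
    refine h.char2 _ ((mem_tr h.nzC hm e).1 hc) fun x hx => ?_
    have h1 := hcx _ ((conj_mem_tr h.nzQ hm e).2 hx)
    calc m⁻¹ * c * m * x = m⁻¹ * (c * (m * x * m⁻¹)) * m := by group
      _ = x * (m⁻¹ * c * m) := by rw [h1]; group
  QP := by
    intro i x hx
    obtain ⟨m, hm, e⟩ := i.2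
    have h1 := h.QP ((mem_tr h.nzQ hm e).1 hx)
    have := (conjP hm).2 h1
    have e1 : m * (m⁻¹ * x * m) * m⁻¹ = x := by group
    rwa [e1] at this
  nQF := by
    intro i c hc
    obtain ⟨m, hm, e⟩ := i.2
    have hc' := h.nQF ((mem_tr h.nzC hm e).1 hc)
    rw [mem_normalizer_iff] at hc' ⊢
    intro x
    change x ∈ tr P z QF i ↔ c * x * c⁻¹ ∈ tr P z QF i
    rw [mem_tr h.nzQF hm e, mem_tr h.nzQF hm e]
    have e1 : m⁻¹ * (c * x * c⁻¹) * m = (m⁻¹ * c * m) * (m⁻¹ * x * m) * (m⁻¹ * c * m)⁻¹ := by group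
    rw [e1]
    exact hc' _
  nQs := by
    intro i c hc
    obtain ⟨m, hm, e⟩ := i.2
    have hc' := h.nQs ((mem_tr h.nzC hm e).1 hc)
    rw [mem_normalizer_iff] at hc' ⊢
    intro x
    change x ∈ tr P z Qs i ↔ c * x * c⁻¹ ∈ tr P z Qs i
    rw [mem_tr h.nzQs hm e, mem_tr h.nzQs hm e]
    have e1 : m⁻¹ * (c * x * c⁻¹) * m = (m⁻¹ * c * m) * (m⁻¹ * x * m) * (m⁻¹ * c * m)⁻¹ := by group
    rw [e1]
    exact hc' _
  QFQ := by
    intro i x hx
    obtain ⟨m, hm, e⟩ := i.2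
    rw [mem_tr h.nzQF hm e] at hx
    rw [mem_tr h.nzQ hm e]
    exact h.QFQ hx
  QsQF := by
    intro i x hx
    obtain ⟨m, hm, e⟩ := i.2
    rw [mem_tr h.nzQs hm e] at hx
    rw [mem_tr h.nzQF hm e]
    exact h.QsQF hx
  com := by
    intro i x hx y hy
    obtain ⟨m, hm, e⟩ := i.2
    have h1 := h.com _ ((mem_tr h.nzQs hm e).1 hx) _ ((mem_tr h.nzQF hm e).1 hy)
    rw [← e]
    rcases h1 with h1 | h1
    · left
      calc x * y = m * ((m⁻¹ * x * m) * (m⁻¹ * y * m)) * m⁻¹ := by group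
        _ = y * x := by rw [h1]; group
    · right
      calc x * y = m * ((m⁻¹ * x * m) * (m⁻¹ * y * m)) * m⁻¹ := by group
        _ = m * z * m⁻¹ * (y * x) := by rw [h1]; group
  QsGen := by
    intro i x hx
    obtain ⟨m, hm, e⟩ := i.2
    have h1 := h.QsGen ((mem_tr h.nzQs hm e).1 hx)
    have key : ∀ y ∈ closure {y | ∃ c ∈ C, ∃ e ∈ V, e ∈ Q ∧ y = c * e * c⁻¹}, m * y * m⁻¹ ∈
        closure {y | ∃ c ∈ tr P z C i, ∃ e ∈ V, e ∈ tr P z Q i ∧ y = c * e * c⁻¹} := by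
      intro y hy
      induction hy using Subgroup.closure_induction with
      | mem x hx =>
        apply Subgroup.subset_closure
        obtain ⟨c, hc, v, hv, hvQ, rfl⟩ := hx
        refine ⟨m * c * m⁻¹, (conj_mem_tr h.nzC hm e).2 hc, m * v * m⁻¹, (h.conjV hm).2 hv,
          (conj_mem_tr h.nzQ hm e).2 hvQ, ?_⟩
        group
      | one => simp
      | mul x y _ _ hx hy =>
        have e : m * (x * y) * m⁻¹ = (m * x * m⁻¹) * (m * y * m⁻¹) := by group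
        rw [e]
        exact mul_mem hx hy
      | inv x _ hx =>
        have e : m * x⁻¹ * m⁻¹ = (m * x * m⁻¹)⁻¹ := by group
        rw [e]
        exact inv_mem hx
    have h2 := key _ h1
    have e1 : m * (m⁻¹ * x * m) * m⁻¹ = x := by group
    rwa [e1] at h2
  opp_iff := fun i j => Iff.rfl
  VQs := by
    intro i v hv hvQ
    obtain ⟨m, hm, e⟩ := i.2
    rw [mem_tr h.nzQ hm e] at hvQ
    rw [mem_tr h.nzQs hm e]
    refine h.VQs _ ?_ hvQ
    have := (h.conjV (inv_mem hm)).2 hv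
    rwa [inv_inv] at this
  VQ2 := by
    intro i v hv w hw hv' hw'
    obtain ⟨m, hm, e⟩ := i.2
    rw [mem_tr h.nzQ hm e] at hv' hw' ⊢
    have h1 := (h.conjV (inv_mem hm)).2 hv
    have h2 := (h.conjV (inv_mem hm)).2 hw
    rw [inv_inv] at h1 h2
    have h3 := h.VQ2 _ h1 _ h2 hv' hw'
    have e1 : m⁻¹ * (v * w) * m = m⁻¹ * v * m * (m⁻¹ * w * m) := by group
    rwa [e1]
  VQc := by
    intro i x hx v hv
    obtain ⟨m, hm, e⟩ := i.2
    rw [mem_tr h.nzQ hm e] at hx ⊢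
    have h1 := (h.conjV (inv_mem hm)).2 hv
    rw [inv_inv] at h1
    have h3 := h.VQc _ hx _ h1
    have e1 : m⁻¹ * (x * v * x⁻¹ * v⁻¹) * m =
        m⁻¹ * x * m * (m⁻¹ * v * m) * (m⁻¹ * x * m)⁻¹ * (m⁻¹ * v * m)⁻¹ := by group
    rwa [e1]
  cT := by
    intro i x hx hxv
    obtain ⟨m, hm, e⟩ := i.2
    rw [mem_tr h.nzQ hm e] at hx
    have h1 := h.cT _ hx fun v hv => by
      have h2 := hxv _ ((h.conjV hm).2 hv)
      calc m⁻¹ * x * m * v = m⁻¹ * (x * (m * v * m⁻¹)) * m := by group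
        _ = v * (m⁻¹ * x * m) := by rw [h2]; group
    have := (h.conjT hm).2 h1
    have e1 : m * (m⁻¹ * x * m) * m⁻¹ = x := by group
    rwa [e1] at this
  faith := by
    intro i x hx hxv v hv
    obtain ⟨m, hm, e⟩ := i.2
    have hx' : m⁻¹ * x * m ∈ P := mul_mem (mul_mem (inv_mem hm) hx) hm
    have h0 := (h.conjV (inv_mem hm)).2 hv
    rw [inv_inv] at h0
    have h1 := h.faith _ hx' (fun w hw hwQ => by
      have h2 := hxv _ ((h.conjV hm).2 hw) ((conj_mem_tr h.nzQ hm e).2 hwQ)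
      calc m⁻¹ * x * m * w = m⁻¹ * (x * (m * w * m⁻¹)) * m := by group
        _ = w * (m⁻¹ * x * m) := by rw [h2]; group) _ h0
    calc x * v = m * (m⁻¹ * x * m * (m⁻¹ * v * m)) * m⁻¹ := by group
      _ = v * x := by rw [h1]; group
  fixE := by
    intro i v hv hvx
    obtain ⟨m, hm, e⟩ := i.2
    have h0 := (h.conjV (inv_mem hm)).2 hv
    rw [inv_inv] at h0
    rcases h.fixE _ h0 (fun x hx => by
      have h2 := hvx _ ((conj_mem_tr h.nzQs hm e).2 hx)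
      calc x * (m⁻¹ * v * m) = m⁻¹ * ((m * x * m⁻¹) * v) * m := by group
        _ = m⁻¹ * v * m * x := by rw [h2]; group) with h1 | h1
    · left
      calc v = m * (m⁻¹ * v * m) * m⁻¹ := by group
        _ = 1 := by rw [h1]; group
    · right
      rw [← e, ← h1]
      group
  QFT := by
    intro i x hx
    obtain ⟨m, hm, e⟩ := i.2
    obtain ⟨t, ht, y, hy, hxy⟩ := h.QFT _ ((mem_tr h.nzQF hm e).1 hx)
    refine ⟨m * t * m⁻¹, (h.conjT hm).2 ht, m * y * m⁻¹, (conj_mem_tr h.nzQs hm e).2 hy, ?_⟩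
    calc x = m * (m⁻¹ * x * m) * m⁻¹ := by group
      _ = _ := by rw [hxy]; group
  QQF := by
    intro i x hx hxv
    obtain ⟨m, hm, e⟩ := i.2
    rw [mem_tr h.nzQ hm e] at hx
    rw [mem_tr h.nzQF hm e]
    refine h.QQF _ hx fun v hv hvQ => ?_
    rcases hxv _ ((h.conjV hm).2 hv) ((conj_mem_tr h.nzQ hm e).2 hvQ) with h1 | h1
    · left
      calc m⁻¹ * x * m * v = m⁻¹ * (x * (m * v * m⁻¹)) * m := by group
        _ = _ := by rw [h1]; group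
    · right
      calc m⁻¹ * x * m * v = m⁻¹ * (x * (m * v * m⁻¹)) * m := by group
        _ = _ := by rw [h1, ← e]; group
  QF2 := by
    intro i x hx y hy hx' hy'
    obtain ⟨m, hm, e⟩ := i.2
    rw [mem_tr h.nzQ hm e] at hx hy
    rw [mem_tr h.nzQF hm e] at hx' hy' ⊢
    have h1 := h.QF2 _ hx _ hy hx' hy'
    have e1 : m⁻¹ * (x * y) * m = m⁻¹ * x * m * (m⁻¹ * y * m) := by group
    rwa [e1]
  kv := by
    intro i x hx v hv hvQ hxv
    obtain ⟨m, hm, e⟩ := i.2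
    rw [mem_tr h.nzQs hm e] at hx
    rw [mem_tr h.nzQ hm e] at hvQ
    have h0 := (h.conjV (inv_mem hm)).2 hv
    rw [inv_inv] at h0
    have h1 := h.kv _ hx _ h0 hvQ (by
      rcases hxv with h2 | h2
      · left
        calc m⁻¹ * x * m * (m⁻¹ * v * m) = m⁻¹ * (x * v) * m := by group
          _ = _ := by rw [h2]; group
      · right
        calc m⁻¹ * x * m * (m⁻¹ * v * m) = m⁻¹ * (x * v) * m := by group
          _ = _ := by rw [h2, ← e]; group)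
    have := (h.conjT hm).2 h1
    have e1 : m * (m⁻¹ * x * m) * m⁻¹ = x := by group
    rwa [e1] at this
  ev := by
    intro i v hv hvQ w hw hwQ
    obtain ⟨m, hm, e⟩ := i.2
    rw [mem_tr h.nzQ hm e] at hvQ hwQ
    have h0 := (h.conjV (inv_mem hm)).2 hv
    have h0' := (h.conjV (inv_mem hm)).2 hw
    rw [inv_inv] at h0 h0'
    obtain ⟨x, hx, h1⟩ := h.ev _ h0 hvQ _ h0' hwQ
    refine ⟨m * x * m⁻¹, (conj_mem_tr h.nzQs hm e).2 hx, ?_⟩
    have e2 : m * x * m⁻¹ * w * (m * x * m⁻¹)⁻¹ * w⁻¹ =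
        m * (x * (m⁻¹ * w * m) * x⁻¹ * (m⁻¹ * w * m)⁻¹) * m⁻¹ := by group
    rw [e2, ← e]
    rcases h1 with h1 | h1
    · left; rw [h1]; group
    · right; rw [h1]; group
  trans := by
    intro i j hij k
    obtain ⟨m, hm, ei⟩ := i.2
    obtain ⟨n, hn, ej⟩ := j.2
    obtain ⟨l, hl, ek⟩ := k.2
    have h1 : (m⁻¹ * n) * z * (m⁻¹ * n)⁻¹ ∉ Q := by
      intro h2
      apply hij
      rw [mem_tr h.nzQ hm ei, ← ej]
      have e : m⁻¹ * (n * z * n⁻¹) * m = (m⁻¹ * n) * z * (m⁻¹ * n)⁻¹ := by group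
      rwa [e]
    obtain ⟨x, hx, hx'⟩ := h.trans _ (mul_mem (inv_mem hm) hn) h1 (m⁻¹ * l) (mul_mem (inv_mem hm) hl)
    have key : (Qs ⊔ Qs.map (MulAut.conj (m⁻¹ * n)).toMonoidHom).map (MulAut.conj m).toMonoidHom ≤
        tr P z Qs i ⊔ tr P z Qs j := by
      rw [Subgroup.map_sup, tr_eq h.nzQs hm ei, tr_eq h.nzQs hn ej, Subgroup.map_map]
      refine sup_le_sup le_rfl (le_of_eq ?_)
      congr 1
      ext y
      change m * (m⁻¹ * n * y * (m⁻¹ * n)⁻¹) * m⁻¹ = n * y * n⁻¹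
      group
    refine ⟨m * x * m⁻¹, key ⟨x, hx, rfl⟩, ?_⟩
    rw [← ei, ← ek]
    calc m * x * m⁻¹ * (m * z * m⁻¹) * (m * x * m⁻¹)⁻¹ = m * (x * z * x⁻¹) * m⁻¹ := by group
      _ = _ := by rw [hx']; group
  tri := by
    intro i
    obtain ⟨l, hl, ei⟩ := i.2
    obtain ⟨m, hm, n, hn, h1, h2, h3⟩ := h.tri
    let j : Pts P z := ⟨(l * m) * z * (l * m)⁻¹, l * m, mul_mem hl hm, rfl⟩
    let k : Pts P z := ⟨(l * n) * z * (l * n)⁻¹, l * n, mul_mem hl hn, rfl⟩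
    refine ⟨j, k, ?_, ?_, ?_⟩
    · change (l * m) * z * (l * m)⁻¹ ∉ tr P z Q i
      rw [mem_tr h.nzQ hl ei]
      have e : l⁻¹ * ((l * m) * z * (l * m)⁻¹) * l = m * z * m⁻¹ := by group
      rwa [e]
    · change (l * n) * z * (l * n)⁻¹ ∉ tr P z Q i
      rw [mem_tr h.nzQ hl ei]
      have e : l⁻¹ * ((l * n) * z * (l * n)⁻¹) * l = n * z * n⁻¹ := by group
      rwa [e]
    · change (l * n) * z * (l * n)⁻¹ ∉ tr P z Q j
      rw [mem_tr h.nzQ (mul_mem hl hm) (i := j) rfl]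
      have e : (l * m)⁻¹ * ((l * n) * z * (l * n)⁻¹) * (l * m) =
          (m⁻¹ * n) * z * (m⁻¹ * n)⁻¹ := by group
      rwa [e]
  min := by
    intro i N hN hNm hne
    obtain ⟨m, hm, e⟩ := i.2
    have h1 := h.min (N.map (MulAut.conj m⁻¹).toMonoidHom) ?_ ?_ ?_
    · obtain ⟨x, hx, hxz⟩ := h1
      have e1 : x = m * z * m⁻¹ := by
        have : m⁻¹ * x * m⁻¹⁻¹ = z := hxz
        rw [← this]; group
      rw [← e, ← e1]
      exact hx
    · rintro _ ⟨x, hx, rfl⟩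
      exact (h.conjT (inv_mem hm)).2 (hN hx)
    · rintro n hn hnz _ ⟨x, hx, rfl⟩
      refine ⟨m * n * m⁻¹ * x * (m * n * m⁻¹)⁻¹, hNm _ ((conjP hm).2 hn) ?_ x hx, ?_⟩
      · rw [← e]
        calc m * n * m⁻¹ * (m * z * m⁻¹) = m * (n * z) * m⁻¹ := by group
          _ = m * z * m⁻¹ * (m * n * m⁻¹) := by rw [hnz]; group
      · change m⁻¹ * (m * n * m⁻¹ * x * (m * n * m⁻¹)⁻¹) * m⁻¹⁻¹ = n * (m⁻¹ * x * m⁻¹⁻¹) * n⁻¹
        group
    · intro h0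
      apply hne
      rw [eq_bot_iff]
      intro x hx
      have h2 : (MulAut.conj m⁻¹).toMonoidHom x ∈ N.map (MulAut.conj m⁻¹).toMonoidHom := ⟨x, hx, rfl⟩
      rw [h0, mem_bot] at h2
      have h3 : m⁻¹ * x * m⁻¹⁻¹ = 1 := h2
      rw [mem_bot]
      exact conj_eq_one_iff.1 h3

section

variable (h : Pt P V T z C Q QF Qs)
include h

theorem trC_base : tr P z C (Pts.base P z) = C := tr_base h.nzC

theorem trQ_base : tr P z Q (Pts.base P z) = Q := tr_base h.nzQ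

theorem trQF_base : tr P z QF (Pts.base P z) = QF := tr_base h.nzQF

theorem trQs_base : tr P z Qs (Pts.base P z) = Qs := tr_base h.nzQs

end

end Pt

end Cfsg.Agent.Omega.NOne.AG
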