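import Cfsg.Agent.Mrg.Omega.NOne.AG.Point
import Cfsg.Agent.Mrg.Omega.NO1.Types
import Cfsg.Agent.Mrg.Omega.NOne.LemmaT
import Cfsg.Agent.Mrg.Omega.NO1.Nat.Space

section


/-!
# THEOREM D0ag (bb #15001): the configuration with its Sylow subgroup

`Base`: `Conf` together with the Sylow 2-subgroup `S` of `G`, `T = C_S(V)`, `S ≤ P`, `S ≤ C i₀`, `Ω₁ Z(S) = ⟨z i₀⟩`,
`O₂(C_G(z i₀)) ≤ Q i₀`, `Qs i₀ ≤ O₂(C_G(z i₀))`, `P ∩ C(z i₀) = S C_P(V)`, `|S : T| = 8`.
`Base.of`: from `Pt` and `NO1.Cfg`.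
-/

set_option autoImplicit false

namespace Cfsg.Agent.Omega.NOne.AG

open Subgroup Cfsg Cfsg.Agent.ZN Cfsg.Agent.Omega.MinPar Cfsg.Agent.Omega.Frame
open Cfsg.Agent.Omega.NoFF.LinesPlug (CC)

universe u

variable {G : Type u} [Group G] {ι : Type*}

/-- The abstract configuration of D0ag with its Sylow subgroup. -/
structure Base [Finite G] (S : Sylow 2 G) (P V T : Subgroup G) (z : ι → G) (opp : ι → ι → Prop)
    (C Q QF Qs : ι → Subgroup G) (i₀ : ι) : Prop extends Conf P V T z opp C Q QF Qs where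
  ctx : Ctx G
  T_eq : T = (S : Subgroup G) ⊓ centralizer (V : Set G)
  S_le_P : (S : Subgroup G) ≤ P
  S_le_C : (S : Subgroup G) ≤ C i₀
  omega : ∀ x ∈ (S : Subgroup G), x * x = 1 → (∀ s ∈ (S : Subgroup G), s * x = x * s) →
    x = 1 ∨ x = z i₀
  Q0_le : o2 (centralizer ({z i₀} : Set G)) ≤ Q i₀
  Qs_le : Qs i₀ ≤ o2 (centralizer ({z i₀} : Set G))
  /-- `P ∩ C = S C_P(V)` -/
  stab : ∀ m ∈ P, m * z i₀ = z i₀ * m →
    ∃ s ∈ (S : Subgroup G), ∃ c ∈ P, (∀ v ∈ V, c * v = v * c) ∧ m = s * c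
  index : T.relIndex (S : Subgroup G) = 8

/-- A normal 2-subgroup of a subgroup `X` lies in every Sylow 2-subgroup of `G` contained in `X`. -/
theorem o2_le_sylow [Finite G] (S : Sylow 2 G) {X : Subgroup G} (hSX : (S : Subgroup G) ≤ X) :
    o2 X ≤ S := by
  exact Cfsg.Agent.MinSimple.VModule.o2_le_of_sylow S.isPGroup'
    (MinSimple.Basic.not_dvd_relIndex S hSX)

namespace Base

variable [Finite G] {S : Sylow 2 G} {P V T : Subgroup G} {z : ι → G} {opp : ι → ι → Prop}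
  {C Q QF Qs : ι → Subgroup G} {i₀ : ι}

section

variable (h : Base S P V T z opp C Q QF Qs i₀)
include h

theorem T_le : T ≤ S := h.T_eq.le.trans inf_le_left

theorem V_le : V ≤ S := h.VT.trans h.T_le

theorem C_le : C i₀ ≤ centralizer ({z i₀} : Set G) := fun c hc =>
  mem_centralizer_singleton_iff.2 (h.Cz i₀ c hc)

theorem S_le_cz : (S : Subgroup G) ≤ centralizer ({z i₀} : Set G) := h.S_le_C.trans h.C_le

theorem Q_le : Q i₀ ≤ S := by
  rw [h.Qo2]
  exact o2_le_sylow S h.S_le_C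

theorem S_normT : (S : Subgroup G) ≤ normalizer (T : Set G) := h.S_le_P.trans h.nT

theorem S_normV : (S : Subgroup G) ≤ normalizer (V : Set G) := h.S_le_P.trans h.nV

/-- `z i₀` is central in `S`. -/
theorem Sz (s : G) (hs : s ∈ (S : Subgroup G)) : s * z i₀ = z i₀ * s := h.Cz i₀ s (h.S_le_C hs)

theorem mem_T {x : G} (hx : x ∈ (S : Subgroup G)) (hc : ∀ v ∈ V, x * v = v * x) : x ∈ T := by
  rw [h.T_eq]
  exact ⟨hx, mem_centralizer_iff.2 fun v hv => (hc v hv).symm⟩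

end

end Base

theorem centralizer_zpowers_eq (z : G) :
    centralizer (zpowers z : Set G) = centralizer ({z} : Set G) := by
  apply le_antisymm
  · exact centralizer_le (by simp)
  · intro x hx
    rw [mem_centralizer_singleton_iff] at hx
    rw [mem_centralizer_iff]
    rintro _ ⟨k, rfl⟩
    have h2 : Commute x z := hx
    exact (h2.zpow_right k).eq.symm

/-- **`Base` from `Pt`** and the configuration `NO1.Cfg`. -/
theorem Base.of [Finite G] {S : Sylow 2 G} {P : Subgroup G} (h : NO1.Cfg S P) {z : G}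
    (hz : zc (S : Subgroup G) = zpowers z) {T C Q QF Qs : Subgroup G}
    (hT : T = (S : Subgroup G) ⊓ centralizer (zl (S : Subgroup G) P : Set G))
    (hp : Pt P (zl (S : Subgroup G) P) T z C Q QF Qs) (hSC : (S : Subgroup G) ≤ C)
    (hE : (NO1.EE (S : Subgroup G) P).relIndex (zl (S : Subgroup G) P) = 2)
    (hstab : ∀ m ∈ P, m * z = z * m →
      ∃ s ∈ (S : Subgroup G), ∃ c ∈ P, (∀ v ∈ zl (S : Subgroup G) P, c * v = v * c) ∧ m = s * c)
    (hind : T.relIndex (S : Subgroup G) = 8) :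
    Base S P (zl (S : Subgroup G) P) T (fun i : Pts P z => i.val) hp.opp (tr P z C) (tr P z Q)
      (tr P z QF) (tr P z Qs) (Pts.base P z) where
  toConf := hp.conf
  ctx := h.ctx
  T_eq := hT
  S_le_P := h.S_le
  S_le_C := by rw [hp.trC_base]; exact hSC
  omega := by
    intro x hx hx2 hxc
    have h1 : x ∈ zc (S : Subgroup G) := mem_zc.2 ⟨hx, hxc, by rw [pow_two, hx2]⟩
    rw [hz] at h1
    obtain ⟨k, rfl⟩ := mem_zpowers_iff.1 h1
    have h2 : z ^ (2 : ℤ) = 1 := by rw [zpow_two, hp.sq]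
    rcases Int.even_or_odd' k with ⟨m, hm | hm⟩
    · left
      rw [hm, zpow_mul, h2, one_zpow]
    · right
      change z ^ k = z
      rw [hm, zpow_add, zpow_mul, h2, one_zpow, one_mul, zpow_one]
  Q0_le := by
    rw [hp.trQ_base, hp.Qo2]
    exact o2_le_o2 S hSC fun c hc => mem_centralizer_singleton_iff.2 (hp.Cz c hc)
  Qs_le := by
    rw [hp.trQs_base]
    change Qs ≤ o2 (centralizer ({z} : Set G))
    have hCC : CC (S : Subgroup G) = centralizer ({z} : Set G) := by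
      change centralizer (zc (S : Subgroup G) : Set G) = _
      rw [hz, centralizer_zpowers_eq]
    have hCz : C ≤ centralizer ({z} : Set G) := fun c hc =>
      mem_centralizer_singleton_iff.2 (hp.Cz c hc)
    have hQ0 : o2 (centralizer ({z} : Set G)) ≤ Q := by
      rw [hp.Qo2]
      exact o2_le_o2 S hSC hCz
    have hle : NO1.EE (S : Subgroup G) P ≤ zl (S : Subgroup G) P ⊓ Q := by
      refine le_inf inf_le_left (inf_le_right.trans ?_)
      rw [hCC]
      exact hQ0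
    have hlt : ¬ zl (S : Subgroup G) P ≤ Q := by
      intro h0
      obtain ⟨m, hm, n, hn, h1, -, -⟩ := hp.tri
      exact h1 (h0 ((hp.conjV hm).2 hp.zV))
    have hEE : zl (S : Subgroup G) P ⊓ Q ≤ NO1.EE (S : Subgroup G) P := by
      have h1 := relIndex_mul_relIndex (NO1.EE (S : Subgroup G) P) (zl (S : Subgroup G) P ⊓ Q)
        (zl (S : Subgroup G) P) hle inf_le_left
      rw [hE] at h1
      have h2 : (zl (S : Subgroup G) P ⊓ Q).relIndex (zl (S : Subgroup G) P) ≠ 1 := by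
        intro h3
        exact hlt ((relIndex_eq_one.1 h3).trans inf_le_right)
      have h3 : (NO1.EE (S : Subgroup G) P).relIndex (zl (S : Subgroup G) P ⊓ Q) = 1 := by
        rcases (Nat.dvd_prime Nat.prime_two).1 (Dvd.intro_left _ h1) with h4 | h4
        · exact absurd h4 h2
        · rw [h4] at h1
          omega
      exact relIndex_eq_one.1 h3
    refine hp.QsGen.trans ((closure_le _).2 ?_)
    rintro _ ⟨c, hc, e, he, heQ, rfl⟩
    have h1 : e ∈ o2 (centralizer ({z} : Set G)) := by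
      rw [← hCC]
      exact (hEE ⟨he, heQ⟩).2
    exact (mem_normalizer_iff.1 (le_normalizer_o2 _ (hCz hc)) e).1 h1
  stab := hstab
  index := hind

end Cfsg.Agent.Omega.NOne.AG

end

section


/-!
# THEOREM D0ag (bb #15001), (3), last line: `|S| = 2⁷`, `C_S(V) = V` implies `r(S) ≤ 4` (piece P3, helper319)

* `rank_of` : a Sylow 2-subgroup `S ⊵ V = 2⁴`, `|S : V| ≤ 8`, `C_S(V) = V`, some `s² ∉ V`, and every `X ≤ S` with
  `|XV/V| ≥ 3` contains an element `x` with `|C_V(x)| ≤ 4` : sectional 2-rank at most 4;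
* `Base.false_of_plus` : type (γ) (`Plus2`), `T = V`: contradiction;
* `Base.false_of_alp` : type (α) (`Alp`), `T = V`: contradiction.
-/

set_option autoImplicit false

namespace Cfsg.Agent.Omega.NOne.AG.Rank

open Subgroup Cfsg Cfsg.Agent.ZN Cfsg.Agent.Omega.MinPar Cfsg.Agent.Omega.Frame
open Cfsg.Agent.Omega.NO1.Nat.SixA
open Cfsg.Agent.Omega.NO1.Nat.SevenA (sup_dec)
open Cfsg.Agent.TwoFusion.SectionalRank (ElemSection sectionalPRankLE_iff exists_sylow_section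
  card_eq_relIndex_mul)
open Cfsg.Agent.Omega.NO1 (Plus2)

universe u

variable {G : Type u} [Group G]

/-- `|V ∩ X| ≤ n |V ∩ Y|` if `s ∈ X` acts on `V` with `|C_V(s)| ≤ n` and `[X, X] ≤ Y`. -/
theorem sec_bound [Finite G] {V X Y : Subgroup G} {n : ℕ} {s : G} (hs : s ∈ X)
    (hsV : s ∈ normalizer (V : Set G)) (hcomm : ∀ x ∈ V, ∀ y ∈ V, x * y = y * x)
    (hXY : ∀ a ∈ X, ∀ b ∈ X, a * b * a⁻¹ * b⁻¹ ∈ Y)
    (hn : Nat.card ↥(V ⊓ centralizer ({s} : Set G)) ≤ n) :
    Nat.card ↥(V ⊓ X) ≤ n * Nat.card ↥(V ⊓ Y) := by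
  have hval : ∀ m ∈ V ⊓ X, s * m * s⁻¹ * m⁻¹ ∈ V ⊓ Y := by
    intro m hm
    obtain ⟨hm1, hm2⟩ := mem_inf.1 hm
    exact mem_inf.2 ⟨mul_mem (conj_mem hsV hm1) (inv_mem hm1), hXY s hs m hm2⟩
  let f : ↥(V ⊓ X) →* ↥(V ⊓ Y) :=
    { toFun := fun m => ⟨s * m * s⁻¹ * (m : G)⁻¹, hval m m.2⟩
      map_one' := by
        apply Subtype.ext; simp
      map_mul' := fun x y => by
        apply Subtype.ext
        have h2 := hcomm _ (mem_inf.1 (hval y y.2)).1 _ (inv_mem (mem_inf.1 x.2).1)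
        change s * (x * y) * s⁻¹ * ((x : G) * y)⁻¹ =
          (s * x * s⁻¹ * (x : G)⁻¹) * (s * y * s⁻¹ * (y : G)⁻¹)
        calc s * (x * y) * s⁻¹ * ((x : G) * y)⁻¹
            = s * x * s⁻¹ * (s * y * s⁻¹ * (y : G)⁻¹ * (x : G)⁻¹) := by group
          _ = s * x * s⁻¹ * ((x : G)⁻¹ * (s * y * s⁻¹ * (y : G)⁻¹)) := by rw [h2]
          _ = _ := by group }
  have hk : Nat.card f.ker ≤ n := by
    have h3 : f.ker.map (V ⊓ X).subtype ≤ V ⊓ centralizer ({s} : Set G) := by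
      rintro _ ⟨m, hm, rfl⟩
      refine mem_inf.2 ⟨(mem_inf.1 m.2).1, ?_⟩
      have h4 : s * m * s⁻¹ * (m : G)⁻¹ = 1 := congrArg Subtype.val (MonoidHom.mem_ker.1 hm)
      rw [mem_centralizer_singleton_iff]
      change (m : G) * s = s * m
      calc (m : G) * s = 1 * m * s := by rw [one_mul]
        _ = s * m * s⁻¹ * (m : G)⁻¹ * m * s := by rw [h4]
        _ = s * m := by group
    have h4 := Subgroup.card_le_of_le h3
    rw [Subgroup.card_map_of_injective (V ⊓ X).subtype_injective] at h4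
    exact h4.trans hn
  have h3 : Nat.card f.ker * Nat.card f.range = Nat.card ↥(V ⊓ X) := by
    rw [← Subgroup.index_ker f]
    exact f.ker.card_mul_index
  rw [← h3]
  exact Nat.mul_le_mul hk (Subgroup.card_le_card_group _)

/-- The rank of a group with Sylow 2-subgroup `S ⊵ V = 2⁴`. -/
theorem rank_of [Finite G] (S : Sylow 2 G) {V : Subgroup G} (hVc : Nat.card V = 16)
    (hSV : (S : Subgroup G) ≤ normalizer (V : Set G))
    (hcomm : ∀ x ∈ V, ∀ y ∈ V, x * y = y * x) (hi : V.relIndex S ≤ 8) (hVS : V ≤ S)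
    (hC : ∀ s ∈ (S : Subgroup G), (∀ v ∈ V, s * v = v * s) → s ∈ V)
    (hX : ∀ X : Subgroup G, X ≤ S → 3 ≤ V.relIndex X →
      ∃ x ∈ X, Nat.card ↥(V ⊓ centralizer ({x} : Set G)) ≤ 4)
    (hsq : ∃ s ∈ (S : Subgroup G), s * s ∉ V) : SectionalPRankLE 2 4 G := by
  rw [sectionalPRankLE_iff]
  intro X₀ Y₀ h₀
  obtain ⟨X, Y, hXS, hXY, hc⟩ := exists_sylow_section S h₀
  -- enough for `X ≤ S`
  suffices hmain : Nat.card X ≤ 2 ^ 4 * Nat.card Y by
    have h1 : 0 < Nat.card Y := Nat.card_pos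
    have h2 : Nat.card X₀ * Nat.card Y ≤ (2 ^ 4 * Nat.card Y₀) * Nat.card Y := by
      rw [hc]
      calc Nat.card X * Nat.card Y₀ ≤ (2 ^ 4 * Nat.card Y) * Nat.card Y₀ :=
            Nat.mul_le_mul_right _ hmain
        _ = _ := by ring
    exact Nat.le_of_mul_le_mul_right h2 h1
  by_cases hXM : X ≤ V
  · have h1 := Subgroup.card_le_of_le hXM
    have h2 : 0 < Nat.card Y := Nat.card_pos
    rw [hVc] at h1
    omega
  have hne : ∀ A B : Subgroup G, A.relIndex B ≠ 0 := fun A B =>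
    index_ne_zero_of_finite (H := A.subgroupOf B)
  have h5 : Nat.card X = V.relIndex X * Nat.card ↥(V ⊓ X) := by
    have := card_eq_relIndex_mul X (V ⊓ X) inf_le_right
    rwa [inf_relIndex_right] at this
  have h6 : Nat.card Y = V.relIndex Y * Nat.card ↥(V ⊓ Y) := by
    have := card_eq_relIndex_mul Y (V ⊓ Y) inf_le_right
    rwa [inf_relIndex_right] at this
  by_cases h3 : 3 ≤ V.relIndex X
  · obtain ⟨s, hs, hs4⟩ := hX X hXS h3
    -- `|X ∩ V| ≤ 4 |Y ∩ V|`
    have h1 := sec_bound hs (hSV (hXS hs)) hcomm hXY.comm hs4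
    -- `|X : X ∩ V| ≤ 4 |Y : Y ∩ V|`
    have h2 : V.relIndex X ≤ 4 * V.relIndex Y := by
      have h3 : V.relIndex X ≤ 8 := (relIndex_le_of_le_right hXS (hne _ _)).trans hi
      by_cases h4 : V.relIndex Y = 1
      · by_contra hlt
        rw [h4] at hlt
        push Not at hlt
        have hYM : Y ≤ V := relIndex_eq_one.1 h4
        have h5 : V.relIndex X ≤ V.relIndex (V ⊔ X) :=
          relIndex_le_of_le_right le_sup_right (hne _ _)
        have h6 : V.relIndex (V ⊔ X) * (V ⊔ X).relIndex S = V.relIndex S :=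
          relIndex_mul_relIndex _ _ _ le_sup_left (sup_le hVS hXS)
        have h7 : (V ⊔ X).relIndex S = 1 := by
          have h8 := hne (V ⊔ X) S
          by_contra h9
          have h10 : 5 * 2 ≤ V.relIndex (V ⊔ X) * (V ⊔ X).relIndex S :=
            Nat.mul_le_mul (by omega) (by omega)
          omega
        obtain ⟨r, hr, hrM⟩ := hsq
        obtain ⟨x, hx, m, hm, rfl⟩ := sup_dec (hXS.trans hSV) (relIndex_eq_one.1 h7 hr)
        apply hrM
        have h8 : x * x ∈ V := by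
          have := hXY.pow x hx
          rw [pow_two] at this
          exact hYM this
        have h9 := conj_mem' (hSV (hXS hx)) hm
        have h10 := mul_mem (mul_mem h8 h9) hm
        rwa [show x * x * (x⁻¹ * m * x) * m = x * m * (x * m) by group] at h10
      · have h5 := hne V Y
        have h6 : 2 ≤ V.relIndex Y := by omega
        omega
    rw [h5, h6]
    calc V.relIndex X * Nat.card ↥(V ⊓ X) ≤ (4 * V.relIndex Y) * (4 * Nat.card ↥(V ⊓ Y)) :=
          Nat.mul_le_mul h2 h1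
      _ = _ := by ring
  · -- `|XV/V| ≤ 2`
    obtain ⟨s, hs, hsM⟩ := SetLike.not_le_iff_exists.1 hXM
    have h8 : Nat.card ↥(V ⊓ centralizer ({s} : Set G)) ≤ 8 := by
      have hlt : V ⊓ centralizer ({s} : Set G) < V := by
        refine lt_of_le_of_ne inf_le_left fun heq => hsM (hC s (hXS hs) fun v hv => ?_)
        rw [← heq] at hv
        exact ((mem_centralizer_singleton_iff).1 (mem_inf.1 hv).2).symm
      have h9 := Subgroup.card_dvd_of_le hlt.le
      have h10 : Nat.card ↥(V ⊓ centralizer ({s} : Set G)) ≠ Nat.card V := fun he =>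
        hlt.ne (Subgroup.eq_of_le_of_card_ge hlt.le he.ge)
      rw [hVc] at h9 h10
      have h11 := Nat.le_of_dvd (by norm_num) h9
      by_contra h12
      push Not at h12
      generalize Nat.card ↥(V ⊓ centralizer ({s} : Set G)) = k at *
      interval_cases k <;> omega
    have h1 := sec_bound hs (hSV (hXS hs)) hcomm hXY.comm h8
    have h2 : 0 < V.relIndex Y := Nat.pos_of_ne_zero (hne _ _)
    have h9 : V.relIndex X ≤ 2 := by omega
    rw [h5, h6]
    calc V.relIndex X * Nat.card ↥(V ⊓ X) ≤ 2 * (8 * Nat.card ↥(V ⊓ Y)) := Nat.mul_le_mul h9 h1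
      _ = 2 ^ 4 * (1 * Nat.card ↥(V ⊓ Y)) := by ring
      _ ≤ _ := Nat.mul_le_mul_left _ (Nat.mul_le_mul_right _ h2)

theorem conj_eq_iff {s v : G} : s * v * s⁻¹ = v ↔ s * v = v * s := by
  rw [mul_inv_eq_iff_eq_mul]

/-- `|C_V(s)| ≤ 4` if `s` moves `v`, `w` and `v w`. -/
theorem card_le_four [Finite G] {V : Subgroup G} (hVc : Nat.card V = 16) {s v w : G}
    (hv : v ∈ V) (hw : w ∈ V) (h1 : s * v * s⁻¹ ≠ v) (h2 : s * w * s⁻¹ ≠ w)
    (h3 : s * (v * w) * s⁻¹ ≠ v * w) : Nat.card ↥(V ⊓ centralizer ({s} : Set G)) ≤ 4 := by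
  set C := V ⊓ centralizer ({s} : Set G) with hC
  have hm : ∀ x ∈ V, s * x * s⁻¹ ≠ x → x ∉ C := fun x _ hx hxC => by
    have h4 := mem_centralizer_singleton_iff.1 (mem_inf.1 hxC).2
    exact hx (conj_eq_iff.2 h4.symm)
  have h4 : Nat.card C * C.relIndex V = 16 := by
    have := card_eq_relIndex_mul V C inf_le_left
    rw [hVc] at this
    rw [this]; ring
  have h5 : C.relIndex V ≠ 1 := fun h => hm v hv h1 (relIndex_eq_one.1 h hv)
  have h6 : C.relIndex V ≠ 2 := by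
    intro h
    have h7 := Subgroup.mul_mem_iff_of_index_two (H := C.subgroupOf V) h
      (a := ⟨v, hv⟩) (b := ⟨w, hw⟩)
    have h8 : (⟨v, hv⟩ : V) * ⟨w, hw⟩ ∈ C.subgroupOf V := by
      rw [h7]
      constructor
      · intro h9; exact absurd (mem_subgroupOf.1 h9) (hm v hv h1)
      · intro h9; exact absurd (mem_subgroupOf.1 h9) (hm w hw h2)
    exact hm (v * w) (mul_mem hv hw) h3 (mem_subgroupOf.1 h8)
  have h7 : C.relIndex V ≠ 0 := by
    intro h; rw [h] at h4; omega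
  have h8 : C.relIndex V ≠ 3 := by
    intro h; rw [h] at h4; omega
  have h9 : 4 ≤ C.relIndex V := by omega
  by_contra h10
  push Not at h10
  have h11 : 5 * 4 ≤ Nat.card C * C.relIndex V := Nat.mul_le_mul h10 h9
  omega

/-- three cosets -/
theorem exists_pair [Finite G] {V X : Subgroup G} (h : 3 ≤ V.relIndex X) :
    ∃ x ∈ X, ∃ y ∈ X, x ∉ V ∧ y ∉ V ∧ x⁻¹ * y ∉ V := by
  by_contra hcon
  push Not at hcon
  have h1 : ¬ X ≤ V := fun h2 => by rw [relIndex_eq_one.2 h2] at h; omega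
  obtain ⟨x, hx, hxV⟩ := SetLike.not_le_iff_exists.1 h1
  have h2 : V.relIndex X = 2 := by
    change (V.subgroupOf X).index = 2
    rw [Subgroup.index_eq_two_iff]
    refine ⟨⟨x⁻¹, inv_mem hx⟩, fun b => ?_⟩
    rw [mem_subgroupOf, mem_subgroupOf]
    change Xor (((b : X) : G) * x⁻¹ ∈ V) ((b : G) ∈ V)
    by_cases hb : (b : G) ∈ V
    · right
      refine ⟨hb, fun h3 => hxV ?_⟩
      have h4 := mul_mem (inv_mem h3) hb
      have h5 := mul_mem (inv_mem hb) h3
      rw [inv_mul_cancel_left] at h5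
      exact inv_mem_iff.1 h5
    · left
      refine ⟨?_, hb⟩
      have h3 := hcon (b : G)⁻¹ (inv_mem b.2) x⁻¹ (inv_mem hx) (fun h => hb (inv_mem_iff.1 h))
        (fun h => hxV (inv_mem_iff.1 h))
      rwa [inv_inv] at h3
  omega

/-! ### Type (γ) -/

section plus

variable {S P : Subgroup G} {z : Fin 3 → Fin 3 → G} (h : Plus2 S P z)
include h

theorem Plus.mem (i j : Fin 3) : z i j ∈ zl S P := by
  rw [← h.gen]; exact subset_closure ⟨(i, j), rfl⟩

theorem Plus.prodR (i : Fin 3) : z i 1 * z i 2 = z i 0 := by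
  have h1 := h.row i
  have h2 := h.sq i 0
  calc z i 1 * z i 2 = (z i 0 * z i 0) * (z i 1 * z i 2) := by rw [h2, one_mul]
    _ = z i 0 * (z i 0 * z i 1 * z i 2) := by group
    _ = z i 0 := by rw [h1, mul_one]

theorem Plus.prodC (j : Fin 3) : z 1 j * z 2 j = z 0 j := by
  have h1 := h.col j
  have h2 := h.sq 0 j
  calc z 1 j * z 2 j = (z 0 j * z 0 j) * (z 1 j * z 2 j) := by rw [h2, one_mul]
    _ = z 0 j * (z 0 j * z 1 j * z 2 j) := by group
    _ = z 0 j := by rw [h1, mul_one]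

theorem Plus.ne_diag : z 1 2 * z 2 1 ≠ z 1 1 * z 2 2 := by
  intro he
  have h1 : z 1 0 * z 2 0 = 1 := by
    rw [← Plus.prodR h 1, ← Plus.prodR h 2]
    calc z 1 1 * z 1 2 * (z 2 1 * z 2 2) = z 1 1 * (z 1 2 * z 2 1) * z 2 2 := by group
      _ = z 1 1 * (z 1 1 * z 2 2) * z 2 2 := by rw [he]
      _ = (z 1 1 * z 1 1) * (z 2 2 * z 2 2) := by group
      _ = 1 := by rw [h.sq, h.sq, mul_one]
  rw [Plus.prodC h 0] at h1
  exact h.ne_one 0 0 h1

theorem Plus.same {x y : G} (hxy : ∀ i j, x * z i j * x⁻¹ = y * z i j * y⁻¹) {v : G}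
    (hv : v ∈ zl S P) : x * v * x⁻¹ = y * v * y⁻¹ := by
  rw [← h.gen] at hv
  induction hv using closure_induction with
  | mem v hv => obtain ⟨⟨i, j⟩, rfl⟩ := hv; exact hxy i j
  | one => simp
  | mul a b _ _ ha hb =>
    calc x * (a * b) * x⁻¹ = (x * a * x⁻¹) * (x * b * x⁻¹) := by group
      _ = (y * a * y⁻¹) * (y * b * y⁻¹) := by rw [ha, hb]
      _ = _ := by group
  | inv a _ ha =>
    calc x * a⁻¹ * x⁻¹ = (x * a * x⁻¹)⁻¹ := by group
      _ = (y * a * y⁻¹)⁻¹ := by rw [ha]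
      _ = _ := by group

/-- `s ∈ P` fixing `z 0 0`: few fixed points, trivial, or one of two transvections. -/
theorem Plus.types [Finite G] (hc : Nat.card ↥(zl S P) = 16) {s : G} (hs : s ∈ P)
    (h0 : s * z 0 0 * s⁻¹ = z 0 0) :
    Nat.card ↥(zl S P ⊓ centralizer ({s} : Set G)) ≤ 4 ∨ (∀ i j, s * z i j * s⁻¹ = z i j) ∨
      (∀ i j, s * z i j * s⁻¹ = z j i) ∨
      (∀ i j, s * z i j * s⁻¹ = z (Equiv.swap 1 2 j) (Equiv.swap 1 2 i)) := by
  have key : ∀ v ∈ zl S P, ∀ w ∈ zl S P, ∀ v' w' p p' : G, s * v * s⁻¹ = v' → s * w * s⁻¹ = w' →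
      v * w = p → v' * w' = p' → v' ≠ v → w' ≠ w → p' ≠ p →
      Nat.card ↥(zl S P ⊓ centralizer ({s} : Set G)) ≤ 4 := by
    intro v hv w hw v' w' p p' h1 h2 h3 h4 h5 h6 h7
    refine card_le_four hc hv hw (by rw [h1]; exact h5) (by rw [h2]; exact h6) ?_
    have h8 : s * (v * w) * s⁻¹ = p' := by
      rw [← h4, ← h1, ← h2]; group
    rw [h8, h3]; exact h7
  have hne : ∀ i j k l : Fin 3, ¬ (i = k ∧ j = l) → z i j ≠ z k l := fun i j k l hn he =>
    hn (h.inj _ _ _ _ he)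
  have hfix : ∀ σ : Equiv.Perm (Fin 3), σ 0 = 0 → σ = 1 ∨ σ = Equiv.swap 1 2 := by decide
  have e1 : (Equiv.swap (1 : Fin 3) 2) 1 = 2 := by decide
  have e2 : (Equiv.swap (1 : Fin 3) 2) 2 = 1 := by decide
  obtain ⟨σ, τ, hst | hst⟩ := h.perm s hs
  · have h1 := hst 0 0
    rw [h0] at h1
    obtain ⟨h2, h3⟩ := h.inj _ _ _ _ h1
    rcases hfix σ h2.symm with rfl | rfl <;> rcases hfix τ h3.symm with rfl | rfl
    · right; left; intro i j; rw [hst]; rfl
    · left
      refine key _ (Plus.mem h 1 1) _ (Plus.mem h 2 1) _ _ _ (z 0 2) (hst 1 1) (hst 2 1)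
        (Plus.prodC h 1) ?_ ?_ ?_ ?_
      · simp only [Equiv.Perm.coe_one, id_eq, e1]; exact Plus.prodC h 2
      · exact hne _ _ _ _ (by decide)
      · exact hne _ _ _ _ (by decide)
      · exact hne _ _ _ _ (by decide)
    · left
      refine key _ (Plus.mem h 1 1) _ (Plus.mem h 1 2) _ _ _ (z 2 0) (hst 1 1) (hst 1 2)
        (Plus.prodR h 1) ?_ ?_ ?_ ?_
      · simp only [Equiv.Perm.coe_one, id_eq, e1]; exact Plus.prodR h 2
      · exact hne _ _ _ _ (by decide)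
      · exact hne _ _ _ _ (by decide)
      · exact hne _ _ _ _ (by decide)
    · left
      refine key _ (Plus.mem h 1 1) _ (Plus.mem h 1 2) _ _ _ (z 2 0) (hst 1 1) (hst 1 2)
        (Plus.prodR h 1) ?_ ?_ ?_ ?_
      · simp only [e1, e2]; rw [h.comm]; exact Plus.prodR h 2
      · exact hne _ _ _ _ (by decide)
      · exact hne _ _ _ _ (by decide)
      · exact hne _ _ _ _ (by decide)
  · have h1 := hst 0 0
    rw [h0] at h1
    obtain ⟨h2, h3⟩ := h.inj _ _ _ _ h1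
    rcases hfix σ h2.symm with rfl | rfl <;> rcases hfix τ h3.symm with rfl | rfl
    · right; right; left; intro i j; rw [hst]; rfl
    · left
      refine key _ (Plus.mem h 1 1) _ (Plus.mem h 2 2) _ _ _ _ (hst 1 1) (hst 2 2) rfl rfl ?_ ?_ ?_
      · exact hne _ _ _ _ (by decide)
      · exact hne _ _ _ _ (by decide)
      · simp only [Equiv.Perm.coe_one, id_eq, e1, e2]; exact Plus.ne_diag h
    · left
      refine key _ (Plus.mem h 1 1) _ (Plus.mem h 2 2) _ _ _ _ (hst 1 1) (hst 2 2) rfl rfl ?_ ?_ ?_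
      · exact hne _ _ _ _ (by decide)
      · exact hne _ _ _ _ (by decide)
      · simp only [Equiv.Perm.coe_one, id_eq, e1, e2]; rw [h.comm]; exact Plus.ne_diag h
    · right; right; right; exact hst

/-- a subgroup of `S` with three cosets of `V` contains an element with few fixed points. -/
theorem Plus.exists_le [Finite G] (hc : Nat.card ↥(zl S P) = 16) (hSP : S ≤ P)
    (h0 : ∀ s ∈ S, s * z 0 0 * s⁻¹ = z 0 0)
    (hC : ∀ s ∈ S, (∀ v ∈ zl S P, s * v = v * s) → s ∈ zl S P) {X : Subgroup G} (hXS : X ≤ S)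
    (hX : 3 ≤ (zl S P).relIndex X) :
    ∃ x ∈ X, Nat.card ↥(zl S P ⊓ centralizer ({x} : Set G)) ≤ 4 := by
  obtain ⟨x, hx, y, hy, hxV, hyV, hxyV⟩ := exists_pair hX
  have hcen : ∀ s ∈ S, (∀ i j, s * z i j * s⁻¹ = z i j) → s ∈ zl S P := by
    intro s hs hs'
    refine hC s hs fun v hv => conj_eq_iff.1 ?_
    have := Plus.same h (x := s) (y := 1) (fun i j => by rw [hs']; simp) hv
    rw [this]; simp
  have hsame : ∀ f : Fin 3 → Fin 3 → G, (∀ i j, x * z i j * x⁻¹ = f i j) →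
      (∀ i j, y * z i j * y⁻¹ = f i j) → False := by
    intro f h1 h2
    apply hxyV
    refine hcen _ (mul_mem (inv_mem (hXS hx)) (hXS hy)) fun i j => ?_
    calc x⁻¹ * y * z i j * (x⁻¹ * y)⁻¹ = x⁻¹ * (y * z i j * y⁻¹) * x := by group
      _ = x⁻¹ * (x * z i j * x⁻¹) * x := by rw [h1, h2]
      _ = z i j := by group
  have e3 : ∀ i : Fin 3, (Equiv.swap (1 : Fin 3) 2) ((Equiv.swap (1 : Fin 3) 2) i) = i := by decide
  have hxy : ∀ x ∈ X, ∀ y ∈ X, (∀ i j, x * z i j * x⁻¹ = z j i) →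
      (∀ i j, y * z i j * y⁻¹ = z (Equiv.swap 1 2 j) (Equiv.swap 1 2 i)) →
      ∃ x ∈ X, Nat.card ↥(zl S P ⊓ centralizer ({x} : Set G)) ≤ 4 := by
    intro x hx y hy h1 h2
    refine ⟨x * y, mul_mem hx hy, ?_⟩
    have h3 : ∀ i j, x * y * z i j * (x * y)⁻¹ = z (Equiv.swap 1 2 i) (Equiv.swap 1 2 j) := by
      intro i j
      calc x * y * z i j * (x * y)⁻¹ = x * (y * z i j * y⁻¹) * x⁻¹ := by group
        _ = _ := by rw [h2, h1]
    rcases Plus.types h hc (hSP (hXS (mul_mem hx hy))) (h0 _ (hXS (mul_mem hx hy))) with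
      h4 | h4 | h4 | h4
    · exact h4
    · exfalso
      have h5 := (h3 1 1).symm.trans (h4 1 1)
      exact absurd (h.inj _ _ _ _ h5) (by decide)
    · exfalso
      have h5 := (h3 1 1).symm.trans (h4 1 1)
      exact absurd (h.inj _ _ _ _ h5) (by decide)
    · exfalso
      have h5 := (h3 1 2).symm.trans (h4 1 2)
      exact absurd (h.inj _ _ _ _ h5) (by decide)
  rcases Plus.types h hc (hSP (hXS hx)) (h0 _ (hXS hx)) with h1 | h1 | h1 | h1
  · exact ⟨x, hx, h1⟩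
  · exact absurd (hcen x (hXS hx) h1) hxV
  · rcases Plus.types h hc (hSP (hXS hy)) (h0 _ (hXS hy)) with h2 | h2 | h2 | h2
    · exact ⟨y, hy, h2⟩
    · exact absurd (hcen y (hXS hy) h2) hyV
    · exact (hsame _ h1 h2).elim
    · exact hxy x hx y hy h1 h2
  · rcases Plus.types h hc (hSP (hXS hy)) (h0 _ (hXS hy)) with h2 | h2 | h2 | h2
    · exact ⟨y, hy, h2⟩
    · exact absurd (hcen y (hXS hy) h2) hyV
    · exact hxy y hy x hx h2 h1
    · exact (hsame _ h1 h2).elim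

end plus

/-! ### Type (α) -/

theorem d5_exists : ∀ {a b c d : Fin 5}, D4 a b c d → ∃ m, D5 a b c d m := by decide +kernel

theorem d5_of : ∀ m : Fin 5, ∃ a b c d, D5 a b c d m := by decide +kernel

theorem all5 : ∀ {a b c d m : Fin 5}, D5 a b c d m → ∀ t, t = a ∨ t = b ∨ t = c ∨ t = d ∨ t = m := by
  decide +kernel

theorem map4 {a b c d : Fin 5} (h : D4 a b c d) (σ : Equiv.Perm (Fin 5)) :
    D4 (σ a) (σ b) (σ c) (σ d) := by
  obtain ⟨h1, h2, h3, h4, h5, h6⟩ := h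
  refine ⟨?_, ?_, ?_, ?_, ?_, ?_⟩ <;> simpa

theorem map5 {a b c d m : Fin 5} (h : D5 a b c d m) (σ : Equiv.Perm (Fin 5)) :
    D5 (σ a) (σ b) (σ c) (σ d) (σ m) := by
  obtain ⟨h0, h1, h2, h3, h4⟩ := h
  refine ⟨map4 h0 σ, ?_, ?_, ?_, ?_⟩ <;> simpa

section alp

variable {P V : Subgroup G} {Z : Fin 5 → Fin 5 → Fin 5 → Fin 5 → G} (h : Alp P V Z)
include h

theorem Alp.L2 {a b c d m : Fin 5} (hd : D5 a b c d m) : Z a b c d ≠ Z a b c m := by
  obtain ⟨⟨h1, h2, h3, h4, h5, h6⟩, h7, h8, h9, h10⟩ := hd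
  intro he
  have h11 := h.line2 a b c d m ⟨⟨h1, h2, h3, h4, h5, h6⟩, h7, h8, h9, h10⟩
  rw [← he, h.sq _ (h.mem _ _ _ _ ⟨h1, h2, h3, h4, h5, h6⟩)] at h11
  exact h.ne_one a b d m ⟨h1, h3, h7.symm, h5, h8.symm, h10.symm⟩ h11.symm

theorem Alp.L3 {a b c d m : Fin 5} (hd : D5 a b c d m) : Z a b c d ≠ Z b c d m := by
  obtain ⟨⟨h1, h2, h3, h4, h5, h6⟩, h7, h8, h9, h10⟩ := hd
  intro he
  have h11 := h.hyp a b c d m ⟨⟨h1, h2, h3, h4, h5, h6⟩, h7, h8, h9, h10⟩
  rw [← he, h.sq _ (h.mem _ _ _ _ ⟨h1, h2, h3, h4, h5, h6⟩)] at h11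
  exact h.ne_one b m a d ⟨h8.symm, h1.symm, h5, h7, h10, h3⟩ h11.symm

theorem Alp.e3 {a b c d : Fin 5} (hd : D4 a b c d) : Z a b c d = Z a b d c := by
  obtain ⟨h1, h2, h3, h4, h5, h6⟩ := hd
  rw [h.swap2 a b c d ⟨h1, h2, h3, h4, h5, h6⟩,
    h.swap1 c d a b ⟨h6, h2.symm, h4.symm, h3.symm, h5.symm, h1⟩,
    h.swap2 d c a b ⟨h6.symm, h3.symm, h5.symm, h2.symm, h4.symm, h1⟩]

/-- `{x, y, w} = {a, b, c}` -/
theorem Alp.missA {a b c d m x y w : Fin 5} (hd : D5 a b c d m) (hd' : D5 x y w m d) :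
    Z a b c d ≠ Z x y w m := by
  have key : Z a b c d ≠ Z a b c m := Alp.L2 h hd
  obtain ⟨⟨h1, h2, h3, h4, h5, h6⟩, h7, h8, h9, h10⟩ := id hd
  obtain ⟨⟨k1, k2, k3, k4, k5, k6⟩, k7, k8, k9, k10⟩ := id hd'
  have key2 : Z a b c d ≠ Z c b a m := by
    have e : Z a b c d = Z d c b a := by
      rw [h.swap2 a b c d hd.1, h.swap1 c d a b ⟨h6, h2.symm, h4.symm, h3.symm, h5.symm, h1⟩,
        Alp.e3 h ⟨h6.symm, h3.symm, h5.symm, h2.symm, h4.symm, h1⟩]
    rw [e]
    exact Alp.L3 h ⟨⟨h6.symm, h5.symm, h3.symm, h4.symm, h2.symm, h1.symm⟩, h10, h9, h8, h7⟩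
  have key3 : Z a b c d ≠ Z c a b m := by
    have e : Z a b c d = Z d c a b := by
      rw [h.swap2 a b c d hd.1, h.swap1 c d a b ⟨h6, h2.symm, h4.symm, h3.symm, h5.symm, h1⟩]
    rw [e]
    exact Alp.L3 h ⟨⟨h6.symm, h3.symm, h5.symm, h2.symm, h4.symm, h1⟩, h10, h9, h7, h8⟩
  have hx := all5 hd x
  have hy := all5 hd y
  have hw := all5 hd w
  rcases hx with rfl | rfl | rfl | hx | hx
  · rcases hy with hy | rfl | rfl | hy | hy
    · exact absurd hy.symm k1
    · rcases hw with hw | hw | rfl | hw | hw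
      · exact absurd hw.symm k2
      · exact absurd hw.symm k4
      · exact key
      · exact absurd hw.symm k9
      · exact absurd hw k6
    · rcases hw with hw | rfl | hw | hw | hw
      · exact absurd hw.symm k2
      · rw [h.swap1 x y w m hd'.1]; exact key3
      · exact absurd hw.symm k4
      · exact absurd hw.symm k9
      · exact absurd hw k6
    · exact absurd hy.symm k8
    · exact absurd hy k5
  · rcases hy with rfl | hy | rfl | hy | hy
    · rcases hw with hw | hw | rfl | hw | hw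
      · exact absurd hw.symm k4
      · exact absurd hw.symm k2
      · rw [h.swap1 x y w m hd'.1]; exact key
      · exact absurd hw.symm k9
      · exact absurd hw k6
    · exact absurd hy.symm k1
    · rcases hw with rfl | hw | hw | hw | hw
      · rw [h.swap1 x y w m hd'.1]; exact key2
      · exact absurd hw.symm k2
      · exact absurd hw.symm k4
      · exact absurd hw.symm k9
      · exact absurd hw k6
    · exact absurd hy.symm k8
    · exact absurd hy k5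
  · rcases hy with rfl | rfl | hy | hy | hy
    · rcases hw with hw | rfl | hw | hw | hw
      · exact absurd hw.symm k4
      · exact key3
      · exact absurd hw.symm k2
      · exact absurd hw.symm k9
      · exact absurd hw k6
    · rcases hw with rfl | hw | hw | hw | hw
      · exact key2
      · exact absurd hw.symm k4
      · exact absurd hw.symm k2
      · exact absurd hw.symm k9
      · exact absurd hw k6
    · exact absurd hy.symm k1
    · exact absurd hy.symm k8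
    · exact absurd hy k5
  · exact absurd hx.symm k7
  · exact absurd hx k3

theorem Alp.missB {a b c d m x y w : Fin 5} (hd : D5 a b c d m) (hd' : D4 x y w m) :
    Z a b c d ≠ Z x y w m := by
  obtain ⟨t, ht⟩ := d5_exists hd'
  obtain ⟨⟨h1, h2, h3, h4, h5, h6⟩, h7, h8, h9, h10⟩ := id hd
  rcases all5 hd t with rfl | rfl | rfl | rfl | h0
  · rw [h.swap2 t b c d hd.1, Alp.e3 h ⟨h6, h2.symm, h4.symm, h3.symm, h5.symm, h1⟩]
    exact Alp.missA h ⟨⟨h6, h4.symm, h2.symm, h5.symm, h3.symm, h1.symm⟩, h9, h10, h8, h7⟩ ht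
  · rw [h.swap2 a t c d hd.1]
    exact Alp.missA h ⟨⟨h6, h2.symm, h4.symm, h3.symm, h5.symm, h1⟩, h9, h10, h7, h8⟩ ht
  · rw [Alp.e3 h hd.1]
    exact Alp.missA h ⟨⟨h1, h3, h2, h5, h4, h6.symm⟩, h7, h8, h10, h9⟩ ht
  · exact Alp.missA h hd ht
  · exact absurd h0 ht.2.2.2.2

/-- points with different missing indices are different -/
theorem Alp.miss {a b c d m x y w v : Fin 5} (hd : D5 a b c d m) (hd' : D4 x y w v)
    (hm : m = x ∨ m = y ∨ m = w ∨ m = v) : Z a b c d ≠ Z x y w v := by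
  obtain ⟨h1, h2, h3, h4, h5, h6⟩ := id hd'
  rcases hm with rfl | rfl | rfl | rfl
  · rw [h.swap2 m y w v hd', Alp.e3 h ⟨h6, h2.symm, h4.symm, h3.symm, h5.symm, h1⟩]
    exact Alp.missB h hd ⟨h6, h4.symm, h2.symm, h5.symm, h3.symm, h1.symm⟩
  · rw [h.swap2 x m w v hd']
    exact Alp.missB h hd ⟨h6, h2.symm, h4.symm, h3.symm, h5.symm, h1⟩
  · rw [Alp.e3 h hd']
    exact Alp.missB h hd ⟨h1, h3, h2, h5, h4, h6.symm⟩
  · exact Alp.missB h hd hd'

/-- an element of `P` which does not centralise `V` has few fixed points. -/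
theorem Alp.le_four [Finite G] {s : G} (hs : s ∈ P) (hsV : ¬ ∀ v ∈ V, s * v = v * s) :
    Nat.card ↥(V ⊓ centralizer ({s} : Set G)) ≤ 4 := by
  obtain ⟨σ, hσ⟩ := h.act s hs
  have h1 : ∃ m, σ m ≠ m := by
    by_contra hcon
    push Not at hcon
    apply hsV
    intro v hv
    by_cases hv1 : v = 1
    · rw [hv1, mul_one, one_mul]
    obtain ⟨a, b, c, d, hd, rfl⟩ := h.surj v hv hv1
    have h2 := hσ a b c d hd
    rw [hcon, hcon, hcon, hcon] at h2
    exact conj_eq_iff.1 h2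
  obtain ⟨m, hm⟩ := h1
  obtain ⟨a, b, c, d, hd⟩ := d5_of m
  obtain ⟨⟨h1, h2, h3, h4, h5, h6⟩, h7, h8, h9, h10⟩ := id hd
  have hmv : ∀ {x y w v : Fin 5}, D5 x y w v m → s * Z x y w v * s⁻¹ ≠ Z x y w v := by
    intro x y w v hD
    rw [hσ x y w v hD.1]
    refine (Alp.miss h hD (map4 hD.1 σ) ?_).symm
    rcases all5 (map5 hD σ) m with h0 | h0 | h0 | h0 | h0
    · exact Or.inl h0
    · exact Or.inr (Or.inl h0)
    · exact Or.inr (Or.inr (Or.inl h0))
    · exact Or.inr (Or.inr (Or.inr h0))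
    · exact absurd h0.symm hm
  have hd2 : D5 a c b d m := ⟨⟨h2, h1, h3, h4.symm, h6, h5⟩, h7, h9, h8, h10⟩
  have hd3 : D5 a d b c m := ⟨⟨h3, h1, h2, h5.symm, h6.symm, h4⟩, h7, h10, h8, h9⟩
  refine card_le_four h.card (h.mem a b c d hd.1) (h.mem a c b d hd2.1) (hmv hd) (hmv hd2) ?_
  rw [h.line4 a b c d hd.1]
  exact hmv hd3

end alp

/-! ### The end -/

section fin

variable [Finite G] {S : Sylow 2 G} {P V T : Subgroup G} {ι : Type*} {z : ι → G}
  {opp : ι → ι → Prop} {C Q QF Qs : ι → Subgroup G} {i₀ : ι}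

/-- If an element `m ∈ P ∩ C(z i₀)` moves some `m²`-image of `v ∈ V`, then `s² ∉ V` for some `s ∈ S`. -/
theorem exists_sq (hb : Base S P V T z opp C Q QF Qs i₀) {m v : G} (hm : m ∈ P)
    (hmz : m * z i₀ * m⁻¹ = z i₀) (hv : v ∈ V) (hmv : m * (m * v * m⁻¹) * m⁻¹ ≠ v) :
    ∃ s ∈ (S : Subgroup G), s * s ∉ V := by
  obtain ⟨s, hs, c, hc, hcV, rfl⟩ := hb.stab m hm (conj_eq_iff.1 hmz)
  refine ⟨s, hs, fun hss => hmv ?_⟩
  have e1 : ∀ w ∈ V, s * c * w * (s * c)⁻¹ = s * w * s⁻¹ := by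
    intro w hw
    calc s * c * w * (s * c)⁻¹ = s * (c * w * c⁻¹) * s⁻¹ := by group
      _ = s * w * s⁻¹ := by rw [conj_eq_iff.2 (hcV w hw)]
  have h1 : s * v * s⁻¹ ∈ V := (mem_normalizer_iff.1 (hb.S_normV hs) v).1 hv
  rw [e1 v hv, e1 _ h1]
  have h2 := hb.Vab _ hss _ hv
  calc s * (s * v * s⁻¹) * s⁻¹ = (s * s) * v * (s * s)⁻¹ := by group
    _ = v := conj_eq_iff.2 h2

/-- **Type (γ), `T = V`** : the sectional 2-rank is at most 4. -/
theorem _root_.Cfsg.Agent.Omega.NOne.AG.Base.false_of_plus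
    (hb : Base S P V T z opp C Q QF Qs i₀) (hT : T = V) (hV : V = zl (S : Subgroup G) P)
    {y : Fin 3 → Fin 3 → G} (h : Plus2 (S : Subgroup G) P y) : False := by
  have hc : Nat.card ↥(zl (S : Subgroup G) P) = 16 := by rw [← hV]; exact hb.cardV
  -- `z i₀ = y 0 0`
  have h0 : y 0 0 ∈ zc (S : Subgroup G) := by rw [h.Z]; exact mem_zpowers _
  have h1 := mem_zc.1 h0
  have hz : z i₀ = y 0 0 := by
    rcases hb.omega _ h1.1 (h.sq 0 0) h1.2.1 with h2 | h2
    · exact absurd h2 (h.ne_one 0 0)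
    · exact h2.symm
  have hcen : ∀ s ∈ (S : Subgroup G), (∀ v ∈ V, s * v = v * s) → s ∈ V := fun s hs hs' => by
    rw [← hT]; exact hb.mem_T hs hs'
  refine hb.ctx.rank (rank_of S hb.cardV hb.S_normV hb.Vab (by rw [← hT]; exact hb.index.le)
    hb.V_le hcen ?_ ?_)
  · intro X hXS hX
    subst hV
    exact Plus.exists_le h hc hb.S_le_P (fun s hs => conj_eq_iff.2 (h1.2.1 s hs)) hcen hXS hX
  · obtain ⟨m₁, hm₁, hm₁'⟩ := h.swap
    obtain ⟨m₂, hm₂, hm₂'⟩ := h.full (Equiv.swap 1 2) 1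
    have hm : ∀ i j, m₂ * m₁ * y i j * (m₂ * m₁)⁻¹ = y (Equiv.swap 1 2 j) i := by
      intro i j
      calc m₂ * m₁ * y i j * (m₂ * m₁)⁻¹ = m₂ * (m₁ * y i j * m₁⁻¹) * m₂⁻¹ := by group
        _ = _ := by rw [hm₁', hm₂']; rfl
    refine exists_sq hb (m := m₂ * m₁) (v := y 1 1) (mul_mem hm₂ hm₁) ?_ ?_ ?_
    · rw [hz, hm]
      exact congrArg (fun k => y k 0) (by decide)
    · rw [hV]; exact Plus.mem h 1 1
    · rw [hm, hm]
      intro h3
      exact absurd (h.inj _ _ _ _ h3) (by decide)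

/-- **Type (α), `T = V`** : the sectional 2-rank is at most 4. -/
theorem _root_.Cfsg.Agent.Omega.NOne.AG.Base.false_of_alp
    (hb : Base S P V T z opp C Q QF Qs i₀) (hT : T = V)
    {Z : Fin 5 → Fin 5 → Fin 5 → Fin 5 → G} (h : Alp P V Z) : False := by
  have hcen : ∀ s ∈ (S : Subgroup G), (∀ v ∈ V, s * v = v * s) → s ∈ V := fun s hs hs' => by
    rw [← hT]; exact hb.mem_T hs hs'
  refine hb.ctx.rank (rank_of S hb.cardV hb.S_normV hb.Vab (by rw [← hT]; exact hb.index.le)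
    hb.V_le hcen ?_ ?_)
  · intro X hXS hX
    obtain ⟨x, hx, _, _, hxV, -⟩ := exists_pair hX
    exact ⟨x, hx, Alp.le_four h (hb.S_le_P (hXS hx)) fun h1 => hxV (hcen x (hXS hx) h1)⟩
  · obtain ⟨a, b, c, d, hd, hz⟩ := h.surj _ (hb.zV i₀) (hb.ne_one i₀)
    obtain ⟨m, hD⟩ := d5_exists hd
    obtain ⟨⟨h1, h2, h3, h4, h5, h6⟩, h7, h8, h9, h10⟩ := id hD
    obtain ⟨p, hp, hp'⟩ := h.full (Equiv.swap a c * Equiv.swap c b * Equiv.swap b d)
    have ea : (Equiv.swap a c * Equiv.swap c b * Equiv.swap b d) a = c := by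
      simp only [Equiv.Perm.mul_apply]
      rw [Equiv.swap_apply_of_ne_of_ne h1 h3, Equiv.swap_apply_of_ne_of_ne h2 h1,
        Equiv.swap_apply_left]
    have ec : (Equiv.swap a c * Equiv.swap c b * Equiv.swap b d) c = b := by
      simp only [Equiv.Perm.mul_apply]
      rw [Equiv.swap_apply_of_ne_of_ne h4.symm h6, Equiv.swap_apply_left,
        Equiv.swap_apply_of_ne_of_ne h1.symm h4]
    have eb : (Equiv.swap a c * Equiv.swap c b * Equiv.swap b d) b = d := by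
      simp only [Equiv.Perm.mul_apply]
      rw [Equiv.swap_apply_left, Equiv.swap_apply_of_ne_of_ne h6.symm h5.symm,
        Equiv.swap_apply_of_ne_of_ne h3.symm h6.symm]
    have ed : (Equiv.swap a c * Equiv.swap c b * Equiv.swap b d) d = a := by
      simp only [Equiv.Perm.mul_apply]
      rw [Equiv.swap_apply_right, Equiv.swap_apply_right, Equiv.swap_apply_right]
    have em : (Equiv.swap a c * Equiv.swap c b * Equiv.swap b d) m = m := by
      simp only [Equiv.Perm.mul_apply]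
      rw [Equiv.swap_apply_of_ne_of_ne h8 h10, Equiv.swap_apply_of_ne_of_ne h9 h8,
        Equiv.swap_apply_of_ne_of_ne h7 h9]
    have hd2 : D4 a c b m := ⟨h2, h1, h7.symm, h4.symm, h9.symm, h8.symm⟩
    have hd3 : D4 c b d m := ⟨h4.symm, h6, h9.symm, h5, h8.symm, h10.symm⟩
    refine exists_sq hb (m := p) (v := Z a c b m) hp ?_ (h.mem _ _ _ _ hd2) ?_
    · rw [hz, hp' a b c d hd, ea, eb, ec, ed,
        h.swap2 c d b a ⟨h6, h4.symm, h2.symm, h5.symm, h3.symm, h1.symm⟩,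
        h.swap1 b a c d ⟨h1.symm, h4, h5, h2, h3, h6⟩]
    · rw [hp' a c b m hd2, ea, ec, eb, em, hp' c b d m hd3, ec, eb, ed, em]
      exact Alp.miss h (m := c) ⟨⟨h5, h1.symm, h8.symm, h3.symm, h10.symm, h7.symm⟩, h4.symm, h6,
        h2.symm, h9.symm⟩ hd2 (Or.inr (Or.inl rfl))

end fin

end Cfsg.Agent.Omega.NOne.AG.Rank

end
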