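import Cfsg.Agent.Mrg.Omega.NOne.AG.Sympl
import Cfsg.Agent.Mrg.Omega.NOne.AG.Base
import Cfsg.Agent.Mrg.Omega.NOne.DPlusPts
import Cfsg.Agent.Mrg.Omega.NOne.AG.Alpha
import Cfsg.Agent.Mrg.Omega.NOne.AG.Tools

section


/-!
# THEOREM D0ag (bb #15001): the facts on `(γ)` (helper654)

`S, P` a configuration of N1 of type `(γ)` (`V = O₄⁺(2)`), `|V : V ∩ Q| = 2`:

* `card_E` : `|V ∩ Q| = 8`, `V ∩ Q = z^⊥`;
* `stab` : `P ∩ C(z) = S C_P(V)`; `ind` : `|S : C_S(V)| = 8`;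
* `facts` : `Facts P V (V ∩ Q) z`.
-/

set_option autoImplicit false
set_option linter.unusedSectionVars false

namespace Cfsg.Agent.Omega.NOne.AG.FactsPlus

open Subgroup Cfsg Cfsg.Agent.ZN Cfsg.Agent.Omega.MinPar Cfsg.Agent.Omega.Frame
open Cfsg.Agent.Omega.NoFF.LinesPlug (CC)
open Cfsg.Agent.Omega.NO1 (Cfg Plus2 EE)
open Cfsg.Agent.Omega.NOne.DPlus
open Cfsg.Agent.Omega.NOne.DPlusPts
open Cfsg.Agent.Omega.NOne.PlusVec

universe u

/-- the elements of `S₃ ≀ 2` -/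
def pi (b : Bool) (σ τ : Fin 3 → Fin 3) (p : Fin 3 × Fin 3) : Fin 3 × Fin 3 :=
  (σ (if b then p.2 else p.1), τ (if b then p.1 else p.2))

/-- the nine points as a family on `Fin 3 × Fin 3` -/
def zz {G : Type u} (z : Fin 3 → Fin 3 → G) (p : Fin 3 × Fin 3) : G := z p.1 p.2

theorem row_of {G : Type u} [Group G] {z : Fin 3 → G} (hs : ∀ i, z i * z i = 1) (hc : ∀ i j, z i * z j = z j * z i)
    (h : z 0 * z 1 * z 2 = 1) : ∀ b c, b ≠ c → z b * z c = z (t b c) := by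
  have h01 : z 0 * z 1 = z 2 := by
    have h1 := eq_inv_of_mul_eq_one_left h
    rwa [inv_eq_of_mul_eq_one_left (hs 2)] at h1
  have h02 : z 0 * z 2 = z 1 := by
    rw [← h01, ← mul_assoc, hs, one_mul]
  have h12 : z 1 * z 2 = z 0 := by
    rw [← h01, hc 0 1, ← mul_assoc, hs, one_mul]
  intro b c hbc
  fin_cases b <;> fin_cases c
  · exact absurd rfl hbc
  · exact h01
  · exact h02
  · exact (hc 1 0).trans h01
  · exact absurd rfl hbc
  · exact h12
  · exact (hc 2 0).trans h02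
  · exact (hc 2 1).trans h12
  · exact absurd rfl hbc

section

variable {G : Type u} [Group G] {S P : Subgroup G} {z : Fin 3 → Fin 3 → G}

theorem grid (h : Plus2 S P z) : Grid (zz z) where
  inj := by
    rintro ⟨a, b⟩ ⟨c, d⟩ e
    obtain ⟨h1, h2⟩ := h.inj a b c d e
    rw [h1, h2]
  ne_one p := h.ne_one _ _
  sq p := h.sq _ _
  comm p q := h.comm _ _ _ _
  row a b c hbc := row_of (z := z a) (fun i => h.sq a i) (fun i j => h.comm a i a j) (h.row a) b c hbc
  col a b c hbc := row_of (z := fun i => z i a) (fun i => h.sq i a) (fun i j => h.comm i a j a) (h.col a) b c hbc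

theorem pts (h : Plus2 S P z) : DPlusPts.Pts P (zl S P) (zz z) where
  mem p := by
    rw [← h.gen]
    exact subset_closure ⟨p, rfl⟩
  gen := h.gen.ge
  grid := grid h
  perm m hm p := by
    obtain ⟨σ, τ, h1 | h1⟩ := h.perm m hm
    · exact ⟨(σ p.1, τ p.2), h1 p.1 p.2⟩
    · exact ⟨(σ p.2, τ p.1), h1 p.1 p.2⟩
  big σ τ := by
    obtain ⟨m, hm, h1⟩ := h.full σ τ
    exact ⟨m, hm, fun x y => h1 x y⟩

theorem exists_pi (h : Plus2 S P z) {m : G} (hm : m ∈ P) : ∃ (b : Bool) (σ τ : Equiv.Perm (Fin 3)),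
    Has (zz z) m (pi b σ τ) := by
  obtain ⟨σ, τ, h1 | h1⟩ := h.perm m hm
  · exact ⟨false, σ, τ, fun p => h1 p.1 p.2⟩
  · exact ⟨true, σ, τ, fun p => h1 p.1 p.2⟩

theorem exists_has (h : Plus2 S P z) (b : Bool) (σ τ : Equiv.Perm (Fin 3)) :
    ∃ m ∈ P, Has (zz z) m (pi b σ τ) := by
  obtain ⟨m, hm, h1⟩ := h.full σ τ
  cases b
  · exact ⟨m, hm, fun p => h1 p.1 p.2⟩
  · obtain ⟨w, hw, h2⟩ := h.swap
    refine ⟨m * w, mul_mem hm hw, fun p => ?_⟩
    have h3 : m * w * zz z p * (m * w)⁻¹ = m * (w * z p.1 p.2 * w⁻¹) * m⁻¹ := by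
      show m * w * z p.1 p.2 * (m * w)⁻¹ = _
      group
    rw [h3, h2, h1]
    rfl

theorem pi_act8 {b : Bool} {σ τ : Equiv.Perm (Fin 3)} (h : pi b σ τ (0, 0) = (0, 0)) :
    ∃ i j, pi b σ τ = act8 b i j := by
  have h0 : pi b σ τ (0, 0) = (σ 0, τ 0) := by cases b <;> rfl
  rw [h0] at h
  have h1 : σ 0 = 0 := congrArg Prod.fst h
  have h2 : τ 0 = 0 := congrArg Prod.snd h
  have key : ∀ ρ : Equiv.Perm (Fin 3), ρ 0 = 0 → ∃ i : Bool, ∀ x, ρ x = if i then t 0 x else x := by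
    intro ρ hρ
    rcases perm_cases ρ hρ with h3 | h3
    · exact ⟨false, fun x => by simpa using h3 x⟩
    · exact ⟨true, fun x => by simpa using h3 x⟩
  obtain ⟨i, hi⟩ := key σ h1
  obtain ⟨j, hj⟩ := key τ h2
  refine ⟨i, j, ?_⟩
  funext p
  rw [pi, act8, hi, hj]

/-- the transposition `t a` -/
def tp (a : Fin 3) : Equiv.Perm (Fin 3) := ⟨t a, t a, fun x => t_t a x, fun x => t_t a x⟩

/-- a power of `t a` with exponent a bit -/
def tpow (i : Bool) (a : Fin 3) : Equiv.Perm (Fin 3) := if i then tp a else 1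

theorem act8_eq_pi (b i j : Bool) : act8 b i j = pi b (tpow i 0) (tpow j 0) := by
  funext p
  cases i <;> cases j <;> rfl

/-- the elements of `P` centralising `z` act as elements of `D₈` -/
theorem exists_act8 (h : Plus2 S P z) {m : G} (hm : m ∈ P) (hc : m * z 0 0 = z 0 0 * m) :
    ∃ b i j, Has (zz z) m (act8 b i j) := by
  obtain ⟨b, σ, τ, h1⟩ := exists_pi h hm
  have h2 : pi b σ τ (0, 0) = (0, 0) := by
    apply (grid h).inj
    rw [← h1]
    show m * z 0 0 * m⁻¹ = z 0 0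
    rw [hc, mul_inv_cancel_right]
  obtain ⟨i, j, h3⟩ := pi_act8 h2
  exact ⟨b, i, j, h3 ▸ h1⟩

theorem has_comm (h : Plus2 S P z) {m : G} (h1 : Has (zz z) m (fun p => p)) :
    ∀ v ∈ zl S P, m * v = v * m := by
  intro v hv
  rw [← h.gen] at hv
  induction hv using closure_induction with
  | mem x hx =>
    obtain ⟨p, rfl⟩ := hx
    have h2 := h1 p
    have h3 : m * zz z p = zz z p * m := by
      calc m * zz z p = m * zz z p * m⁻¹ * m := by group
        _ = _ := by rw [h2]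
    exact h3
  | one => rw [mul_one, one_mul]
  | mul a b _ _ ha hb =>
    calc m * (a * b) = (m * a) * b := by group
      _ = a * (m * b) := by rw [ha]; group
      _ = a * b * m := by rw [hb]; group
  | inv a _ ha =>
    calc m * a⁻¹ = a⁻¹ * (a * m) * a⁻¹ := by group
      _ = a⁻¹ * m := by rw [← ha]; group

theorem has_of_comm (h : Plus2 S P z) {m : G} (h1 : ∀ v ∈ zl S P, m * v = v * m) :
    Has (zz z) m (fun p => p) := by
  intro p
  show m * zz z p * m⁻¹ = zz z p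
  rw [h1 _ ((pts h).mem p), mul_inv_cancel_right]

end

/-- `P₀ = S K` if `S` is Sylow and `P₀ / K` is a 2-group. -/
theorem exists_sc {G : Type u} [Group G] [Finite G] (S : Sylow 2 G) {P₀ K : Subgroup G}
    (hS : (S : Subgroup G) ≤ P₀) (hK : K ≤ P₀) (hn : P₀ ≤ normalizer (K : Set G))
    (h2 : ∀ x ∈ P₀, ∃ n : ℕ, x ^ 2 ^ n ∈ K) {x : G} (hx : x ∈ P₀) :
    ∃ s ∈ (S : Subgroup G), ∃ c ∈ K, x = s * c := by
  have hf : Fact (Nat.Prime 2) := ⟨Nat.prime_two⟩
  have hnor : (K.subgroupOf P₀).Normal := normal_subgroupOf_iff_le_normalizer hK |>.2 hn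
  have hpg : IsPGroup 2 (↥P₀ ⧸ K.subgroupOf P₀) := by
    intro y
    obtain ⟨⟨y, hy⟩, rfl⟩ := QuotientGroup.mk_surjective y
    obtain ⟨n, hn⟩ := h2 y hy
    refine ⟨n, ?_⟩
    rw [← QuotientGroup.mk_pow, QuotientGroup.eq_one_iff]
    exact hn
  obtain ⟨k, hk⟩ := IsPGroup.iff_card.1 hpg
  have h3 : (S : Subgroup G) ⊔ K = P₀ := by
    have hle : (S : Subgroup G) ⊔ K ≤ P₀ := sup_le hS hK
    apply le_antisymm hle
    rw [← relIndex_eq_one]
    have h4 : ((S : Subgroup G) ⊔ K).relIndex P₀ ∣ 2 ^ k := by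
      rw [← hk]
      exact relIndex_dvd_of_le_left P₀ le_sup_right
    have h5 : ((S : Subgroup G) ⊔ K).relIndex P₀ ∣ (S : Subgroup G).relIndex P₀ :=
      relIndex_dvd_of_le_left P₀ le_sup_left
    obtain ⟨l, -, hl⟩ := (Nat.dvd_prime_pow Nat.prime_two).1 h4
    rcases Nat.eq_zero_or_pos l with h6 | h6
    · rw [hl, h6, pow_zero]
    · exfalso
      apply MinSimple.Basic.not_dvd_relIndex S hS
      refine dvd_trans ?_ h5
      rw [hl]
      exact dvd_pow_self 2 (by omega)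
  rw [← h3] at hx
  have h4 : (S : Subgroup G) ≤ normalizer (K : Set G) := hS.trans hn
  rw [← SetLike.mem_coe, coe_mul_of_left_le_normalizer_right _ _ h4] at hx
  obtain ⟨s, hs, c, hc, rfl⟩ := hx
  exact ⟨s, hs, c, hc, rfl⟩

theorem act8_four : ∀ b i j, ∀ p, act8 b i j (act8 b i j (act8 b i j (act8 b i j p))) = p := by
  decide +kernel

section main

variable {G : Type u} [Group G] [Finite G] {S : Sylow 2 G} {P : Subgroup G} {z : Fin 3 → Fin 3 → G}

theorem S_comm (hz : Plus2 (S : Subgroup G) P z) {s : G} (hs : s ∈ (S : Subgroup G)) :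
    s * z 0 0 = z 0 0 * s := by
  have h1 : z 0 0 ∈ zc (S : Subgroup G) := by
    rw [hz.Z]
    exact mem_zpowers _
  exact (mem_zc.1 h1).2.1 s hs

/-- `P ∩ C(z) = S C_P(V)` -/
theorem stab (h : Cfg S P) (hz : Plus2 (S : Subgroup G) P z) : ∀ m ∈ P, m * z 0 0 = z 0 0 * m →
    ∃ s ∈ (S : Subgroup G), ∃ c ∈ P, (∀ v ∈ zl (S : Subgroup G) P, c * v = v * c) ∧ m = s * c := by
  intro m hm hmz
  have hSP : (S : Subgroup G) ≤ P ⊓ centralizer ({z 0 0} : Set G) :=
    le_inf h.S_le fun s hs => mem_centralizer_singleton_iff.2 (S_comm hz hs)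
  have hV : P ≤ normalizer (zl (S : Subgroup G) P : Set G) := Cfg.P_norm_V S P
  have hKP : P ⊓ centralizer (zl (S : Subgroup G) P : Set G) ≤ P ⊓ centralizer ({z 0 0} : Set G) := by
    refine inf_le_inf_left P (centralizer_le ?_)
    rw [Set.singleton_subset_iff]
    exact (pts hz).mem (0, 0)
  have hn : P ⊓ centralizer ({z 0 0} : Set G) ≤
      normalizer ((P ⊓ centralizer (zl (S : Subgroup G) P : Set G) : Subgroup G) : Set G) := by
    have key : ∀ x ∈ P, ∀ k ∈ P ⊓ centralizer (zl (S : Subgroup G) P : Set G),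
        x * k * x⁻¹ ∈ P ⊓ centralizer (zl (S : Subgroup G) P : Set G) := by
      intro x hx k hk
      refine ⟨P.mul_mem (P.mul_mem hx hk.1) (P.inv_mem hx), mem_centralizer_iff.2 fun v hv => ?_⟩
      have h1 : x⁻¹ * v * x⁻¹⁻¹ ∈ zl (S : Subgroup G) P :=
        (mem_normalizer_iff.1 (hV (P.inv_mem hx)) v).1 hv
      have h2 := mem_centralizer_iff.1 hk.2 _ h1
      calc v * (x * k * x⁻¹) = x * ((x⁻¹ * v * x⁻¹⁻¹) * k) * x⁻¹ := by group
        _ = x * k * x⁻¹ * v := by rw [h2]; group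
    intro x hx
    rw [mem_normalizer_iff]
    intro k
    refine ⟨key x hx.1 k, fun hk => ?_⟩
    have h1 := key x⁻¹ (inv_mem hx.1) _ hk
    have h2 : x⁻¹ * (x * k * x⁻¹) * x⁻¹⁻¹ = k := by group
    rwa [h2] at h1
  obtain ⟨s, hs, c, hc, rfl⟩ := exists_sc S hSP hKP hn (fun x hx => by
    obtain ⟨b, i, j, h1⟩ := exists_act8 hz hx.1 (mem_centralizer_singleton_iff.1 hx.2)
    refine ⟨2, pow_mem hx.1 _, mem_centralizer_iff.2 fun v hv => ?_⟩
    have h2 : Has (zz z) (x * (x * (x * x))) (fun p => p) := by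
      have h3 := h1.mul (h1.mul (h1.mul h1))
      have h4 : (fun p => act8 b i j (act8 b i j (act8 b i j (act8 b i j p)))) = fun p => p :=
        funext (act8_four b i j)
      rwa [h4] at h3
    have h3 : x ^ 2 ^ 2 = x * (x * (x * x)) := by
      rw [show 2 ^ 2 = 4 from rfl, pow_succ, pow_succ, pow_two, mul_assoc, mul_assoc]
    rw [h3]
    exact (has_comm hz h2 v hv).symm) (x := m) ⟨hm, mem_centralizer_singleton_iff.2 hmz⟩
  exact ⟨s, hs, c, hc.1, fun v hv => (mem_centralizer_iff.1 hc.2 v hv).symm, rfl⟩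

/-- `S` induces `D₈` -/
theorem exists_S (h : Cfg S P) (hz : Plus2 (S : Subgroup G) P z) (b i j : Bool) :
    ∃ s ∈ (S : Subgroup G), Has (zz z) s (act8 b i j) := by
  obtain ⟨m, hm, h1⟩ := exists_has hz b (tpow i 0) (tpow j 0)
  rw [← act8_eq_pi] at h1
  have h2 : m * z 0 0 = z 0 0 * m := by
    have h3 := h1 (0, 0)
    rw [act8_fix] at h3
    have h4 : m * z 0 0 * m⁻¹ = z 0 0 := h3
    calc m * z 0 0 = m * z 0 0 * m⁻¹ * m := by group
      _ = z 0 0 * m := by rw [h4]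
  obtain ⟨s, hs, c, hc, h3, rfl⟩ := stab h hz m hm h2
  refine ⟨s, hs, fun p => ?_⟩
  have h4 : s * c * zz z p * (s * c)⁻¹ = s * zz z p * s⁻¹ := by
    have h5 := h3 _ ((pts hz).mem p)
    calc s * c * zz z p * (s * c)⁻¹ = s * (c * zz z p) * c⁻¹ * s⁻¹ := by group
      _ = s * zz z p * s⁻¹ := by rw [h5]; group
  rw [← h4, h1]

/-- `|S : C_S(V)| = 8` -/
theorem ind (h : Cfg S P) (hz : Plus2 (S : Subgroup G) P z) :
    ((S : Subgroup G) ⊓ centralizer (zl (S : Subgroup G) P : Set G)).relIndex (S : Subgroup G) = 8 := by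
  have hex : ∀ s : ↥(S : Subgroup G), ∃ a : Bool × Bool × Bool, Has (zz z) s.1 (act8 a.1 a.2.1 a.2.2) := by
    rintro ⟨s, hs⟩
    obtain ⟨b, i, j, h1⟩ := exists_act8 hz (h.S_le hs) (S_comm hz hs)
    exact ⟨(b, i, j), h1⟩
  choose f hf using hex
  have hrel : ∀ s t : ↥(S : Subgroup G), f s = f t ↔
      s⁻¹ * t ∈ ((S : Subgroup G) ⊓ centralizer (zl (S : Subgroup G) P : Set G)).subgroupOf
        (S : Subgroup G) := by
    intro s t
    rw [mem_subgroupOf]
    constructor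
    · intro he
      refine ⟨(s⁻¹ * t).2, mem_centralizer_iff.2 fun v hv => (has_comm hz ?_ v hv).symm⟩
      intro p
      have h1 := hf s p
      have h2 := hf t p
      rw [← he, ← h1] at h2
      show (s.1⁻¹ * t.1) * zz z p * (s.1⁻¹ * t.1)⁻¹ = zz z p
      calc (s.1⁻¹ * t.1) * zz z p * (s.1⁻¹ * t.1)⁻¹ = s.1⁻¹ * (t.1 * zz z p * t.1⁻¹) * s.1 := by group
        _ = zz z p := by rw [h2]; group
    · intro hm
      have h1 : Has (zz z) (s.1⁻¹ * t.1) (fun p => p) :=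
        has_of_comm hz fun v hv => (mem_centralizer_iff.1 hm.2 v hv).symm
      have h2 : Has (zz z) t.1 (act8 (f s).1 (f s).2.1 (f s).2.2) := by
        intro p
        have h3 : t.1 * zz z p * t.1⁻¹ = s.1 * ((s.1⁻¹ * t.1) * zz z p * (s.1⁻¹ * t.1)⁻¹) * s.1⁻¹ := by
          group
        rw [h3, h1 p, hf s p]
      have h3 := Has.unique (grid hz) h2 (hf t)
      obtain ⟨e1, e2, e3⟩ := act8_inj _ _ _ _ _ _ (fun p => congrFun h3 p)
      exact Prod.ext e1 (Prod.ext e2 e3)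
  rw [relIndex, Subgroup.index]
  have hN : Nat.card (↥(S : Subgroup G) ⧸
      ((S : Subgroup G) ⊓ centralizer (zl (S : Subgroup G) P : Set G)).subgroupOf (S : Subgroup G)) =
      Nat.card (Bool × Bool × Bool) := by
    apply Nat.card_eq_of_bijective (fun q => Quotient.liftOn' q f fun s t hst =>
      (hrel s t).2 (QuotientGroup.leftRel_apply.1 hst))
    constructor
    · intro q r
      refine Quotient.inductionOn₂' q r fun s t he => ?_
      exact Quotient.sound' (QuotientGroup.leftRel_apply.2 ((hrel s t).1 he))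
    · intro a
      obtain ⟨s, hs, h1⟩ := exists_S h hz a.1 a.2.1 a.2.2
      refine ⟨Quotient.mk'' ⟨s, hs⟩, ?_⟩
      show f ⟨s, hs⟩ = a
      have h3 := Has.unique (grid hz) (hf ⟨s, hs⟩) h1
      obtain ⟨e1, e2, e3⟩ := act8_inj _ _ _ _ _ _ (fun p => congrFun h3 p)
      exact Prod.ext e1 (Prod.ext e2 e3)
  rw [hN, Nat.card_eq_fintype_card]
  rfl

/-! ### `E = V ∩ Q` -/

theorem CC_eq (hz : Plus2 (S : Subgroup G) P z) :
    CC (S : Subgroup G) = centralizer ({z 0 0} : Set G) := by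
  change centralizer (zc (S : Subgroup G) : Set G) = _
  rw [hz.Z, centralizer_zpowers_eq]

theorem EE_eq (hz : Plus2 (S : Subgroup G) P z) :
    EE (S : Subgroup G) P = zl (S : Subgroup G) P ⊓ o2 (centralizer ({z 0 0} : Set G)) := by
  change zl (S : Subgroup G) P ⊓ o2 (CC (S : Subgroup G)) = _
  rw [CC_eq hz]

theorem conj_E (h : Cfg S P) {s x : G} (hs : s ∈ (S : Subgroup G)) (hx : x ∈ EE (S : Subgroup G) P) :
    s * x * s⁻¹ ∈ EE (S : Subgroup G) P := by
  refine ⟨(mem_normalizer_iff.1 (Cfg.P_norm_V S P (h.S_le hs)) x).1 hx.1, ?_⟩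
  have h1 : s ∈ normalizer (o2 (CC (S : Subgroup G)) : Set G) :=
    MinSimple.VModule.le_normalizer_o2 _ (Cfg.S_le_CC S hs)
  exact (mem_normalizer_iff.1 h1 x).1 hx.2

/-- `[V, S] ≤ E` -/
theorem comm_E (h : Cfg S P) (hE : (EE (S : Subgroup G) P).relIndex (zl (S : Subgroup G) P) = 2)
    {s x : G} (hs : s ∈ (S : Subgroup G)) (hx : x ∈ zl (S : Subgroup G) P) :
    s * x * s⁻¹ * x ∈ EE (S : Subgroup G) P := by
  have hxV : s * x * s⁻¹ ∈ zl (S : Subgroup G) P :=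
    (mem_normalizer_iff.1 (Cfg.P_norm_V S P (h.S_le hs)) x).1 hx
  have h1 := Subgroup.mul_mem_iff_of_index_two (H := (EE (S : Subgroup G) P).subgroupOf (zl (S : Subgroup G) P))
    hE (a := ⟨s * x * s⁻¹, hxV⟩) (b := ⟨x, hx⟩)
  rw [mem_subgroupOf, mem_subgroupOf, mem_subgroupOf] at h1
  refine h1.2 ⟨fun h2 => ?_, fun h2 => conj_E h hs h2⟩
  have h3 := conj_E h (inv_mem hs) h2
  have h4 : s⁻¹ * (s * x * s⁻¹) * s⁻¹⁻¹ = x := by group
  have h5 : s⁻¹ * (s * x * s⁻¹) * s⁻¹⁻¹ ∈ EE (S : Subgroup G) P := h3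
  rwa [h4] at h5

variable (h : Cfg S P) (hz : Plus2 (S : Subgroup G) P z)
  (hE : (EE (S : Subgroup G) P).relIndex (zl (S : Subgroup G) P) = 2)

include h hz hE

theorem z00_mem : zz z (0, 0) ∈ EE (S : Subgroup G) P := by
  obtain ⟨s, hs, h1⟩ := exists_S h hz false false true
  have h2 := comm_E h hE hs ((pts hz).mem (0, 1))
  rw [h1 (0, 1), show act8 false false true (0, 1) = (0, 2) from by decide,
    (grid hz).row 0 2 1 (by decide), show t 2 1 = 0 from by decide] at h2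
  exact h2

theorem z01_mem : zz z (0, 1) ∈ EE (S : Subgroup G) P := by
  obtain ⟨s, hs, h1⟩ := exists_S h hz false true false
  have h2 := comm_E h hE hs ((pts hz).mem (1, 1))
  rw [h1 (1, 1), show act8 false true false (1, 1) = (2, 1) from by decide,
    (grid hz).col 1 2 1 (by decide), show t 2 1 = 0 from by decide] at h2
  exact h2

theorem z10_mem : zz z (1, 0) ∈ EE (S : Subgroup G) P := by
  obtain ⟨s, hs, h1⟩ := exists_S h hz false false true
  have h2 := comm_E h hE hs ((pts hz).mem (1, 1))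
  rw [h1 (1, 1), show act8 false false true (1, 1) = (1, 2) from by decide,
    (grid hz).row 1 2 1 (by decide), show t 2 1 = 0 from by decide] at h2
  exact h2

theorem pw_mem' {x : G} {H : Subgroup G} (hx : x ∈ H) (b : Bool) : pw x b ∈ H := by
  cases b
  · exact one_mem _
  · exact hx

theorem phi_mem_of {v : B4} (hv : v.2.2.2 = false) : phi (zz z) v ∈ EE (S : Subgroup G) P := by
  obtain ⟨a, b, c, d⟩ := v
  simp only at hv
  subst hv
  refine mul_mem (mul_mem (mul_mem ?_ ?_) ?_) ?_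
  · exact pw_mem' h hz hE (z00_mem h hz hE) _
  · exact pw_mem' h hz hE (z01_mem h hz hE) _
  · exact pw_mem' h hz hE (z10_mem h hz hE) _
  · exact one_mem _

/-- `E = z^⊥` -/
theorem phi_mem_iff {v : B4} : phi (zz z) v ∈ EE (S : Subgroup G) P ↔ v.2.2.2 = false := by
  refine ⟨fun hv => ?_, phi_mem_of h hz hE⟩
  by_contra hne
  rw [Bool.not_eq_false] at hne
  have h1 : zl (S : Subgroup G) P ≤ EE (S : Subgroup G) P := by
    intro x hx
    obtain ⟨w, rfl⟩ := exists_phi (pts hz) hx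
    by_cases hw : w.2.2.2 = false
    · exact phi_mem_of h hz hE hw
    · rw [Bool.not_eq_false] at hw
      have h2 : phi (zz z) (add w v) ∈ EE (S : Subgroup G) P := by
        apply phi_mem_of h hz hE
        rw [add]
        show (w.2.2.2 ^^ v.2.2.2) = false
        rw [hw, hne]
        rfl
      rw [phi_add (grid hz)] at h2
      have h3 := mul_mem h2 (inv_mem hv)
      rwa [mul_inv_cancel_right] at h3
  rw [relIndex_eq_one.2 h1] at hE
  omega

/-- `|V ∩ Q| = 8` -/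
theorem card_E : Nat.card ↥(EE (S : Subgroup G) P) = 8 := by
  have h1 : Nat.card {v : B4 // v.2.2.2 = false} = Nat.card ↥(EE (S : Subgroup G) P) := by
    apply Nat.card_eq_of_bijective
      (fun v => (⟨phi (zz z) v.1, (phi_mem_iff h hz hE).2 v.2⟩ : ↥(EE (S : Subgroup G) P)))
    constructor
    · intro v w hvw
      exact Subtype.ext (phi_inj (grid hz) (congrArg Subtype.val hvw))
    · rintro ⟨x, hx⟩
      obtain ⟨v, rfl⟩ := exists_phi (pts hz) hx.1
      exact ⟨⟨v, (phi_mem_iff h hz hE).1 hx⟩, rfl⟩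
  rw [← h1, Nat.card_eq_fintype_card]
  decide

theorem pt_mem_iff {p : Fin 3 × Fin 3} : zz z p ∈ EE (S : Subgroup G) P ↔ ¬ op (0, 0) p := by
  rw [← phi_vec (grid hz) p, phi_mem_iff h hz hE]
  revert p
  decide

end main

/-! ### the facts -/

theorem faith_code : ∀ (b : Bool) (σ τ : Equiv.Perm (Fin 3)), (∀ p, ¬ op (0, 0) p → pi b σ τ p = p) →
    ∀ p, pi b σ τ p = p := by decide +kernel

theorem symm_code : ∀ (b : Bool) (σ τ : Equiv.Perm (Fin 3)) (p : Fin 3 × Fin 3), op (0, 0) (pi b σ τ (0, 0)) →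
    pi b σ τ p = (0, 0) → op (0, 0) p := by decide +kernel

theorem lin_code : ∀ (i j : Bool) (v : B4), v.2.2.2 = false →
    lin (act8 false i j) v = v ∨ lin (act8 false i j) v = add z0 v := by decide +kernel

theorem reach_code : ∀ a : Fin 3, a ≠ 0 → ∀ q : Fin 3, ∃ i j : Bool, tpow j 0 (tpow i a 0) = q := by
  decide +kernel

/-- the elements of `D₈` centralising `E / z` -/
theorem conj_tpow : ∀ (b : Bool) (σ τ : Equiv.Perm (Fin 3)) (i j : Bool), ∀ p q, pi b σ τ p = q →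
    pi b σ τ (pi false (tpow i 0) (tpow j 0) p) = if b then pi false (tpow j (σ 0)) (tpow i (τ 0)) q else
      pi false (tpow i (σ 0)) (tpow j (τ 0)) q := by decide +kernel

section final

variable {G : Type u} [Group G] [Finite G] {S : Sylow 2 G} {P : Subgroup G} {z : Fin 3 → Fin 3 → G}

/-- conjugates of the elements centralising `E / z` -/
theorem has_conj {m x : G} {b : Bool} {σ τ : Equiv.Perm (Fin 3)} {i j : Bool}
    (hm : Has (zz z) m (pi b σ τ)) (hx : Has (zz z) x (act8 false i j)) :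
    Has (zz z) (m * x * m⁻¹) (if b then pi false (tpow j (σ 0)) (tpow i (τ 0)) else
      pi false (tpow i (σ 0)) (tpow j (τ 0))) := by
  have hsurj : ∀ (b : Bool) (σ τ : Equiv.Perm (Fin 3)) (q : Fin 3 × Fin 3), ∃ p, pi b σ τ p = q := by
    intro b σ τ q
    cases b
    · exact ⟨(σ.symm q.1, τ.symm q.2), by simp [pi]⟩
    · exact ⟨(τ.symm q.2, σ.symm q.1), by simp [pi]⟩
  intro q
  obtain ⟨p, hp⟩ := hsurj b σ τ q
  have h1 := conj_tpow b σ τ i j p q hp
  rw [← act8_eq_pi] at h1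
  have h2 : m * x * m⁻¹ * zz z q * (m * x * m⁻¹)⁻¹ = m * (x * zz z p * x⁻¹) * m⁻¹ := by
    rw [← hp, ← hm p]
    group
  rw [h2, hx p, hm, h1]
  cases b <;> rfl

theorem facts' (h : Cfg S P) (hz : Plus2 (S : Subgroup G) P z)
    (hE : (EE (S : Subgroup G) P).relIndex (zl (S : Subgroup G) P) = 2) :
    Facts P (zl (S : Subgroup G) P) (EE (S : Subgroup G) P) (z 0 0) where
  faith := by
    intro x hx hxE
    obtain ⟨b, σ, τ, h1⟩ := exists_pi hz hx
    have h2 : ∀ p, pi b σ τ p = p := by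
      apply faith_code
      intro p hp
      apply (grid hz).inj
      rw [← h1, hxE _ ((pt_mem_iff h hz hE).2 hp), mul_inv_cancel_right]
    have h3 : (pi b σ τ : Fin 3 × Fin 3 → Fin 3 × Fin 3) = fun p => p := funext h2
    rw [h3] at h1
    exact has_comm hz h1
  symm := by
    intro m hm hmE
    obtain ⟨b, σ, τ, h1⟩ := exists_pi hz hm
    obtain ⟨b', σ', τ', h2⟩ := exists_pi hz (inv_mem hm)
    have h3 : op (0, 0) (pi b σ τ (0, 0)) := by
      by_contra hno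
      apply hmE
      have h4 := (pt_mem_iff h hz hE).2 hno
      rwa [← h1] at h4
    have h5 : m⁻¹ * z 0 0 * m = zz z (pi b' σ' τ' (0, 0)) := by
      rw [← h2, inv_inv]
      rfl
    have h6 : pi b σ τ (pi b' σ' τ' (0, 0)) = (0, 0) := by
      apply (grid hz).inj
      rw [← h1, ← h5]
      show m * (m⁻¹ * z 0 0 * m) * m⁻¹ = z 0 0
      group
    have h7 := symm_code b σ τ _ h3 h6
    rw [h5, pt_mem_iff h hz hE]
    exact fun h8 => h8 h7
  trans := by
    intro m hm hmE A hAP hA n hn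
    obtain ⟨b, σ, τ, h1⟩ := exists_pi hz hm
    obtain ⟨b', σ', τ', h2⟩ := exists_pi hz hn
    have h3 : op (0, 0) (pi b σ τ (0, 0)) := by
      by_contra hno
      apply hmE
      have h4 := (pt_mem_iff h hz hE).2 hno
      rwa [← h1] at h4
    have h00 : pi b σ τ (0, 0) = (σ 0, τ 0) := by cases b <;> rfl
    rw [h00] at h3
    have hσ : σ 0 ≠ 0 := fun e => h3.1 e.symm
    have hτ : τ 0 ≠ 0 := fun e => h3.2 e.symm
    -- the elements of `A`
    have hAi : ∀ i j : Bool, ∃ a ∈ A, Has (zz z) a (act8 false i j) := by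
      intro i j
      obtain ⟨x, hx, hx1⟩ := exists_S h hz false i j
      obtain ⟨a, ha, ha1⟩ := hA x (h.S_le hx) (by
        intro e he
        obtain ⟨v, rfl⟩ := exists_phi (pts hz) he.1
        have hv := (phi_mem_iff h hz hE).1 he
        have h4 := hx1.conj_phi (grid hz) v
        have h5 : x * phi (zz z) v = phi (zz z) (lin (act8 false i j) v) * x := by
          rw [← h4]; group
        rcases lin_code i j v hv with h6 | h6
        · left
          rw [h5, h6]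
        · right
          rw [h5, h6, phi_add (grid hz)]
          have h7 : phi (zz z) z0 = z 0 0 := phi_vec (grid hz) (0, 0)
          rw [h7, mul_assoc])
      refine ⟨a, ha, fun p => ?_⟩
      rw [ha1 _ ((pts hz).mem p), hx1]
    have hBi : ∀ i j : Bool, ∃ y ∈ A.map (MulAut.conj m).toMonoidHom,
        Has (zz z) y (pi false (tpow i (σ 0)) (tpow j (τ 0))) := by
      intro i j
      cases b
      · obtain ⟨a, ha, ha1⟩ := hAi i j
        exact ⟨m * a * m⁻¹, ⟨a, ha, rfl⟩, by simpa using has_conj h1 ha1⟩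
      · obtain ⟨a, ha, ha1⟩ := hAi j i
        exact ⟨m * a * m⁻¹, ⟨a, ha, rfl⟩, by simpa using has_conj h1 ha1⟩
    obtain ⟨i, i', hi⟩ := reach_code (σ 0) hσ (pi b' σ' τ' (0, 0)).1
    obtain ⟨j, j', hj⟩ := reach_code (τ 0) hτ (pi b' σ' τ' (0, 0)).2
    obtain ⟨y, hy, hy1⟩ := hBi i j
    obtain ⟨a, ha, ha1⟩ := hAi i' j'
    refine ⟨a * y, mul_mem (mem_sup_left ha) (mem_sup_right hy), ?_⟩
    have h4 := (ha1.mul hy1) (0, 0)
    have h5 := h2 (0, 0)
    have h6 : act8 false i' j' (pi false (tpow i (σ 0)) (tpow j (τ 0)) (0, 0)) = pi b' σ' τ' (0, 0) := by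
      rw [act8_eq_pi]
      exact Prod.ext hi hj
    exact (h4.trans (congrArg (zz z) h6)).trans h5.symm
  tri := by
    obtain ⟨m, hm, h1⟩ := exists_has hz false (Equiv.swap 0 1) (Equiv.swap 0 1)
    obtain ⟨n, hn, h2⟩ := exists_has hz false (Equiv.swap 0 2) (Equiv.swap 0 2)
    have e1 : m * z 0 0 * m⁻¹ = zz z (1, 1) := h1 (0, 0)
    have e2 : n * z 0 0 * n⁻¹ = zz z (2, 2) := h2 (0, 0)
    have e3 : m * zz z (2, 2) * m⁻¹ = zz z (2, 2) := h1 (2, 2)
    have hop : ∀ p : Fin 3 × Fin 3, op (0, 0) p → zz z p ∉ EE (S : Subgroup G) P := fun p hp hpE =>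
      (pt_mem_iff h hz hE).1 hpE hp
    refine ⟨m, hm, n, hn, ?_, ?_, ?_⟩
    · rw [e1]; exact hop _ (by decide)
    · rw [e2]; exact hop _ (by decide)
    · have e4 : (m⁻¹ * n) * z 0 0 * (m⁻¹ * n)⁻¹ = m⁻¹ * (n * z 0 0 * n⁻¹) * m := by group
      have e5 : m⁻¹ * zz z (2, 2) * m = zz z (2, 2) := by
        conv_lhs => rw [← e3]
        group
      rw [e4, e2, e5]
      exact hop _ (by decide)

/-- **the facts on (γ)** -/
theorem facts (h : Cfg S P) (hz : Plus2 (S : Subgroup G) P z)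
    (hE : (EE (S : Subgroup G) P).relIndex (zl (S : Subgroup G) P) = 2) :
    Facts P (zl (S : Subgroup G) P) (zl (S : Subgroup G) P ⊓ o2 (centralizer ({z 0 0} : Set G))) (z 0 0) := by
  rw [← EE_eq hz]
  exact facts' h hz hE

/-- `|V ∩ O₂(C(z))| = 8` -/
theorem card8 (h : Cfg S P) (hz : Plus2 (S : Subgroup G) P z)
    (hE : (EE (S : Subgroup G) P).relIndex (zl (S : Subgroup G) P) = 2) :
    Nat.card ↥(zl (S : Subgroup G) P ⊓ o2 (centralizer ({z 0 0} : Set G))) = 8 := by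
  rw [← EE_eq hz]
  exact card_E h hz hE

/-- `|V| = 16` -/
theorem card16 (hz : Plus2 (S : Subgroup G) P z) : Nat.card ↥(zl (S : Subgroup G) P) = 16 := by
  have h1 : Nat.card B4 = Nat.card ↥(zl (S : Subgroup G) P) := by
    apply Nat.card_eq_of_bijective (fun v => (⟨phi (zz z) v, phi_mem (pts hz) v⟩ : ↥(zl (S : Subgroup G) P)))
    constructor
    · intro v w hvw
      exact phi_inj (grid hz) (congrArg Subtype.val hvw)
    · rintro ⟨x, hx⟩
      obtain ⟨v, rfl⟩ := exists_phi (pts hz) hx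
      exact ⟨v, rfl⟩
  rw [← h1, Nat.card_eq_fintype_card]
  decide

end final

end Cfsg.Agent.Omega.NOne.AG.FactsPlus

end

section


/-!
# D0ag, type (α): the facts in a configuration

`S, P` a configuration of N1 of type (α), `V = zl S P` with the coordinates `W` (`AW P V W`), `z = W z0`:

* `stab` : `P ∩ C(z) = S C_P(V)`; `exists_S` : `S` induces `D₈`; `ind` : `|S : C_S(V)| = 8`;
* `facts`, `card8`, `card16`.
-/

set_option autoImplicit false
set_option linter.unusedSectionVars false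

namespace Cfsg.Agent.Omega.NOne.AG.FactsNat

open Subgroup Cfsg Cfsg.Agent.ZN Cfsg.Agent.Omega.MinPar Cfsg.Agent.Omega.Frame
open Cfsg.Agent.Omega.NoFF.LinesPlug (CC)
open Cfsg.Agent.Omega.NO1 (Cfg Nat4 EE)
open Cfsg.Agent.Omega.NOne.AG.Tab

universe u

theorem st_of : ∀ σ : Equiv.Perm (Fin 5), sA σ z0 = z0 → ∃ i j k, σ = st i j k := by decide +kernel

theorem st_four : ∀ σ : Equiv.Perm (Fin 5), sA σ z0 = z0 → σ * (σ * (σ * σ)) = 1 := by decide +kernel

theorem st_inj : ∀ i j k i' j' k', st i j k = st i' j' k' → i = i' ∧ j = j' ∧ k = k' := by decide +kernel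

theorem sA_one' : ∀ x, sA 1 x = x := by decide +kernel

section

variable {G : Type u} [Group G] {P V : Subgroup G} {W : B4 → G}

theorem comm_of_one (A : AW P V W) {m : G} (h1 : Ovz W m 1) : ∀ v ∈ V, m * v = v * m := by
  intro v hv
  obtain ⟨x, rfl⟩ := A.surj v hv
  have h2 := A.conj_eq h1 x
  rw [sA_one'] at h2
  rwa [mul_inv_eq_iff_eq_mul] at h2

theorem one_of_comm (A : AW P V W) {m : G} (h1 : ∀ v ∈ V, m * v = v * m) : Ovz W m 1 := by
  intro a b c d _
  rw [h1 _ (A.mem _), mul_inv_cancel_right]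
  rfl

theorem ovz_unique (A : AW P V W) {m : G} {σ τ : Equiv.Perm (Fin 5)} (h1 : Ovz W m σ) (h2 : Ovz W m τ) :
    σ = τ := by
  have h3 : Ovz W (m⁻¹ * m) (σ⁻¹ * τ) := h1.inv.mul h2
  rw [inv_mul_cancel] at h3
  have h4 : σ⁻¹ * τ = 1 := by
    apply sA_faith
    intro x _
    apply A.inj
    rw [← A.conj_eq h3]
    simp
  rw [inv_mul_eq_one] at h4
  exact h4

theorem z_fix (A : AW P V W) {m : G} {σ : Equiv.Perm (Fin 5)} (h1 : Ovz W m σ) (h2 : m * W z0 = W z0 * m) :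
    sA σ z0 = z0 := by
  apply A.inj
  rw [← A.conj_eq h1, h2, mul_inv_cancel_right]

end

section main

variable {G : Type u} [Group G] [Finite G] {S : Sylow 2 G} {P : Subgroup G} {W : B4 → G}
variable (h : Cfg S P) (A : AW P (zl (S : Subgroup G) P) W) (hz : zc (S : Subgroup G) = zpowers (W z0))

include hz in
theorem S_comm {s : G} (hs : s ∈ (S : Subgroup G)) : s * W z0 = W z0 * s := by
  have h1 : W z0 ∈ zc (S : Subgroup G) := by
    rw [hz]
    exact mem_zpowers _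
  exact (mem_zc.1 h1).2.1 s hs

include h A hz

/-- `P ∩ C(z) = S C_P(V)` -/
theorem stab : ∀ m ∈ P, m * W z0 = W z0 * m →
    ∃ s ∈ (S : Subgroup G), ∃ c ∈ P, (∀ v ∈ zl (S : Subgroup G) P, c * v = v * c) ∧ m = s * c := by
  intro m hm hmz
  have hSP : (S : Subgroup G) ≤ P ⊓ centralizer ({W z0} : Set G) :=
    le_inf h.S_le fun s hs => mem_centralizer_singleton_iff.2 (S_comm hz hs)
  have hV : P ≤ normalizer (zl (S : Subgroup G) P : Set G) := Cfg.P_norm_V S P
  have hKP : P ⊓ centralizer (zl (S : Subgroup G) P : Set G) ≤ P ⊓ centralizer ({W z0} : Set G) := by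
    refine inf_le_inf_left P (centralizer_le ?_)
    rw [Set.singleton_subset_iff]
    exact A.mem z0
  have hn : P ⊓ centralizer ({W z0} : Set G) ≤
      normalizer ((P ⊓ centralizer (zl (S : Subgroup G) P : Set G) : Subgroup G) : Set G) := by
    have key : ∀ x ∈ P, ∀ k ∈ P ⊓ centralizer (zl (S : Subgroup G) P : Set G),
        x * k * x⁻¹ ∈ P ⊓ centralizer (zl (S : Subgroup G) P : Set G) := by
      intro x hx k hk
      refine ⟨P.mul_mem (P.mul_mem hx hk.1) (P.inv_mem hx), mem_centralizer_iff.2 fun v hv => ?_⟩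
      have h1 : x⁻¹ * v * x⁻¹⁻¹ ∈ zl (S : Subgroup G) P :=
        (mem_normalizer_iff.1 (hV (P.inv_mem hx)) v).1 hv
      have h2 := mem_centralizer_iff.1 hk.2 _ h1
      calc v * (x * k * x⁻¹) = x * ((x⁻¹ * v * x⁻¹⁻¹) * k) * x⁻¹ := by group
        _ = x * k * x⁻¹ * v := by rw [h2]; group
    intro x hx
    rw [mem_normalizer_iff]
    intro k
    refine ⟨key x hx.1 k, fun hk => ?_⟩
    have h1 := key x⁻¹ (inv_mem hx.1) _ hk
    have h2 : x⁻¹ * (x * k * x⁻¹) * x⁻¹⁻¹ = k := by group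
    rwa [h2] at h1
  obtain ⟨s, hs, c, hc, rfl⟩ := FactsPlus.exists_sc S hSP hKP hn (fun x hx => by
    obtain ⟨σ, h1⟩ := A.act x hx.1
    have h0 := st_four σ (z_fix A h1 (mem_centralizer_singleton_iff.1 hx.2))
    refine ⟨2, pow_mem hx.1 _, mem_centralizer_iff.2 fun v hv => ?_⟩
    have h2 : Ovz W (x * (x * (x * x))) 1 := by
      rw [← h0]
      exact Ovz.mul h1 (Ovz.mul h1 (Ovz.mul h1 h1))
    have h3 : x ^ 2 ^ 2 = x * (x * (x * x)) := by
      rw [show 2 ^ 2 = 4 from rfl, pow_succ, pow_succ, pow_two, mul_assoc, mul_assoc]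
    rw [h3]
    exact (comm_of_one A h2 v hv).symm) (x := m) ⟨hm, mem_centralizer_singleton_iff.2 hmz⟩
  exact ⟨s, hs, c, hc.1, fun v hv => (mem_centralizer_iff.1 hc.2 v hv).symm, rfl⟩

/-- `S` induces `D₈` -/
theorem exists_S (i j k : Bool) : ∃ s ∈ (S : Subgroup G), Ovz W s (st i j k) := by
  obtain ⟨m, hm, h1⟩ := A.full (st i j k)
  have h2 : m * W z0 = W z0 * m := by
    have h3 := A.conj_eq h1 z0
    rw [st_z0] at h3
    rwa [mul_inv_eq_iff_eq_mul] at h3
  obtain ⟨s, hs, c, hc, h3, rfl⟩ := stab h A hz m hm h2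
  refine ⟨s, hs, fun a b c' d hd => ?_⟩
  rw [← h1 a b c' d hd]
  have h5 := h3 _ (A.mem (tb a b c' d))
  calc s * W (tb a b c' d) * s⁻¹ = s * (W (tb a b c' d) * c) * c⁻¹ * s⁻¹ := by group
    _ = s * c * W (tb a b c' d) * (s * c)⁻¹ := by rw [← h5]; group

/-- `|S : C_S(V)| = 8` -/
theorem ind :
    ((S : Subgroup G) ⊓ centralizer (zl (S : Subgroup G) P : Set G)).relIndex (S : Subgroup G) = 8 := by
  have hex : ∀ s : ↥(S : Subgroup G), ∃ a : Bool × Bool × Bool, Ovz W s.1 (st a.1 a.2.1 a.2.2) := by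
    rintro ⟨s, hs⟩
    obtain ⟨σ, h1⟩ := A.act s (h.S_le hs)
    obtain ⟨i, j, k, rfl⟩ := st_of σ (z_fix A h1 (S_comm hz hs))
    exact ⟨(i, j, k), h1⟩
  choose f hf using hex
  have hrel : ∀ s t : ↥(S : Subgroup G), f s = f t ↔
      s⁻¹ * t ∈ ((S : Subgroup G) ⊓ centralizer (zl (S : Subgroup G) P : Set G)).subgroupOf
        (S : Subgroup G) := by
    intro s t
    rw [mem_subgroupOf]
    constructor
    · intro he
      refine ⟨(s⁻¹ * t).2, mem_centralizer_iff.2 fun v hv => (comm_of_one A ?_ v hv).symm⟩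
      have h1 := hf s
      have h2 := hf t
      rw [← he] at h2
      have h3 := h1.inv.mul h2
      rw [inv_mul_cancel] at h3
      exact h3
    · intro hm
      have h1 : Ovz W (s.1⁻¹ * t.1) 1 :=
        one_of_comm A fun v hv => (mem_centralizer_iff.1 hm.2 v hv).symm
      have h2 : Ovz W t.1 (st (f s).1 (f s).2.1 (f s).2.2) := by
        have h3 := (hf s).mul h1
        rwa [mul_one, mul_inv_cancel_left] at h3
      obtain ⟨e1, e2, e3⟩ := st_inj _ _ _ _ _ _ (ovz_unique A h2 (hf t))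
      exact Prod.ext e1 (Prod.ext e2 e3)
  rw [relIndex, Subgroup.index]
  have hN : Nat.card (↥(S : Subgroup G) ⧸
      ((S : Subgroup G) ⊓ centralizer (zl (S : Subgroup G) P : Set G)).subgroupOf (S : Subgroup G)) =
      Nat.card (Bool × Bool × Bool) := by
    apply Nat.card_eq_of_bijective (fun q => Quotient.liftOn' q f fun s t hst =>
      (hrel s t).2 (QuotientGroup.leftRel_apply.1 hst))
    constructor
    · intro q r
      refine Quotient.inductionOn₂' q r fun s t he => ?_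
      exact Quotient.sound' (QuotientGroup.leftRel_apply.2 ((hrel s t).1 he))
    · intro a
      obtain ⟨s, hs, h1⟩ := exists_S h A hz a.1 a.2.1 a.2.2
      refine ⟨Quotient.mk'' ⟨s, hs⟩, ?_⟩
      show f ⟨s, hs⟩ = a
      obtain ⟨e1, e2, e3⟩ := st_inj _ _ _ _ _ _ (ovz_unique A (hf ⟨s, hs⟩) h1)
      exact Prod.ext e1 (Prod.ext e2 e3)
  rw [hN, Nat.card_eq_fintype_card]
  rfl

omit h in
theorem CC_eq : CC (S : Subgroup G) = centralizer ({W z0} : Set G) := by
  change centralizer (zc (S : Subgroup G) : Set G) = _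
  rw [hz, centralizer_zpowers_eq]

omit h in
theorem EE_eq :
    EE (S : Subgroup G) P = zl (S : Subgroup G) P ⊓ o2 (centralizer ({W z0} : Set G)) := by
  change zl (S : Subgroup G) P ⊓ o2 (CC (S : Subgroup G)) = _
  rw [CC_eq A hz]

/-- **the facts on (α)** -/
theorem facts (hE : (EE (S : Subgroup G) P).relIndex (zl (S : Subgroup G) P) = 2) :
    Facts P (zl (S : Subgroup G) P) (zl (S : Subgroup G) P ⊓ o2 (centralizer ({W z0} : Set G)))
      (W z0) := by
  rw [← EE_eq A hz]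
  refine A.facts inf_le_left hE fun m hm hmz e he => ?_
  refine ⟨(mem_normalizer_iff.1 (Cfg.P_norm_V S P hm) e).1 he.1, ?_⟩
  have hmC : m ∈ CC (S : Subgroup G) := by
    rw [CC_eq A hz]
    exact mem_centralizer_singleton_iff.2 hmz
  exact (mem_normalizer_iff.1 (ZN.ChoiceSit.le_normalizer_o2 _ hmC) e).1 he.2

end main

end Cfsg.Agent.Omega.NOne.AG.FactsNat

end

section


/-!
# D0ag, type (α), `Δ > V`: the tables

`kk a b` : the coordinates of `y a b * y 0 1`.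
-/

set_option autoImplicit false

namespace Cfsg.Agent.Omega.NOne.AG.LabOf

open Cfsg Cfsg.Agent.ZN
open Cfsg.Agent.Omega.NOne.AG.Tab

/-- `y a b = y 0 1 * W (kk a b)` -/
def kk (a b : Fin 5) : B4 :=
  dec ([0, 0, 1, 3, 2, 0, 0, 4, 8, 12, 1, 4, 0, 14, 11, 3, 8, 14, 0, 5, 2, 12, 11, 5, 0].getD
    (5 * a.1 + b.1) 0)

theorem kk_symm : ∀ a b, kk a b = kk b a := by decide +kernel

theorem kk_inj : ∀ a b c d, a ≠ b → c ≠ d → kk a b = kk c d → (a = c ∧ b = d) ∨ (a = d ∧ b = c) := by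
  decide +kernel

theorem kk_tb : ∀ a b c d, D4 a b c d → ad (kk a b) (kk c d) = tb a b c d := by decide +kernel

theorem kk_rel : ∀ a b c d m, D5 a b c d m → ad (kk a b) (kk a m) = ad (kk c d) (kk b m) := by
  decide +kernel

/-- the transpositions -/
abbrev s0 : Equiv.Perm (Fin 5) := Equiv.swap 0 1
@[inherit_doc s0] abbrev s1 : Equiv.Perm (Fin 5) := Equiv.swap 1 2
@[inherit_doc s0] abbrev s2 : Equiv.Perm (Fin 5) := Equiv.swap 2 3
@[inherit_doc s0] abbrev s3 : Equiv.Perm (Fin 5) := Equiv.swap 3 4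
/-- `(02)(13)` -/
abbrev tt : Equiv.Perm (Fin 5) := Equiv.swap 0 2 * Equiv.swap 1 3

theorem kk_s0 : ∀ a b, a ≠ b → sA s0 (kk a b) = kk (s0 a) (s0 b) := by decide +kernel

theorem kk_s1 : ∀ a b, a ≠ b → ad (dec 1) (sA s1 (kk a b)) = kk (s1 a) (s1 b) := by decide +kernel

theorem kk_s2 : ∀ a b, a ≠ b → sA s2 (kk a b) = kk (s2 a) (s2 b) := by decide +kernel

theorem kk_s3 : ∀ a b, a ≠ b → sA s3 (kk a b) = kk (s3 a) (s3 b) := by decide +kernel

set_option synthInstance.maxHeartbeats 400000 in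
set_option synthInstance.maxSize 1000 in
/-- the cocycles -/
theorem code : ∀ u v : B4, sA s0 v = v → ad u (sA s1 v) = ad v (sA s3 u) →
    ad u (sA s1 (sA s0 (sA s2 u))) = z0 → (u = dec 1 ∧ v = b0) ∨
      (ad z0 (ad u (sA s1 z0)) = dec 1 ∧ ad z0 (ad v (sA s3 z0)) = b0) := by
  decide +kernel

theorem tt_eq : s1 * (s0 * (s2 * s1)) = tt := by decide +kernel

theorem s03 : s0 * s3 = s3 * s0 := by decide +kernel

theorem s13 : s1 * s3 = s3 * s1 := by decide +kernel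

theorem sA_s0 : sA s0 z0 = z0 := by decide +kernel

theorem sA_s2 : sA s2 z0 = z0 := by decide +kernel

theorem sA_tt : sA tt z0 = z0 := by decide +kernel

theorem F_code : ∀ σ, (∀ y, f0 y = false → sA σ y = y ∨ sA σ y = ad z0 y) →
    σ = 1 ∨ σ = s0 ∨ σ = s2 ∨ σ = s0 * s2 := by
  decide +kernel

/-- `F` -/
def isF (σ : Equiv.Perm (Fin 5)) : Prop := σ = 1 ∨ σ = s0 ∨ σ = s2 ∨ σ = s0 * s2

instance (σ : Equiv.Perm (Fin 5)) : Decidable (isF σ) := by unfold isF; infer_instance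

theorem F_sep : ∀ σ τ : Equiv.Perm (Fin 5), isF σ → isF τ →
    (ad (sA σ (dec 1)) (dec 1) = ad (sA τ (dec 1)) (dec 1) ∨
      ad (sA σ (dec 1)) (dec 1) = ad z0 (ad (sA τ (dec 1)) (dec 1))) → σ = τ := by
  decide +kernel

theorem F_E : ∀ τ : Equiv.Perm (Fin 5), isF τ → f0 (ad (sA τ (dec 1)) (dec 1)) = false := by
  decide +kernel

theorem F_or : ∀ σ, sA σ z0 = z0 → isF σ ∨ isF (σ * tt⁻¹) := by decide +kernel

/-- the points not perpendicular to `z` -/
theorem opp_code : ∀ x, f0 x = true ↔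
    x = tb 0 2 1 4 ∨ x = tb 0 3 1 4 ∨ x = tb 1 2 0 4 ∨ x = tb 1 3 0 4 ∨
    x = tb 0 2 3 4 ∨ x = tb 1 2 3 4 ∨ x = tb 0 3 2 4 ∨ x = tb 1 3 2 4 := by
  decide +kernel

theorem perp1 : f0 (ad (kk 0 1) (kk 0 4)) = false := by decide +kernel

theorem perp2 : f0 (ad (kk 0 1) (kk 0 2)) = true := by decide +kernel

theorem kk_01 : kk 0 1 = b0 := by decide +kernel

theorem kk_23 : kk 2 3 = z0 := by decide +kernel

/-- the permutation with given images -/
theorem exists_perm5 {a b c d m : Fin 5} (h : D5 a b c d m) :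
    ∃ τ : Equiv.Perm (Fin 5), τ 0 = a ∧ τ 1 = b ∧ τ 2 = c ∧ τ 3 = d ∧ τ 4 = m := by
  have hinj : Function.Injective ![a, b, c, d, m] := by
    revert a b c d m
    decide +kernel
  exact ⟨Equiv.ofBijective _ (Finite.injective_iff_bijective.1 hinj), rfl, rfl, rfl, rfl, rfl⟩

theorem exists_fifth : ∀ a b c d : Fin 5, D4 a b c d → ∃ m, D5 a b c d m := by decide +kernel

/-- `S₅` is generated by the adjacent transpositions -/
theorem ind5 {H : Submonoid (Equiv.Perm (Fin 5))} (h0 : s0 ∈ H) (h1 : s1 ∈ H) (h2 : s2 ∈ H)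
    (h3 : s3 ∈ H) : H = ⊤ := by
  rw [eq_top_iff, ← Equiv.Perm.mclosure_swap_castSucc_succ 4, Submonoid.closure_le]
  rintro _ ⟨i, rfl⟩
  fin_cases i
  · exact h0
  · exact h1
  · exact h2
  · exact h3

end Cfsg.Agent.Omega.NOne.AG.LabOf

end

section


/-!
# D0ag (bb #15001) (1.4), type (α): the labels if `Δ > V`

`exists_lab` : `Conf`, `AW P V W` and `¬ Δ ≤ V` give `Lab h y pt`.
-/

set_option autoImplicit false
set_option linter.unusedSectionVars false

namespace Cfsg.Agent.Omega.NOne.AG.LabOf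

open Subgroup Cfsg Cfsg.Agent.ZN
open Cfsg.Agent.Omega.NOne.AG.Tab
open Cfsg.Agent.Omega.NOne.AG.FactsNat (comm_of_one one_of_comm ovz_unique z_fix sA_one')

universe u

variable {G : Type u} [Group G] {ι : Type*}

theorem ad_self (x : B4) : ad x x = b0 := by
  obtain ⟨a, b, c, d⟩ := x
  simp [ad]

section

variable {P V T : Subgroup G} {z : ι → G} {opp : ι → ι → Prop} {C Q QF Qs : ι → Subgroup G}
  {W : B4 → G} (h : Conf P V T z opp C Q QF Qs) (A : AW P V W)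
include h A

theorem exists_idx [Nonempty ι] {x : B4} (hx : x ≠ b0) : ∃ i, z i = W x := by
  let i₁ := Classical.arbitrary ι
  obtain ⟨u, hu⟩ := A.surj _ (h.zV i₁)
  have hu0 : u ≠ b0 := by
    rintro rfl
    exact h.ne_one i₁ (hu.trans A.zero)
  obtain ⟨a, b, c, d, hD, e1⟩ := Tab.exists_pt u hu0
  obtain ⟨a', b', c', d', hD', e2⟩ := Tab.exists_pt x hx
  obtain ⟨σ, p0, p1, p2, p3⟩ := exists_perm hD
  obtain ⟨τ, q0, q1, q2, q3⟩ := exists_perm hD'
  obtain ⟨m, hm, hσ⟩ := A.full (τ * σ⁻¹)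
  obtain ⟨j, hj⟩ := h.perm m hm i₁
  refine ⟨j, ?_⟩
  rw [← hj, hu, e1, hσ a b c d hD, e2]
  have hi : ∀ i, (τ * σ⁻¹) (σ i) = τ i := fun i => by
    rw [← Equiv.Perm.mul_apply]; congr 1; group
  rw [← p0, ← p1, ← p2, ← p3, hi, hi, hi, hi, q0, q1, q2, q3]

/-- `E = z^⊥` -/
theorem mem_Q {i : ι} (hi : z i = W z0) (x : B4) : W x ∈ Q i ↔ f0 x = false := by
  obtain ⟨j, k, hj, -, -⟩ := h.tri i
  have hne : ¬ ∀ v ∈ V, v ∈ Q i := fun hall => (h.opp_iff i j).1 hj (hall _ (h.zV j))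
  -- no `x` with `f0 x = true` is in `E`
  have key : ∀ x, f0 x = true → W x ∉ Q i := by
    intro x hx hxE
    have hall : ∀ y, f0 y = true → W y ∈ Q i := by
      intro y hy
      obtain ⟨a, b, c, e⟩ := st_trans x y hx hy
      obtain ⟨m, hm, hσ⟩ := A.full (st a b c)
      have h1 := A.conj_eq hσ
      have h2 : m * z i * m⁻¹ = z i := by
        have := h1 z0
        rwa [st_z0, ← hi] at this
      have h3 := h.eqQ m hm i i h2 _ hxE
      rwa [h1, ← e] at h3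
    refine hne fun v hv => ?_
    obtain ⟨y, rfl⟩ := A.surj v hv
    by_cases hy : f0 y = true
    · exact hall y hy
    · rw [Bool.not_eq_true] at hy
      obtain ⟨u, hu, h1, h2⟩ := f0_split y hy
      rw [← h2, A.mul]
      exact mul_mem (hall _ h1) (hall _ hu)
  constructor
  · intro h
    by_contra hcon
    rw [Bool.not_eq_false] at hcon
    exact key x hcon h
  · intro hx
    obtain ⟨u, hu, h1, h2⟩ := f0_split x hx
    rw [← h2, A.mul]
    exact h.VQ2 i _ (A.mem _) _ (A.mem _) (key _ h1) (key _ hu)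

/-- `Qs` induces at most `F` -/
theorem Qs_F {i : ι} (hi : z i = W z0) {x : G} (hx : x ∈ Qs i) {σ : Equiv.Perm (Fin 5)}
    (hσ : Ovz W x σ) : isF σ := by
  apply F_code
  intro y hy
  have hyQ := (mem_Q h A hi y).2 hy
  have h1 := h.com i _ (h.VQs i _ (A.mem y) hyQ) x (h.QsQF i hx)
  have h2 := A.conj_eq hσ y
  rcases h1 with h1 | h1
  · left
    apply A.inj
    rw [← h2, ← h1, mul_inv_cancel_right]
  · right
    apply A.inj
    rw [A.mul, ← h2, ← hi]
    have h3 : z i * (W y * x) = x * W y := by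
      rw [h1, ← mul_assoc, h.sq, one_mul]
    rw [← h3]
    group

/-- `Qs` induces `F` -/
theorem Qs_ex {i : ι} (hi : z i = W z0) {τ : Equiv.Perm (Fin 5)} (hτ : isF τ) :
    ∃ x ∈ Qs i, Ovz W x τ := by
  have hv : W (dec 1) ∉ Q i := by
    rw [mem_Q h A hi]
    decide
  have he : W (ad (sA τ (dec 1)) (dec 1)) ∈ Q i := (mem_Q h A hi _).2 (F_E τ hτ)
  obtain ⟨x, hx, h1⟩ := h.ev i _ (A.mem _) he _ (A.mem _) hv
  obtain ⟨σ, hσ⟩ := A.act x (h.QsP i hx)
  have hF := Qs_F h A hi hx hσ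
  have h2 := A.conj_eq hσ (dec 1)
  have hinv : (W (dec 1))⁻¹ = W (dec 1) := inv_eq_of_mul_eq_one_left (A.sq _ (A.mem _))
  have h4 : σ = τ := by
    apply F_sep σ τ hF hτ
    rcases h1 with h1 | h1
    · left
      apply A.inj
      rw [A.mul, ← h2, ← h1, hinv]
    · right
      apply A.inj
      rw [A.mul, ← h2, A.mul z0, ← hi, ← h1, hinv]
  exact ⟨x, hx, h4 ▸ hσ⟩

/-- `Qs i` contains an element over `(ab)`, `i = ab|cd` -/
theorem Qs_swap [Nonempty ι] {a b c d : Fin 5} (hD : D4 a b c d) :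
    ∃ i, ∃ x ∈ Qs i, Ovz W x (Equiv.swap a b) := by
  obtain ⟨i₀, hi⟩ := exists_idx h A (x := z0) (by decide)
  obtain ⟨σ, p0, p1, p2, p3⟩ := exists_perm hD
  obtain ⟨m, hm, hσ⟩ := A.full σ
  obtain ⟨x, hx, h1⟩ := Qs_ex h A hi (τ := s0) (Or.inr (Or.inl rfl))
  obtain ⟨j, hj⟩ := h.perm m hm i₀
  refine ⟨j, m * x * m⁻¹, h.eqQs m hm i₀ j hj x hx, ?_⟩
  have h2 := (Ovz.mul hσ h1).mul (Ovz.inv hσ)
  have h3 : σ * s0 * σ⁻¹ = Equiv.swap a b := by
    rw [← p0, ← p1, Equiv.swap_apply_apply]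
  rwa [h3] at h2

/-- `P = ⟨Qs⟩ C_P(V)` -/
theorem exists_xc [Nonempty ι] {m : G} (hm : m ∈ P) :
    ∃ x ∈ ⨆ i, Qs i, ∃ c ∈ P, (∀ v ∈ V, c * v = v * c) ∧ m = x * c := by
  let H : Submonoid (Equiv.Perm (Fin 5)) :=
    { carrier := {τ | ∃ x ∈ ⨆ i, Qs i, Ovz W x τ}
      mul_mem' := by
        rintro τ τ' ⟨x, hx, h1⟩ ⟨y, hy, h2⟩
        exact ⟨x * y, mul_mem hx hy, h1.mul h2⟩
      one_mem' := ⟨1, one_mem _, Ovz.one⟩ }
  have hs : ∀ a b c d : Fin 5, D4 a b c d → Equiv.swap a b ∈ H := by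
    intro a b c d hD
    obtain ⟨i, x, hx, h1⟩ := Qs_swap h A hD
    exact ⟨x, (le_iSup Qs i) hx, h1⟩
  have hH : H = ⊤ := ind5 (hs 0 1 2 3 (by decide)) (hs 1 2 3 4 (by decide)) (hs 2 3 0 1 (by decide))
    (hs 3 4 0 1 (by decide))
  obtain ⟨σ, hσ⟩ := A.act m hm
  have hσH : σ ∈ H := by rw [hH]; trivial
  obtain ⟨x, hx, h1⟩ := hσH
  have hxP : x ∈ P := (iSup_le fun i => h.QsP i : ⨆ i, Qs i ≤ P) hx
  refine ⟨x, hx, x⁻¹ * m, mul_mem (inv_mem hxP) hm, ?_, by group⟩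
  apply comm_of_one A
  have h2 : Ovz W (x⁻¹ * m) (σ⁻¹ * σ) := h1.inv.mul hσ
  rwa [inv_mul_cancel] at h2

/-- `[P, Δ] ≤ V` -/
theorem comm_Dl_P [Nonempty ι] {m d : G} (hm : m ∈ P) (hd : d ∈ h.Dl) : d⁻¹ * (m * d * m⁻¹) ∈ V := by
  let K : Subgroup G :=
    { carrier := {x | x ∈ P ∧ ∀ d ∈ h.Dl, d⁻¹ * (x * d * x⁻¹) ∈ V}
      one_mem' := ⟨one_mem _, fun d _ => by simp⟩
      mul_mem' := by
        rintro a b ⟨ha0, ha⟩ ⟨hb0, hb⟩
        refine ⟨mul_mem ha0 hb0, fun d hd => ?_⟩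
        have e : d⁻¹ * (a * b * d * (a * b)⁻¹) =
            d⁻¹ * (a * d * a⁻¹) * (a * (d⁻¹ * (b * d * b⁻¹)) * a⁻¹) := by group
        rw [e]
        exact mul_mem (ha d hd) (h.conj_V ha0 (hb d hd))
      inv_mem' := by
        rintro a ⟨ha0, ha⟩
        refine ⟨inv_mem ha0, fun d hd => ?_⟩
        have e : d⁻¹ * (a⁻¹ * d * a⁻¹⁻¹) = a⁻¹ * ((a * d * a⁻¹)⁻¹ * d) * a⁻¹⁻¹ := by group
        rw [e]
        refine h.conj_V (inv_mem ha0) ?_
        have h1 := inv_mem (ha d hd)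
        have e2 : (a * d * a⁻¹)⁻¹ * d = (d⁻¹ * (a * d * a⁻¹))⁻¹ := by group
        rw [e2]; exact h1 }
  obtain ⟨x, hx, c, hc, hcV, rfl⟩ := exists_xc h A hm
  have hle : ⨆ i, Qs i ≤ K := iSup_le fun i y hy => ⟨h.QsP i hy, fun d hd => h.comm_Dl hy hd⟩
  have h1 := (hle hx).2 d hd
  have h2 := h.Dl_comm hc hcV hd
  have e : x * c * d * (x * c)⁻¹ = x * d * x⁻¹ := by
    calc x * c * d * (x * c)⁻¹ = x * (c * d) * c⁻¹ * x⁻¹ := by group
      _ = x * d * x⁻¹ := by rw [h2]; group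
  rwa [e]

/-- `B ∩ V = ⟨z⟩` -/
theorem BV {i : ι} {e : G} (he : e ∈ h.B i) (heV : e ∈ V) : e = 1 ∨ e = z i :=
  h.fixE i e heV fun x hx => ((h.mem_B.1 he).2 x hx).symm

theorem z_mem_B (i : ι) : z i ∈ h.B i :=
  h.mem_B.2 ⟨h.QsQF i (h.z_mem_Qs i), fun _ hy => (h.Qcomm_z (h.QsQ i hy)).symm⟩

end

/-- The situation: `b ∈ B ∩ Δ - V`. -/
structure Bs {P V T : Subgroup G} {z : ι → G} {opp : ι → ι → Prop} {C Q QF Qs : ι → Subgroup G}
    (h : Conf P V T z opp C Q QF Qs) (i : ι) (b : G) : Prop where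
  B : b ∈ h.B i
  D : b ∈ h.Dl
  V : b ∉ V

section

variable {P V T : Subgroup G} {z : ι → G} {opp : ι → ι → Prop} {C Q QF Qs : ι → Subgroup G}
  {W : B4 → G} (h : Conf P V T z opp C Q QF Qs) (A : AW P V W)
include h A

theorem exists_bs [Nonempty ι] {d : G} (hd : d ∈ h.Dl) (hdV : d ∉ V) (i : ι) :
    ∃ b v, Bs h i b ∧ v ∈ V ∧ d = b * v := by
  obtain ⟨b, hb, v, hv, rfl⟩ := h.mem_BV.1 (h.mem_Dl.1 hd i)
  refine ⟨b, v, ⟨hb, ?_, fun hbV => hdV (mul_mem hbV hv)⟩, hv, rfl⟩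
  have h1 := mul_mem hd (inv_mem (h.V_le_Dl hv))
  rwa [mul_inv_cancel_right] at h1

theorem Dl_z [Nonempty ι] {b : G} (hb : b ∈ h.Dl) (i : ι) : b * z i = z i * b :=
  h.TV b (h.Dl_le_T hb) _ (h.zV i)

theorem Bs.mul_z [Nonempty ι] {i : ι} {b : G} (H : Bs h i b) : Bs h i (b * z i) :=
  ⟨mul_mem H.B (z_mem_B h A i), mul_mem H.D (h.V_le_Dl (h.zV i)), fun hc => H.V (by
    have h1 := mul_mem hc (inv_mem (h.zV i))
    rwa [mul_inv_cancel_right] at h1)⟩

/-- `P ∩ C(z)` acts on `{b, bz}` -/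
theorem Bs.conj [Nonempty ι] {i : ι} {b : G} (H : Bs h i b) {m : G} (hm : m ∈ P)
    (hz : m * z i = z i * m) : m * b * m⁻¹ = b ∨ m * b * m⁻¹ = b * z i := by
  have h1 := comm_Dl_P h A hm H.D
  have h2 : b⁻¹ * (m * b * m⁻¹) ∈ h.B i :=
    mul_mem (inv_mem H.B) (norm_conj (h.B_norm i) (h.PC i m hm hz) H.B)
  rcases BV h A h2 h1 with h3 | h3
  · left
    rwa [inv_mul_eq_one, eq_comm] at h3
  · right
    rwa [inv_mul_eq_iff_eq_mul] at h3

/-- the elements over `F` centralise `b` -/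
theorem Bs.F [Nonempty ι] {i : ι} {b : G} (H : Bs h i b) (hi : z i = W z0) {m : G} (hm : m ∈ P)
    {σ : Equiv.Perm (Fin 5)} (hσ : Ovz W m σ) (hF : isF σ) : m * b * m⁻¹ = b := by
  obtain ⟨x, hx, h1⟩ := Qs_ex h A hi hF
  have hc : Ovz W (x⁻¹ * m) 1 := by
    have := h1.inv.mul hσ
    rwa [inv_mul_cancel] at this
  have h2 := h.Dl_comm (mul_mem (inv_mem (h.QsP i hx)) hm) (comm_of_one A hc) H.D
  have h3 := (h.mem_B.1 H.B).2 x hx
  calc m * b * m⁻¹ = x * ((x⁻¹ * m) * b) * (x⁻¹ * m)⁻¹ * x⁻¹ := by group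
    _ = x * b * x⁻¹ := by rw [h2]; group
    _ = b := by rw [← h3]; group

/-- some element of `P ∩ C(z)` moves `b` -/
theorem Bs.moved [Nonempty ι] {i : ι} {b : G} (H : Bs h i b) :
    ∃ m ∈ P, m * z i = z i * m ∧ m * b * m⁻¹ = b * z i := by
  by_contra hc
  push Not at hc
  have hfix : ∀ m ∈ P, m * z i = z i * m → m * b * m⁻¹ = b := by
    intro m hm hmz
    rcases Bs.conj h A H hm hmz with h1 | h1
    · exact h1
    · exact absurd h1 (hc m hm hmz)
  have hbb := h.Dl_sq H.D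
  have h1 := h.min i (zpowers b) (by
    rw [zpowers_le]; exact h.Dl_le_T H.D) (fun m hm hmz x hx => by
      obtain ⟨n, rfl⟩ := mem_zpowers_iff.1 hx
      rw [← conj_zpow, hfix m hm hmz]
      exact zpow_mem (mem_zpowers b) n) (by
      rw [Ne, zpowers_eq_bot]
      rintro rfl
      exact H.V (one_mem _))
  obtain ⟨n, hn⟩ := mem_zpowers_iff.1 h1
  rcases Int.even_or_odd' n with ⟨k, rfl | rfl⟩
  · rw [zpow_mul, zpow_two, hbb, one_zpow] at hn
    exact h.ne_one i hn.symm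
  · rw [zpow_add, zpow_mul, zpow_two, hbb, one_zpow, one_mul, zpow_one] at hn
    exact H.V (hn ▸ h.zV i)

/-- the elements over `(02)(13)` map `b` to `bz` -/
theorem Bs.tt [Nonempty ι] {i : ι} {b : G} (H : Bs h i b) (hi : z i = W z0) {m : G} (hm : m ∈ P)
    (hσ : Ovz W m LabOf.tt) : m * b * m⁻¹ = b * z i := by
  obtain ⟨n, hn, hnz, h1⟩ := Bs.moved h A H
  obtain ⟨τ, hτ⟩ := A.act n hn
  have hτz : sA τ z0 = z0 := z_fix A hτ (by rwa [← hi])
  rcases F_or τ hτz with hF | hF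
  · exfalso
    have h2 := Bs.F h A H hi hn hτ hF
    rw [h2] at h1
    exact h.ne_one i (left_eq_mul.1 h1)
  · have h2 := Bs.F h A H hi (mul_mem hn (inv_mem hm)) (Ovz.mul hτ (Ovz.inv hσ)) hF
    have h3 : (n * m⁻¹) * z i * (n * m⁻¹)⁻¹ = z i := by
      have h4 : m * z i * m⁻¹ = z i := by
        have := A.conj_eq hσ z0
        rwa [sA_tt, ← hi] at this
      have h5 : m⁻¹ * z i * m = z i := by
        calc m⁻¹ * z i * m = m⁻¹ * (m * z i * m⁻¹) * m := by rw [h4]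
          _ = z i := by group
      calc (n * m⁻¹) * z i * (n * m⁻¹)⁻¹ = n * (m⁻¹ * z i * m) * n⁻¹ := by group
        _ = z i := by rw [h5, hnz, mul_inv_cancel_right]
    calc m * b * m⁻¹ = (n * m⁻¹)⁻¹ * (n * b * n⁻¹) * (n * m⁻¹) := by group
      _ = (n * m⁻¹)⁻¹ * (b * z i) * (n * m⁻¹) := by rw [h1]
      _ = (n * m⁻¹)⁻¹ * (((n * m⁻¹) * b * (n * m⁻¹)⁻¹) * ((n * m⁻¹) * z i * (n * m⁻¹)⁻¹)) * (n * m⁻¹) := by
        rw [h2, h3]
      _ = b * z i := by group

/-- `|Δ : V| = 2` -/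
theorem Bs.two [Nonempty ι] {i : ι} {b : G} (H : Bs h i b) (hi : z i = W z0) {d : G} (hd : d ∈ h.Dl)
    (hdV : d ∉ V) : d * b ∈ V := by
  obtain ⟨b', v, H', hv, rfl⟩ := exists_bs h A hd hdV i
  have hvb : v * b = b * v := (h.TV b (h.Dl_le_T H.D) v hv).symm
  by_contra hc
  have hbb : Bs h i (b' * b) := by
    refine ⟨mul_mem H'.B H.B, mul_mem H'.D H.D, fun h1 => hc ?_⟩
    rw [mul_assoc, hvb, ← mul_assoc]
    exact mul_mem h1 hv
  obtain ⟨m, hm, hσ⟩ := A.full LabOf.tt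
  have h1 := Bs.tt h A H hi hm hσ
  have h2 := Bs.tt h A H' hi hm hσ
  have h3 := Bs.tt h A hbb hi hm hσ
  have h4 : m * (b' * b) * m⁻¹ = b' * b := by
    calc m * (b' * b) * m⁻¹ = (m * b' * m⁻¹) * (m * b * m⁻¹) := by group
      _ = (b' * z i) * (b * z i) := by rw [h1, h2]
      _ = b' * (z i * b) * z i := by group
      _ = b' * b * (z i * z i) := by rw [← Dl_z h A H.D i]; group
      _ = b' * b := by rw [h.sq, mul_one]
  rw [h4] at h3
  exact h.ne_one i (left_eq_mul.1 h3)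

/-- the cocycle -/
theorem Bs.coc [Nonempty ι] {i : ι} {b : G} (H : Bs h i b) : ∃ c : Equiv.Perm (Fin 5) → B4,
    ∀ m ∈ P, ∀ σ, Ovz W m σ → m * b * m⁻¹ = b * W (c σ) := by
  have hex : ∀ σ : Equiv.Perm (Fin 5), ∃ x : B4, ∀ m ∈ P, Ovz W m σ → m * b * m⁻¹ = b * W x := by
    intro σ
    obtain ⟨m, hm, hσ⟩ := A.full σ
    obtain ⟨x, hx⟩ := A.surj _ (comm_Dl_P h A hm H.D)
    refine ⟨x, fun n hn hτ => ?_⟩
    have hc : Ovz W (m⁻¹ * n) 1 := by
      have := (Ovz.inv hσ).mul hτ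
      rwa [inv_mul_cancel] at this
    have h2 := h.Dl_comm (mul_mem (inv_mem hm) hn) (comm_of_one A hc) H.D
    calc n * b * n⁻¹ = m * ((m⁻¹ * n) * b) * (m⁻¹ * n)⁻¹ * m⁻¹ := by group
      _ = m * b * m⁻¹ := by rw [h2]; group
      _ = b * W x := by rw [← hx]; group
  choose c hc using hex
  exact ⟨c, fun m hm σ hσ => hc σ m hm hσ⟩

/-- **the choice of `b = y₀₁`** -/
theorem exists_b [Nonempty ι] (hDl : ¬ h.Dl ≤ V) {i : ι} (hi : z i = W z0) : ∃ b, Bs h i b ∧
    (∀ m ∈ P, Ovz W m s0 → m * b * m⁻¹ = b) ∧ (∀ m ∈ P, Ovz W m s1 → m * b * m⁻¹ = b * W (dec 1)) ∧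
    (∀ m ∈ P, Ovz W m s2 → m * b * m⁻¹ = b) ∧ ∀ m ∈ P, Ovz W m s3 → m * b * m⁻¹ = b := by
  obtain ⟨d, hd, hdV⟩ := SetLike.not_le_iff_exists.1 hDl
  obtain ⟨b, v, H, hv, rfl⟩ := exists_bs h A hd hdV i
  obtain ⟨c, hc⟩ := Bs.coc h A H
  have hcan : ∀ x y : B4, b * W x = b * W y → x = y := fun x y e => A.inj _ _ (mul_left_cancel e)
  have c0 : ∀ σ, isF σ → c σ = b0 := by
    intro σ hF
    obtain ⟨m, hm, hσ⟩ := A.full σ
    apply hcan
    rw [← hc m hm σ hσ, Bs.F h A H hi hm hσ hF, A.zero, mul_one]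
  have cm : ∀ σ τ, c (σ * τ) = ad (c σ) (sA σ (c τ)) := by
    intro σ τ
    obtain ⟨m, hm, hσ⟩ := A.full σ
    obtain ⟨n, hn, hτ⟩ := A.full τ
    apply hcan
    rw [← hc (m * n) (mul_mem hm hn) _ (Ovz.mul hσ hτ), A.mul]
    calc m * n * b * (m * n)⁻¹ = m * (n * b * n⁻¹) * m⁻¹ := by group
      _ = m * (b * W (c τ)) * m⁻¹ := by rw [hc n hn τ hτ]
      _ = (m * b * m⁻¹) * (m * W (c τ) * m⁻¹) := by group
      _ = b * (W (c σ) * W (sA σ (c τ))) := by rw [hc m hm σ hσ, A.conj_eq hσ, mul_assoc]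
  have ct : c LabOf.tt = z0 := by
    obtain ⟨m, hm, hσ⟩ := A.full LabOf.tt
    apply hcan
    rw [← hc m hm _ hσ, Bs.tt h A H hi hm hσ, hi]
  have hs0 := c0 s0 (Or.inr (Or.inl rfl))
  have hs2 := c0 s2 (Or.inr (Or.inr (Or.inl rfl)))
  have had : ∀ x, ad b0 x = x := by decide
  have had' : ∀ x, ad x b0 = x := by decide
  have hsA0 : ∀ σ, sA σ b0 = b0 := fun σ => by
    rw [sA, lin]; rfl
  have e1 : sA s0 (c s3) = c s3 := by
    have h1 := cm s0 s3
    rw [s03, cm, hs0, had, hsA0, had'] at h1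
    exact h1.symm
  have e2 : ad (c s1) (sA s1 (c s3)) = ad (c s3) (sA s3 (c s1)) := by
    rw [← cm, ← cm, s13]
  have e3 : ad (c s1) (sA s1 (sA s0 (sA s2 (c s1)))) = z0 := by
    rw [← ct, ← tt_eq, cm, cm, cm, hs0, hs2, had, had]
  rcases code _ _ e1 e2 e3 with ⟨h1, h2⟩ | ⟨h1, h2⟩
  · refine ⟨b, H, ?_, ?_, ?_, ?_⟩
    · intro m hm hσ
      rw [hc m hm _ hσ, hs0, A.zero, mul_one]
    · intro m hm hσ
      rw [hc m hm _ hσ, h1]
    · intro m hm hσ
      rw [hc m hm _ hσ, hs2, A.zero, mul_one]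
    · intro m hm hσ
      rw [hc m hm _ hσ, h2, A.zero, mul_one]
  · have key : ∀ m ∈ P, ∀ σ, Ovz W m σ →
        m * (b * z i) * m⁻¹ = b * z i * W (ad z0 (ad (c σ) (sA σ z0))) := by
      intro m hm σ hσ
      calc m * (b * z i) * m⁻¹ = (m * b * m⁻¹) * (m * z i * m⁻¹) := by group
        _ = b * W (c σ) * W (sA σ z0) := by rw [hc m hm σ hσ, hi, A.conj_eq hσ]
        _ = b * z i * W (ad z0 (ad (c σ) (sA σ z0))) := by
          rw [A.mul, A.mul, ← hi]
          calc b * W (c σ) * W (sA σ z0) = b * (z i * z i) * (W (c σ) * W (sA σ z0)) := by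
                rw [h.sq, mul_one, mul_assoc]
            _ = _ := by group
    refine ⟨b * z i, Bs.mul_z h A H, ?_, ?_, ?_, ?_⟩
    · intro m hm hσ
      rw [key m hm _ hσ, hs0, had, sA_s0, ad_self, A.zero, mul_one]
    · intro m hm hσ
      rw [key m hm _ hσ, h1]
    · intro m hm hσ
      rw [key m hm _ hσ, hs2, had, sA_s2, ad_self, A.zero, mul_one]
    · intro m hm hσ
      rw [key m hm _ hσ, h2, A.zero, mul_one]

/-- the elements `y a b` are permuted by `P` -/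
theorem ov_of [Nonempty ι] {i : ι} {b : G} (H : Bs h i b)
    (hb0 : ∀ m ∈ P, Ovz W m s0 → m * b * m⁻¹ = b)
    (hb1 : ∀ m ∈ P, Ovz W m s1 → m * b * m⁻¹ = b * W (dec 1))
    (hb2 : ∀ m ∈ P, Ovz W m s2 → m * b * m⁻¹ = b)
    (hb3 : ∀ m ∈ P, Ovz W m s3 → m * b * m⁻¹ = b) (σ : Equiv.Perm (Fin 5)) :
    ∀ m ∈ P, Ovz W m σ → ∀ p q, p ≠ q →
      m * (b * W (kk p q)) * m⁻¹ = b * W (kk (σ p) (σ q)) := by
  let K : Submonoid (Equiv.Perm (Fin 5)) :=
    { carrier := {σ | ∀ m ∈ P, Ovz W m σ → ∀ p q, p ≠ q →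
        m * (b * W (kk p q)) * m⁻¹ = b * W (kk (σ p) (σ q))}
      mul_mem' := by
        intro σ τ hσ hτ m hm h1 p q hpq
        obtain ⟨n, hn, h2⟩ := A.full τ
        have h3 : Ovz W (m * n⁻¹) σ := by
          have := Ovz.mul h1 (Ovz.inv h2)
          rwa [mul_inv_cancel_right] at this
        have h4 := hτ n hn h2 p q hpq
        have h5 := hσ _ (mul_mem hm (inv_mem hn)) h3 (τ p) (τ q) (τ.injective.ne hpq)
        rw [← h4] at h5
        calc m * (b * W (kk p q)) * m⁻¹ =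
            m * n⁻¹ * (n * (b * W (kk p q)) * n⁻¹) * (m * n⁻¹)⁻¹ := by group
          _ = _ := h5
      one_mem' := by
        intro m hm h1 p q _
        have h2 := h.Dl_comm hm (comm_of_one A h1) (mul_mem H.D (h.V_le_Dl (A.mem (kk p q))))
        rw [h2, mul_inv_cancel_right]
        rfl }
  have hc : ∀ m (x y : B4) (u : G), m * b * m⁻¹ = u → m * W x * m⁻¹ = W y →
      m * (b * W x) * m⁻¹ = u * W y := by
    intro m x y u h1 h2
    rw [← h1, ← h2]; group
  have hK : K = ⊤ := by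
    apply ind5
    · intro m hm h1 p q hpq
      rw [hc m _ _ _ (hb0 m hm h1) (A.conj_eq h1 _), kk_s0 p q hpq]
    · intro m hm h1 p q hpq
      rw [hc m _ _ _ (hb1 m hm h1) (A.conj_eq h1 _), mul_assoc, ← A.mul, kk_s1 p q hpq]
    · intro m hm h1 p q hpq
      rw [hc m _ _ _ (hb2 m hm h1) (A.conj_eq h1 _), kk_s2 p q hpq]
    · intro m hm h1 p q hpq
      rw [hc m _ _ _ (hb3 m hm h1) (A.conj_eq h1 _), kk_s3 p q hpq]
  have hσ : σ ∈ K := by rw [hK]; trivial
  exact hσ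

/-- **The labels** if `Δ > V`. -/
theorem exists_lab [Nonempty ι] (hinj : Function.Injective z) (hDl : ¬ h.Dl ≤ V) :
    ∃ (y : Fin 5 → Fin 5 → G) (pt : Fin 5 → Fin 5 → Fin 5 → Fin 5 → ι), Lab h y pt := by
  classical
  obtain ⟨i, hi⟩ := exists_idx h A (x := z0) (by decide)
  obtain ⟨b, H, hb0, hb1, hb2, hb3⟩ := exists_b h A hDl hi
  have hov := ov_of h A H hb0 hb1 hb2 hb3
  -- the points
  obtain ⟨f, hf⟩ : ∃ f : B4 → ι, ∀ x, x ≠ b0 → z (f x) = W x := by
    have h1 : ∀ x : B4, ∃ i, x ≠ b0 → z i = W x := by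
      intro x
      by_cases hx : x = b0
      · exact ⟨i, fun h' => absurd hx h'⟩
      · obtain ⟨j, hj⟩ := exists_idx h A hx
        exact ⟨j, fun _ => hj⟩
    choose f hf using h1
    exact ⟨f, hf⟩
  have hpt : ∀ a b c d, D4 a b c d → z (f (tb a b c d)) = W (tb a b c d) :=
    fun a b c d hD => hf _ (tb_ne a b c d hD)
  have hi0 : f (tb 0 1 2 3) = i := hinj (by rw [hpt 0 1 2 3 (by decide), hi])
  set y : Fin 5 → Fin 5 → G := fun p q => b * W (kk p q) with hy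
  have hyD : ∀ p q, y p q ∈ h.Dl := fun p q => mul_mem H.D (h.V_le_Dl (A.mem _))
  have hyV : ∀ p q, y p q ∉ V := fun p q hc => H.V (by
    have h1 := mul_mem hc (inv_mem (A.mem (kk p q)))
    rwa [hy, mul_inv_cancel_right] at h1)
  have hb01 : y 0 1 = b := by
    rw [hy]; show b * W (kk 0 1) = b
    rw [kk_01, A.zero, mul_one]
  have hb23 : y 2 3 = b * z i := by
    rw [hy]; show b * W (kk 2 3) = b * z i
    rw [kk_23, hi]
  have hOv : ∀ m ∈ P, ∀ σ, Ovz W m σ → Ov P y σ m := fun m hm σ hσ =>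
    ⟨hm, fun p q hpq => hov σ m hm hσ p q hpq⟩
  have hbV : ∀ x, b * W x = W x * b := fun x => h.TV b (h.Dl_le_T H.D) _ (A.mem x)
  have hbb : b * b = 1 := h.Dl_sq H.D
  have hyy : ∀ p q r s, y p q * y r s = W (ad (kk p q) (kk r s)) := by
    intro p q r s
    rw [A.mul]
    show b * W (kk p q) * (b * W (kk r s)) = _
    calc b * W (kk p q) * (b * W (kk r s)) = (b * W (kk p q)) * b * W (kk r s) := by group
      _ = W (kk p q) * (b * b) * W (kk r s) := by rw [hbV]; group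
      _ = _ := by rw [hbb, mul_one]
  -- transport
  have htr : ∀ a b c d m, D5 a b c d m → ∃ g ∈ P, ∃ σ : Equiv.Perm (Fin 5), Ovz W g σ ∧ Ov P y σ g ∧
      σ 0 = a ∧ σ 1 = b ∧ σ 2 = c ∧ σ 3 = d ∧ σ 4 = m ∧ g * z i * g⁻¹ = z (f (tb a b c d)) := by
    intro a b c d m hD
    obtain ⟨σ, h0, h1, h2, h3, h4⟩ := exists_perm5 hD
    obtain ⟨g, hg, hσ⟩ := A.full σ
    refine ⟨g, hg, σ, hσ, hOv g hg σ hσ, h0, h1, h2, h3, h4, ?_⟩
    rw [hpt a b c d hD.1, hi]
    have := hσ 0 1 2 3 (by decide)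
    rwa [h0, h1, h2, h3] at this
  have hB0 : ∀ x ∈ h.Dl, (x ∈ h.B i ↔ x = 1 ∨ x = z i ∨ x = y 0 1 ∨ x = y 2 3) := by
    intro x hx
    rw [hb01, hb23]
    constructor
    · intro hxB
      by_cases hxV : x ∈ V
      · rcases BV h A hxB hxV with h1 | h1
        · exact Or.inl h1
        · exact Or.inr (Or.inl h1)
      · have h1 := Bs.two h A H hi hx hxV
        have hbi : b⁻¹ = b := inv_eq_of_mul_eq_one_left hbb
        rcases BV h A (mul_mem hxB H.B) h1 with h2 | h2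
        · right; right; left
          rw [mul_eq_one_iff_eq_inv] at h2
          rw [h2, hbi]
        · right; right; right
          rw [Dl_z h A H.D i, ← h2, mul_assoc, hbb, mul_one]
    · rintro (rfl | rfl | rfl | rfl)
      · exact one_mem _
      · exact z_mem_B h A i
      · exact H.B
      · exact mul_mem H.B (z_mem_B h A i)
  have hconjDl : ∀ g ∈ P, ∀ x ∈ h.Dl, g⁻¹ * x * g ∈ h.Dl := by
    intro g hg x hx
    have := norm_conj h.Dl_norm (inv_mem hg) hx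
    rwa [inv_inv] at this
  have hBiff : ∀ a b c d, D4 a b c d → ∀ x ∈ h.Dl,
      (x ∈ h.B (f (tb a b c d)) ↔ x = 1 ∨ x = z (f (tb a b c d)) ∨ x = y a b ∨ x = y c d) := by
    intro a b' c d hD x hx
    obtain ⟨m, hD5⟩ := exists_fifth a b' c d hD
    obtain ⟨g, hg, σ, -, hσ, h0, h1, h2, h3, h4, hz⟩ := htr a b' c d m hD5
    have e1 := hσ.2 0 1 (by decide)
    have e2 := hσ.2 2 3 (by decide)
    rw [h0, h1] at e1
    rw [h2, h3] at e2
    have h5 : x ∈ h.B (f (tb a b' c d)) ↔ g⁻¹ * x * g ∈ h.B i := by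
      constructor
      · intro h6
        have := h.eqB (inv_mem hg) (Conf.back hz) h6
        rwa [inv_inv] at this
      · intro h6
        have := h.eqB hg hz h6
        have e : g * (g⁻¹ * x * g) * g⁻¹ = x := by group
        rwa [e] at this
    rw [h5, hB0 _ (hconjDl g hg x hx), ← e1, ← e2, ← hz]
    have h6 : ∀ u, g⁻¹ * x * g = u ↔ x = g * u * g⁻¹ := by
      intro u
      constructor
      · rintro rfl; group
      · intro e; rw [e]; group
    rw [h6, h6, h6, h6, mul_one, mul_inv_cancel]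
  have hconjQ : ∀ {a b c d m} (_ : D5 a b c d m) {g : G}, g ∈ P → g * z i * g⁻¹ = z (f (tb a b c d)) →
      ∀ x, x ∈ Q i ↔ g * x * g⁻¹ ∈ Q (f (tb a b c d)) := by
    intro a b c d m _ g hg hz x
    constructor
    · exact h.eqQ g hg i _ hz x
    · intro h6
      have := h.eqQ _ (inv_mem hg) _ _ (Conf.back hz) _ h6
      have e : g⁻¹ * (g * x * g⁻¹) * g⁻¹⁻¹ = x := by group
      rwa [e] at this
  have hbQ : b ∈ Q i := h.B_Q i H.B
  refine ⟨y, fun a b c d => f (tb a b c d), ?_⟩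
  exact
  { symm := fun p q => by
      show b * W (kk p q) = b * W (kk q p)
      rw [kk_symm]
    ne_one := fun p q _ h1 => hyV p q (h1 ▸ one_mem _)
    sq := fun p q _ => h.Dl_sq (hyD p q)
    comm := fun p q r s _ _ => h.T_Dl (h.Dl_le_T (hyD p q)) (hyD r s)
    inj := fun p q r s hpq hrs e => kk_inj p q r s hpq hrs (A.inj _ _ (mul_left_cancel e))
    z_eq := fun p q r s hD => by rw [hpt p q r s hD, hyy, kk_tb p q r s hD]
    surj := by
      intro j
      obtain ⟨x, hx⟩ := A.surj _ (h.zV j)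
      have hx0 : x ≠ b0 := by
        rintro rfl
        exact h.ne_one j (hx.trans A.zero)
      obtain ⟨p, q, r, s, hD, rfl⟩ := Tab.exists_pt x hx0
      exact ⟨p, q, r, s, hD, hinj (by rw [hx, hpt p q r s hD])⟩
    rel := fun p q r s m hD => by rw [hyy, hyy, kk_rel p q r s m hD]
    notV := fun p q _ => hyV p q
    mem_iff := by
      intro p q _ x
      constructor
      · intro hx
        by_cases hxV : x ∈ V
        · exact Or.inl hxV
        · right
          have h1 := Bs.two h A H hi hx hxV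
          show x * (b * W (kk p q)) ∈ V
          rw [← mul_assoc]
          exact mul_mem h1 (A.mem _)
      · rintro (hx | hx)
        · exact h.V_le_Dl hx
        · have h1 := mul_mem (h.V_le_Dl hx) (inv_mem (hyD p q))
          rwa [mul_inv_cancel_right] at h1
    B_iff := hBiff
    yQ := by
      intro p q r s m hD
      refine ⟨h.B_Q _ ((hBiff p q r s hD.1 _ (hyD p q)).2 (Or.inr (Or.inr (Or.inl rfl)))), ?_⟩
      obtain ⟨g, hg, σ, -, hσ, h0, h1, h2, h3, h4, hz⟩ := htr p q r s m hD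
      have e1 := hσ.2 0 4 (by decide)
      rw [h0, h4] at e1
      rw [← e1]
      exact (hconjQ hD hg hz _).1 (mul_mem hbQ ((mem_Q h A hi _).2 (by decide +kernel)))
    yQ' := by
      intro p q r s m hD
      obtain ⟨g, hg, σ, -, hσ, h0, h1, h2, h3, h4, hz⟩ := htr p q r s m hD
      have e1 := hσ.2 0 2 (by decide)
      rw [h0, h2] at e1
      rw [← e1, ← hconjQ hD hg hz]
      intro hc
      have h5 := mul_mem (inv_mem hbQ) hc
      have h6 : b⁻¹ * y 0 2 = W (kk 0 2) := by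
        show b⁻¹ * (b * W (kk 0 2)) = _
        group
      rw [h6, mem_Q h A hi] at h5
      exact absurd h5 (by decide +kernel)
    act := by
      intro m hm
      obtain ⟨σ, hσ⟩ := A.act m hm
      exact ⟨σ, hOv m hm σ hσ⟩
    full := by
      intro σ
      obtain ⟨m, hm, hσ⟩ := A.full σ
      exact ⟨m, hOv m hm σ hσ⟩
    Qs_ov := by
      intro p q r s hD x hx
      obtain ⟨m, hD5⟩ := exists_fifth p q r s hD
      obtain ⟨g, hg, σ, hσ, -, h0, h1, h2, h3, h4, hz⟩ := htr p q r s m hD5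
      have hx' : g⁻¹ * x * g⁻¹⁻¹ ∈ Qs i := h.eqQs _ (inv_mem hg) _ _ (Conf.back hz) x hx
      obtain ⟨τ, hτ⟩ := A.act _ (h.QsP i hx')
      have hF := Qs_F h A hi hx' hτ
      have hxo : Ovz W x (σ * τ * σ⁻¹) := by
        have h5 := (Ovz.mul hσ hτ).mul (Ovz.inv hσ)
        have e : g * (g⁻¹ * x * g⁻¹⁻¹) * g⁻¹ = x := by group
        rwa [e] at h5
      have hO := hOv x (h.QsP _ hx) _ hxo
      have hc0 : σ * s0 * σ⁻¹ = Equiv.swap p q := by
        rw [← h0, ← h1, Equiv.swap_apply_apply]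
      have hc2 : σ * s2 * σ⁻¹ = Equiv.swap r s := by
        rw [← h2, ← h3, Equiv.swap_apply_apply]
      rcases hF with rfl | rfl | rfl | rfl
      · left
        rwa [mul_one, mul_inv_cancel] at hO
      · right; left
        rwa [hc0] at hO
      · right; right; left
        rwa [hc2] at hO
      · right; right; right
        have e : σ * (s0 * s2) * σ⁻¹ = (σ * s0 * σ⁻¹) * (σ * s2 * σ⁻¹) := by group
        rwa [e, hc0, hc2] at hO
    Qs_ex := by
      intro p q r s hD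
      obtain ⟨m, hD5⟩ := exists_fifth p q r s hD
      obtain ⟨g, hg, σ, hσ, -, h0, h1, h2, h3, h4, hz⟩ := htr p q r s m hD5
      obtain ⟨x, hx, h5⟩ := Qs_ex h A hi (τ := s0) (Or.inr (Or.inl rfl))
      refine ⟨g * x * g⁻¹, h.eqQs g hg i _ hz x hx, ?_⟩
      have hc0 : σ * s0 * σ⁻¹ = Equiv.swap p q := by
        rw [← h0, ← h1, Equiv.swap_apply_apply]
      rw [← hc0]
      exact hOv _ (mul_mem (mul_mem hg (h.QsP i hx)) (inv_mem hg)) _
        ((Ovz.mul hσ h5).mul (Ovz.inv hσ))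
    opp_iff := by
      intro p q r s m hD j
      obtain ⟨g, hg, σ, hσ, -, h0, h1, h2, h3, h4, hz⟩ := htr p q r s m hD
      obtain ⟨x, hx⟩ := A.surj _ (h.conj_V (inv_mem hg) (h.zV j))
      have hzj : z j = g * W x * g⁻¹ := by
        rw [← hx]; group
      have hpe : ∀ p' q' r' s', D4 p' q' r' s' → (j = f (tb (σ p') (σ q') (σ r') (σ s')) ↔
          x = tb p' q' r' s') := by
        intro p' q' r' s' hD'
        have h5 := hpt _ _ _ _ (Tab.D4.map hD' σ)
        have h6 := hσ p' q' r' s' hD'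
        constructor
        · intro e
          apply A.inj
          have h7 : g * W x * g⁻¹ = g * W (tb p' q' r' s') * g⁻¹ := by
            rw [← hzj, h6, ← h5, ← e]
          exact mul_left_cancel (mul_right_cancel h7)
        · rintro rfl
          apply hinj
          rw [hzj, h6, h5]
      show opp (f (tb p q r s)) j ↔ _
      rw [h.opp_iff, hzj, ← hconjQ hD hg hz, mem_Q h A hi, Bool.not_eq_false, opp_code,
        ← hpe 0 2 1 4 (by decide), ← hpe 0 3 1 4 (by decide), ← hpe 1 2 0 4 (by decide),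
        ← hpe 1 3 0 4 (by decide), ← hpe 0 2 3 4 (by decide), ← hpe 1 2 3 4 (by decide),
        ← hpe 0 3 2 4 (by decide), ← hpe 1 3 2 4 (by decide), h0, h1, h2, h3, h4]
    pt1 := fun p q r s hD => by
      show f (tb p q r s) = f (tb q p r s)
      rw [tb_swap1 p q r s hD]
    pt2 := fun p q r s hD => by
      show f (tb p q r s) = f (tb r s p q)
      rw [tb_swap2 p q r s hD] }

end

end Cfsg.Agent.Omega.NOne.AG.LabOf

end

section


/-!
# THEOREM D0ag (bb #15001): `EndPlus2` from `|V / E| = 2` (helper537)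
-/

set_option autoImplicit false

namespace Cfsg.Agent.Omega.NOne.AG.PlusEnd

open Subgroup Cfsg Cfsg.Agent.ZN Cfsg.Agent.Omega.MinPar Cfsg.Agent.Omega.Frame
open Cfsg.Agent.Omega.NO1 (Cfg Plus2 Nat4 Sympl EE)
open Cfsg.Agent.Omega.NOne.AG.End (PlusBase PlusIdx)

universe u

/-- Type (γ): the configuration. -/
theorem plusBase : PlusBase.{u} := by
  intro G _ _ S P h z hz hE
  obtain ⟨C, QF, Qs, hp, -, hB⟩ := exists_base h hz.Z (hz.ne_one 0 0) (FactsPlus.card16 hz) hE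
    (FactsPlus.facts h hz hE) (FactsPlus.stab h hz) (FactsPlus.ind h hz)
  exact ⟨Pts P (z 0 0), _, hp.opp, _, _, _, _, Pts.base P (z 0 0), rfl, hB⟩

/-- **`EndPlus2`** from `|V / E| = 2`. -/
theorem endPlus2_of_idx (h1 : PlusIdx.{u}) : NO1.EndPlus2.{u} := by
  intro G _ _ S P h z hz
  obtain ⟨ι, ζ, opp, C, Q, QF, Qs, i₀, e, hB⟩ := plusBase G S P h z hz (h1 G S P h z hz)
  rcases hB.caseV (hB.Dl_le_of_plus2 hz) with h4 | ⟨h4, h5⟩
  · rwa [e] at h4
  · exact (hB.false_of_plus h5 rfl hz).elim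

end Cfsg.Agent.Omega.NOne.AG.PlusEnd

end

section


/-!
# THEOREM D0ag (bb #15001): the leaf `EndPlus2` of N1

See `AG/PlusEnd.lean` (`PlusEnd.plusBase`, `PlusEnd.endPlus2_of_idx`).
-/

set_option autoImplicit false

namespace Cfsg.Agent.Omega.NOne.AG.End

universe u

/-- **`EndPlus2`** from `|V / E| = 2`. -/
theorem endPlus2 (h1 : PlusIdx.{u}) : NO1.EndPlus2.{u} := PlusEnd.endPlus2_of_idx h1

end Cfsg.Agent.Omega.NOne.AG.End

end
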