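import Cfsg.Agent.Mrg.Omega.NOne.AG.Tools
import Cfsg.Agent.Mrg.Omega.NOne.LemmaT
import Cfsg.Agent.Omega.NOne.AG.GData
import Cfsg.Agent.Involutions.BaerSuzuki
import Cfsg.Agent.Mrg.Omega.NOne.AG.TwoLab

section


/-!
# D0ag: `Conf` gives the element `g` (`GD`); helper950
-/

set_option autoImplicit false

namespace Cfsg.Agent.Omega.NOne.AG.Conf

open Subgroup Cfsg Cfsg.Agent.ZN Cfsg.Agent.Omega.NOne.AG.GData

universe u

variable {G : Type u} [Group G] {ι : Type*}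
variable {P V T : Subgroup G} {z : ι → G} {opp : ι → ι → Prop} {C Q QF Qs : ι → Subgroup G}
variable (h : Conf P V T z opp C Q QF Qs)
include h

/-- `|V ∩ Q i| = 8` if `V ≰ Q i` -/
theorem card_VQ8 [Finite G] (i : ι) {v : G} (hv : v ∈ V) (hvQ : v ∉ Q i) : Nat.card ↥(V ⊓ Q i) = 8 := by
  have hidx : ((V ⊓ Q i).subgroupOf V).index = 2 := by
    rw [Subgroup.index_eq_two_iff]
    refine ⟨⟨v, hv⟩, fun b => ?_⟩
    rw [Subgroup.mem_subgroupOf, Subgroup.mem_subgroupOf, mem_inf, mem_inf, Subgroup.coe_mul]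
    by_cases hb : (b : G) ∈ Q i
    · right
      refine ⟨⟨b.2, hb⟩, fun hc => hvQ ?_⟩
      have h1 := mul_mem (inv_mem hb) hc.2
      rwa [inv_mul_cancel_left] at h1
    · left
      exact ⟨⟨mul_mem b.2 hv, h.VQ2 i b b.2 v hv hb hvQ⟩, fun hc => hb hc.2⟩
  have h3 := Subgroup.card_mul_index ((V ⊓ Q i).subgroupOf V)
  have h4 : Nat.card ((V ⊓ Q i).subgroupOf V) = Nat.card ↥(V ⊓ Q i) :=
    Nat.card_congr (Subgroup.subgroupOfEquivOfLe inf_le_left).toEquiv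
  rw [hidx, h.cardV, h4] at h3
  omega

/-- **the element `g`** -/
theorem exists_g [Finite G] (i : ι) {v : G} (hv : v ∈ V) (hvQ : v ∉ Q i) :
    ∃ g ∈ C i, GD (V ⊓ Q i) (z i) v g := by
  have hvC := h.VC i hv
  have hvv := h.Vsq v hv
  -- Baer–Suzuki
  obtain ⟨g, hgC, hg1, hgo, hgv⟩ : ∃ g ∈ C i, g ≠ 1 ∧ Odd (orderOf g) ∧ v * g * v⁻¹ = g⁻¹ := by
    have h1 : ¬ IsPGroup 2 (Subgroup.normalClosure {(⟨v, hvC⟩ : C i)} : Subgroup (C i)) := by
      intro hp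
      apply hvQ
      rw [h.Qo2 i]
      have h2 : (Subgroup.normalClosure {(⟨v, hvC⟩ : C i)}).map (C i).subtype ≤ o2 (C i) := by
        refine Cfsg.Agent.MinSimple.VModule.le_o2 ?_ (hp.map _) ?_
        · rintro _ ⟨x, -, rfl⟩; exact x.2
        · refine le_norm_of ?_
          rintro c hc _ ⟨x, hx, rfl⟩
          exact ⟨⟨c, hc⟩ * x * ⟨c, hc⟩⁻¹, Subgroup.Normal.conj_mem inferInstance x hx _, rfl⟩
      exact h2 ⟨⟨v, hvC⟩, Subgroup.subset_normalClosure rfl, rfl⟩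
    obtain ⟨g, hg1, hgo, hgv⟩ := Involutions.BaerSuzuki.exists_odd_inverted (⟨v, hvC⟩ : C i) (Subtype.ext hvv) h1
    refine ⟨g, g.2, fun hc => hg1 (Subtype.ext hc), ?_, congrArg Subtype.val hgv⟩
    rwa [Subgroup.orderOf_coe]
  set E : Subgroup G := V ⊓ Q i with hE
  have hmE : ∀ x, x ∈ E ↔ x ∈ V ∧ x ∈ Q i := fun x => mem_inf
  have hzE : z i ∈ E := (hmE _).2 ⟨h.zV i, h.z_mem_Q i⟩
  have hgz : g * z i = z i * g := h.Cz i g hgC
  have hvi : v⁻¹ = v := inv_eq_of_mul_eq_one_right hvv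
  have hEab : ∀ a ∈ E, ∀ b ∈ E, a * b = b * a := fun a ha b hb => h.Vab a ((hmE a).1 ha).1 b ((hmE b).1 hb).1
  have hEsq : ∀ a ∈ E, a * a = 1 := fun a ha => h.Vsq a ((hmE a).1 ha).1
  have hvE : ∀ e ∈ E, v * e = e * v := fun e he => h.Vab v hv e ((hmE e).1 he).1
  have hw : ∀ e ∈ E, g * e * g⁻¹ ∈ Qs i := fun e he =>
    norm_conj (h.nQs i) hgC (h.VQs i e ((hmE e).1 he).1 ((hmE e).1 he).2)
  have hQv : ∀ x ∈ Q i, v * x * v⁻¹ * x⁻¹ ∈ E := by
    intro x hx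
    refine (hmE _).2 ⟨?_, ?_⟩
    · have h1 : x * v⁻¹ * x⁻¹ ∈ V := h.conj_V (h.QP i hx) (V.inv_mem hv)
      have h2 := mul_mem hv h1
      rwa [show v * (x * v⁻¹ * x⁻¹) = v * x * v⁻¹ * x⁻¹ by group] at h2
    · have h1 := inv_mem (h.VQc i x hx v hv)
      rwa [show (x * v * x⁻¹ * v⁻¹)⁻¹ = v * x * v⁻¹ * x⁻¹ by group] at h1
  have hconjv : ∀ e ∈ E, v * (g * e * g⁻¹) * v⁻¹ = g⁻¹ * e * g := by
    intro e he
    have h1 : v * e * v⁻¹ = e := by rw [hvE e he]; group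
    have h2 : v * g⁻¹ * v⁻¹ = g := by
      have : v * g⁻¹ * v⁻¹ = (v * g * v⁻¹)⁻¹ := by group
      rw [this, hgv, inv_inv]
    calc v * (g * e * g⁻¹) * v⁻¹ = (v * g * v⁻¹) * (v * e * v⁻¹) * (v * g⁻¹ * v⁻¹) := by group
      _ = g⁻¹ * e * g := by rw [hgv, h1, h2]
  -- `v` commuting with `g e g⁻¹` gives `g e = e g`
  have hcg : ∀ e ∈ E, v * (g * e * g⁻¹) = (g * e * g⁻¹) * v → g * e = e * g := by
    intro e he hc
    have h1 : g⁻¹ * e * g = g * e * g⁻¹ := by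
      rw [← hconjv e he, hc]; group
    refine comm_of_odd hgo ?_
    calc g * g * e = g * (g * e * g⁻¹) * g := by group
      _ = g * (g⁻¹ * e * g) * g := by rw [h1]
      _ = e * (g * g) := by group
  have hcE : ∀ e ∈ E, (∀ e' ∈ E, e' * (g * e * g⁻¹) = (g * e * g⁻¹) * e') → g * e = e * g := by
    intro e he hc
    have h1 : g * e * g⁻¹ ∈ T := h.T_of_comm (hw e he) fun x hx hxQ => (hc x ((hmE x).2 ⟨hx, hxQ⟩)).symm
    exact hcg e he (h.TV _ h1 v hv).symm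
  -- `g⁻² = v (g v g⁻¹)`
  have hg2 : g⁻¹ * g⁻¹ = v * (g * v * g⁻¹) := by
    calc g⁻¹ * g⁻¹ = (v * g * v⁻¹) * g⁻¹ := by rw [hgv]
      _ = v * (g * v * g⁻¹) := by rw [hvi]; group
  have hgo' : Odd (orderOf g⁻¹) := by rw [orderOf_inv]; exact hgo
  have hgi : ∀ {x : G}, g * x = x * g → g⁻¹ * x = x * g⁻¹ := fun {x} hx => by
    rw [inv_mul_eq_iff_eq_mul, ← mul_assoc, hx, mul_inv_cancel_right]
  -- `C_E(g) = ⟨z⟩`
  have hCE : ∀ e ∈ E, g * e = e * g → e = 1 ∨ e = z i := by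
    intro e₀ he₀ hge₀
    by_contra hcon
    push Not at hcon
    obtain ⟨hn1, hn2⟩ := hcon
    -- `g` centralises `E`
    have hall : ∀ e ∈ E, g * e = e * g := by
      intro e he
      by_contra hne
      set w := g * e * g⁻¹ with hwd
      have hww : w * w = 1 := by
        calc w * w = g * (e * e) * g⁻¹ := by rw [hwd]; group
          _ = 1 := by rw [hEsq e he]; group
      obtain ⟨d, hd, hdw⟩ : ∃ d ∈ E, ¬ d * w = w * d := by
        by_contra hc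
        push Not at hc
        exact hne (hcE e he hc)
      have hcw : ∀ x, x ∈ E → g * x = x * g → x * w = w * x := by
        intro x hx hgx
        have h1 : g⁻¹ * x = x * g⁻¹ := hgi hgx
        calc x * w = (x * g) * e * g⁻¹ := by rw [hwd]; group
          _ = g * (x * e) * g⁻¹ := by rw [← hgx]; group
          _ = g * e * (x * g⁻¹) := by rw [hEab x hx e he]; group
          _ = w * x := by rw [← h1, hwd]; group
      have hzw := hcw _ hzE hgz
      have he₀w := hcw _ he₀ hge₀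
      set δ := v * w * v⁻¹ * w⁻¹ with hδd
      have hδE : δ ∈ E := hQv w (h.QsQ i (hw e he))
      have hvw : v * w * v⁻¹ = δ * w := by rw [hδd]; group
      have hδw : δ * w = w * δ := by
        refine comm_of_sq (hEsq δ hδE) hww ?_
        rw [← hvw]
        calc v * w * v⁻¹ * (v * w * v⁻¹) = v * (w * w) * v⁻¹ := by group
          _ = 1 := by rw [hww]; group
      -- `C_E(w)` has order 4
      have hδ4 : δ = 1 ∨ δ = z i ∨ δ = e₀ ∨ δ = e₀ * z i := by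
        by_contra hc
        push Not at hc
        obtain ⟨c1, c2, c3, c4⟩ := hc
        have hsub : ({1, z i, e₀, e₀ * z i, δ} : Set G) ⊆ ((E ⊓ centralizer {w} : Subgroup G) : Set G) := by
          have m1 : z i ∈ E ⊓ centralizer {w} := ⟨hzE, mem_centralizer_singleton_iff.2 hzw⟩
          have m2 : e₀ ∈ E ⊓ centralizer {w} := ⟨he₀, mem_centralizer_singleton_iff.2 he₀w⟩
          have m3 : δ ∈ E ⊓ centralizer {w} := ⟨hδE, mem_centralizer_singleton_iff.2 hδw⟩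
          rintro x (rfl | rfl | rfl | rfl | rfl)
          · exact one_mem _
          · exact m1
          · exact m2
          · exact mul_mem m2 m1
          · exact m3
        have h7 : e₀ * z i ≠ 1 := fun hc => hn2 (by
          have : e₀ = (z i)⁻¹ := eq_inv_of_mul_eq_one_left hc
          rw [this, h.zinv])
        have h8 : e₀ * z i ≠ z i := fun hc => hn1 (by
          have : e₀ * z i = 1 * z i := by rw [one_mul]; exact hc
          exact mul_right_cancel this)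
        have h9 : e₀ * z i ≠ e₀ := fun hc => h.ne_one i (by
          have : e₀ * z i = e₀ * 1 := by rw [mul_one]; exact hc
          exact mul_left_cancel this)
        have h10 : ({1, z i, e₀, e₀ * z i, δ} : Set G).ncard = 5 := by
          rw [Set.ncard_insert_of_notMem, Set.ncard_insert_of_notMem, Set.ncard_insert_of_notMem,
            Set.ncard_insert_of_notMem, Set.ncard_singleton]
          · rw [Set.mem_singleton_iff]; exact fun hc => c4 hc.symm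
          · rintro (hc | hc)
            · exact h9 hc.symm
            · rw [Set.mem_singleton_iff] at hc; exact c3 hc.symm
          · rintro (hc | hc | hc)
            · exact hn2 hc.symm
            · exact h8 hc.symm
            · rw [Set.mem_singleton_iff] at hc; exact c2 hc.symm
          · rintro (hc | hc | hc | hc)
            · exact h.ne_one i hc.symm
            · exact hn1 hc.symm
            · exact h7 hc.symm
            · rw [Set.mem_singleton_iff] at hc; exact c1 hc.symm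
        have h11 := Set.ncard_le_ncard hsub (Set.toFinite _)
        rw [h10, ← Nat.card_coe_set_eq] at h11
        have h12 : Nat.card ↥(E ⊓ centralizer {w}) ∣ Nat.card E := Subgroup.card_dvd_of_le inf_le_left
        rw [h.card_VQ8 i hv hvQ] at h12
        have h13 : Nat.card ↥(E ⊓ centralizer {w}) = 8 := by
          have h14 : Nat.card ↥(E ⊓ centralizer {w}) ≤ 8 := Nat.le_of_dvd (by norm_num) h12
          have h15 : 5 ≤ Nat.card ↥(E ⊓ centralizer {w}) := h11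
          interval_cases hn : Nat.card ↥(E ⊓ centralizer {w}) <;> first | rfl | (exfalso; revert h12; decide)
        have h14 : E ⊓ centralizer {w} = E :=
          Subgroup.eq_of_le_of_card_ge inf_le_left (by rw [h13, h.card_VQ8 i hv hvQ])
        apply hdw
        rw [← h14] at hd
        exact mem_centralizer_singleton_iff.1 (mem_inf.1 hd).2
      have hgδ : g * δ = δ * g := by
        rcases hδ4 with h1 | h1 | h1 | h1
        · rw [h1, mul_one, one_mul]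
        · rw [h1]; exact hgz
        · rw [h1]; exact hge₀
        · rw [h1, ← mul_assoc, hge₀, mul_assoc, hgz, mul_assoc]
      have hδ1 : δ = 1 := by
        refine eq_one_of_odd (g := g⁻¹) (w := w) hgo' (hgi hgδ) (hEsq δ hδE) ?_
        have h1 : (g * v * g⁻¹) * w * (g * v * g⁻¹)⁻¹ = w := by
          calc (g * v * g⁻¹) * w * (g * v * g⁻¹)⁻¹ = g * (v * e) * v⁻¹ * g⁻¹ := by rw [hwd]; group
            _ = w := by rw [hvE e he, hwd]; group
        calc g⁻¹ * g⁻¹ * w * (g⁻¹ * g⁻¹)⁻¹ = v * ((g * v * g⁻¹) * w * (g * v * g⁻¹)⁻¹) * v⁻¹ := by rw [hg2]; group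
          _ = δ * w := by rw [h1, hvw]
      rw [hδ1, one_mul] at hvw
      have hvw' : v * w = w * v := mul_inv_eq_iff_eq_mul.1 hvw
      exact hne (hcg e he hvw')
    -- so `g` centralises `Q i`
    have hgQ : g ∈ Q i := by
      refine h.char2 i g hgC fun x hx => ?_
      have hn := fun {y : G} (hy : y ∈ Q i) => norm_conj (h.nQ i) (inv_mem hgC) hy
      have h1 : g⁻¹ * x * g ∈ Q i := by
        have := hn hx
        rwa [inv_inv] at this
      set ε := v * (g⁻¹ * x * g) * v⁻¹ * (g⁻¹ * x * g)⁻¹ with hεd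
      have hε : ε ∈ E := hQv _ h1
      set ε' := v * x * v⁻¹ * x⁻¹ with hεd'
      have hε' : ε' ∈ E := hQv _ hx
      have h2 : (g * v * g⁻¹) * x * (g * v * g⁻¹)⁻¹ = ε * x := by
        calc (g * v * g⁻¹) * x * (g * v * g⁻¹)⁻¹ = g * (v * (g⁻¹ * x * g) * v⁻¹) * g⁻¹ := by group
          _ = g * (ε * (g⁻¹ * x * g)) * g⁻¹ := by rw [hεd]; group
          _ = (g * ε) * g⁻¹ * x := by group
          _ = ε * x := by rw [hall ε hε]; group
      have h3 : g⁻¹ * g⁻¹ * x * (g⁻¹ * g⁻¹)⁻¹ = (ε * ε') * x := by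
        calc g⁻¹ * g⁻¹ * x * (g⁻¹ * g⁻¹)⁻¹ = v * ((g * v * g⁻¹) * x * (g * v * g⁻¹)⁻¹) * v⁻¹ := by rw [hg2]; group
          _ = (v * ε) * x * v⁻¹ := by rw [h2]; group
          _ = ε * (v * x * v⁻¹) := by rw [hvE ε hε]; group
          _ = (ε * ε') * x := by rw [hεd']; group
      have hm := mul_mem hε hε'
      have h4 : ε * ε' = 1 :=
        eq_one_of_odd (g := g⁻¹) (w := x) hgo' (hgi (hall _ hm)) (hEsq _ hm) h3
      rw [h4, one_mul] at h3
      have h5 : g⁻¹ * g⁻¹ * x = x * (g⁻¹ * g⁻¹) := mul_inv_eq_iff_eq_mul.1 h3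
      have h6 := comm_of_odd hgo' h5
      rw [inv_mul_eq_iff_eq_mul] at h6
      calc g * x = (g * (x * g⁻¹)) * g := by group
        _ = x * g := by rw [← h6]
    -- odd order and 2-power order
    have hp : IsPGroup 2 (Q i) := by rw [h.Qo2 i]; exact Cfsg.Agent.MinSimple.VModule.o2_isPGroup _
    obtain ⟨k, hk⟩ := hp ⟨g, hgQ⟩
    have hk' : g ^ 2 ^ k = 1 := congrArg Subtype.val hk
    have h7 : orderOf g ∣ 2 ^ k := orderOf_dvd_of_pow_eq_one hk'
    obtain ⟨m, -, hm⟩ := (Nat.dvd_prime_pow Nat.prime_two).1 h7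
    rcases m with _ | m
    · rw [pow_zero] at hm
      exact hg1 (orderOf_eq_one_iff.1 hm)
    · rw [hm] at hgo
      rw [Nat.odd_iff, pow_succ] at hgo
      omega
  refine ⟨g, hgC, ?_⟩
  exact {
    z1 := h.ne_one i
    zE := hzE
    Eab := hEab
    Esq := hEsq
    cardE := h.card_VQ8 i hv hvQ
    vv := hvv
    vE := hvE
    vg := hgv
    odd := hgo
    gz := hgz
    av := fun e he => hQv _ (h.QsQ i (hw e he))
    com := fun e he e' he' =>
      h.com i e (h.VQs i e ((hmE e).1 he).1 ((hmE e).1 he).2) _ (h.QsQF i (hw e' he'))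
    ff := fun e he hc => hCE e he (hcE e he hc) }

end Cfsg.Agent.Omega.NOne.AG.Conf

end

section


/-!
# THEOREM D0ag (bb #15001): relabelling

`Lab.relabel π`; `Lab.exists_base i` : a labelling with `i = pt 0 1 2 3`.
-/

set_option autoImplicit false

namespace Cfsg.Agent.Omega.NOne.AG

open Subgroup Cfsg Cfsg.Agent.ZN

universe u

variable {G : Type u} [Group G] {ι : Type*}

theorem D4.map {a b c d : Fin 5} (h : D4 a b c d) (π : Equiv.Perm (Fin 5)) :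
    D4 (π a) (π b) (π c) (π d) := by
  obtain ⟨h1, h2, h3, h4, h5, h6⟩ := h
  refine ⟨?_, ?_, ?_, ?_, ?_, ?_⟩ <;> exact fun e => by simp_all

theorem D5.map {a b c d m : Fin 5} (h : D5 a b c d m) (π : Equiv.Perm (Fin 5)) :
    D5 (π a) (π b) (π c) (π d) (π m) := by
  obtain ⟨h0, h1, h2, h3, h4⟩ := h
  refine ⟨h0.map π, ?_, ?_, ?_, ?_⟩ <;> exact fun e => by simp_all

theorem swap_map (π : Equiv.Perm (Fin 5)) (a b x : Fin 5) :
    Equiv.swap (π a) (π b) (π x) = π (Equiv.swap a b x) := by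
  have := congrArg (fun f : Equiv.Perm (Fin 5) => f (π x)) (Equiv.swap_apply_apply π a b)
  simpa using this

theorem Ov.relabel {P : Subgroup G} {y : Fin 5 → Fin 5 → G} {σ σ' : Equiv.Perm (Fin 5)} {m : G}
    (h : Ov P y σ m) (π : Equiv.Perm (Fin 5)) (hs : ∀ x, σ (π x) = π (σ' x)) :
    Ov P (fun a b => y (π a) (π b)) σ' m :=
  ⟨h.1, fun a b hab => by
    show m * y (π a) (π b) * m⁻¹ = y (π (σ' a)) (π (σ' b))
    rw [← hs, ← hs]
    exact h.2 _ _ fun e => hab (π.injective e)⟩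

namespace Lab

variable {P V T : Subgroup G} {z : ι → G} {opp : ι → ι → Prop} {C Q QF Qs : ι → Subgroup G}
variable {h : Conf P V T z opp C Q QF Qs} {y : Fin 5 → Fin 5 → G}
  {pt : Fin 5 → Fin 5 → Fin 5 → Fin 5 → ι}

theorem relabel (L : Lab h y pt) (π : Equiv.Perm (Fin 5)) :
    Lab h (fun a b => y (π a) (π b)) (fun a b c d => pt (π a) (π b) (π c) (π d)) where
  symm := fun a b => L.symm _ _
  ne_one := fun a b hab => L.ne_one _ _ fun e => hab (π.injective e)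
  sq := fun a b hab => L.sq _ _ fun e => hab (π.injective e)
  comm := fun a b c d hab hcd => L.comm _ _ _ _ (fun e => hab (π.injective e))
    (fun e => hcd (π.injective e))
  inj := fun a b c d hab hcd e => by
    rcases L.inj _ _ _ _ (fun e => hab (π.injective e)) (fun e => hcd (π.injective e)) e with
      ⟨h1, h2⟩ | ⟨h1, h2⟩
    · exact Or.inl ⟨π.injective h1, π.injective h2⟩
    · exact Or.inr ⟨π.injective h1, π.injective h2⟩
  z_eq := fun a b c d hD => L.z_eq _ _ _ _ (hD.map π)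
  surj := fun i => by
    obtain ⟨a, b, c, d, hD, rfl⟩ := L.surj i
    refine ⟨π.symm a, π.symm b, π.symm c, π.symm d, hD.map π.symm, ?_⟩
    simp only [Equiv.apply_symm_apply]
  rel := fun a b c d m hD => L.rel _ _ _ _ _ (hD.map π)
  notV := fun a b hab => L.notV _ _ fun e => hab (π.injective e)
  mem_iff := fun a b hab x => L.mem_iff _ _ (fun e => hab (π.injective e)) x
  B_iff := fun a b c d hD x hx => L.B_iff _ _ _ _ (hD.map π) x hx
  yQ := fun a b c d m hD => L.yQ _ _ _ _ _ (hD.map π)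
  yQ' := fun a b c d m hD => L.yQ' _ _ _ _ _ (hD.map π)
  act := fun m hm => by
    obtain ⟨σ, hσ⟩ := L.act m hm
    exact ⟨π.symm * σ * π |> fun s => s, hσ.relabel π fun x => by simp⟩
  full := fun σ => by
    obtain ⟨m, hm⟩ := L.full (π * σ * π.symm)
    exact ⟨m, hm.relabel π fun x => by simp⟩
  Qs_ov := fun a b c d hD x hx => by
    rcases L.Qs_ov _ _ _ _ (hD.map π) x hx with h1 | h1 | h1 | h1
    · exact Or.inl (h1.relabel π fun x => rfl)
    · exact Or.inr (Or.inl (h1.relabel π fun x => swap_map π a b x))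
    · exact Or.inr (Or.inr (Or.inl (h1.relabel π fun x => swap_map π c d x)))
    · refine Or.inr (Or.inr (Or.inr (h1.relabel π fun x => ?_)))
      rw [Equiv.Perm.mul_apply, Equiv.Perm.mul_apply, swap_map, swap_map]
  Qs_ex := fun a b c d hD => by
    obtain ⟨x, hx, h1⟩ := L.Qs_ex _ _ _ _ (hD.map π)
    exact ⟨x, hx, h1.relabel π fun x => swap_map π a b x⟩
  opp_iff := fun a b c d m hD i => L.opp_iff _ _ _ _ _ (hD.map π) i
  pt1 := fun a b c d hD => L.pt1 _ _ _ _ (hD.map π)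
  pt2 := fun a b c d hD => L.pt2 _ _ _ _ (hD.map π)

theorem exists_perm : ∀ a b c d : Fin 5, D4 a b c d →
    ∃ π : Equiv.Perm (Fin 5), π 0 = a ∧ π 1 = b ∧ π 2 = c ∧ π 3 = d := by
  intro a b c d hD
  obtain ⟨m, hm⟩ : ∃ m, D5 a b c d m := by revert a b c d; decide
  have hinj : Function.Injective (![a, b, c, d, m] : Fin 5 → Fin 5) := by
    revert a b c d m
    decide
  refine ⟨Equiv.ofBijective _ (Finite.injective_iff_bijective.1 hinj), ?_, ?_, ?_, ?_⟩ <;> rfl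

/-- a labelling with `i = pt 0 1 2 3` -/
theorem exists_base (L : Lab h y pt) (i : ι) : ∃ π : Equiv.Perm (Fin 5),
    Lab h (fun a b => y (π a) (π b)) (fun a b c d => pt (π a) (π b) (π c) (π d)) ∧
    i = pt (π 0) (π 1) (π 2) (π 3) := by
  obtain ⟨a, b, c, d, hD, rfl⟩ := L.surj i
  obtain ⟨π, rfl, rfl, rfl, rfl⟩ := exists_perm a b c d hD
  exact ⟨π, L.relabel π, rfl⟩

end Lab

end Cfsg.Agent.Omega.NOne.AG

end

section


/-!
# THEOREM D0ag (bb #15001), (6): the group theory in `C`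

`SixD`: `Q = O₂(C)`, `[Q, Q] ≤ ⟨z⟩`, `E ≤ Q` elementary, `B ≤ Z(Q)`, `v` centralises `E` and `B`,
`C_Q(v mod z) ≤ E B`, `[Q, v] ≤ E`, `v` inverts `g`, `C_E(g e g⁻¹) = ⟨z, e⟩`, `g⁻¹ e g ≡ (g e g⁻¹) e` and
`C = ⟨M, g⟩`, where the elements of `M` normalise `E`, `V` and `⟨z, a⟩`, `a ∈ E - ⟨z⟩`.

Then `U = ⟨B, a, g a g⁻¹⟩` is normal in `C`, and for `s ∈ M` one of `s`, `v s` is in `Q`.
-/

set_option autoImplicit false

namespace Cfsg.Agent.Omega.NOne.AG

open Subgroup Cfsg Cfsg.Agent.ZN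

universe u

variable {G : Type u} [Group G]

/-- `x ≡ y` modulo `⟨z⟩` -/
def Eqz (z x y : G) : Prop := x = y ∨ x = z * y

namespace Eqz

variable {z x y t : G}

theorem rfl' : Eqz z x x := Or.inl rfl

theorem symm (hz : z * z = 1) (h : Eqz z x y) : Eqz z y x := by
  rcases h with h | h
  · exact Or.inl h.symm
  · right
    rw [h, ← mul_assoc, hz, one_mul]

theorem trans (hz : z * z = 1) (h : Eqz z x y) (h' : Eqz z y t) : Eqz z x t := by
  rcases h with h | h <;> rcases h' with h' | h'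
  · exact Or.inl (h.trans h')
  · exact Or.inr (h.trans h')
  · right; rw [h, h']
  · left; rw [h, h', ← mul_assoc, hz, one_mul]

theorem mul_right (a : G) (h : Eqz z x y) : Eqz z (x * a) (y * a) := by
  rcases h with h | h
  · left; rw [h]
  · right; rw [h, mul_assoc]

theorem mul_left {a : G} (ha : a * z = z * a) (h : Eqz z x y) : Eqz z (a * x) (a * y) := by
  rcases h with h | h
  · left; rw [h]
  · right; rw [h, ← mul_assoc, ha, mul_assoc]

theorem conj {a : G} (ha : a * z = z * a) (h : Eqz z x y) : Eqz z (a * x * a⁻¹) (a * y * a⁻¹) :=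
  (h.mul_left ha).mul_right _

theorem of_eq_left (h : Eqz z x y) (e : x = t) : Eqz z t y := e ▸ h

theorem of_eq_right (h : Eqz z x y) (e : y = t) : Eqz z x t := e ▸ h

end Eqz

/-- The data of (6). -/
structure SixD (C Q E B : Subgroup G) (M : Set G) (z v a g : G) : Prop where
  Qo2 : Q = o2 C
  char2 : ∀ c ∈ C, (∀ x ∈ Q, c * x = x * c) → c ∈ Q
  Cz : ∀ c ∈ C, c * z = z * c
  z2 : z * z = 1
  zB : z ∈ B
  BQ : B ≤ Q
  BZ : ∀ b ∈ B, ∀ x ∈ Q, b * x = x * b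
  Bv : ∀ b ∈ B, b * v = v * b
  B2 : ∀ b ∈ B, b * b = 1
  CB : ∀ c ∈ C, ∀ b ∈ B, Eqz z (c * b * c⁻¹) b
  QQ : ∀ x ∈ Q, ∀ y ∈ Q, Eqz z (x * y) (y * x)
  EQ : E ≤ Q
  E2 : ∀ e ∈ E, e * e = 1
  EE : ∀ e ∈ E, ∀ f ∈ E, e * f = f * e
  Ev : ∀ e ∈ E, e * v = v * e
  vC : v ∈ C
  gC : g ∈ C
  vg : v * g * v⁻¹ = g⁻¹
  /-- `C_E(g e g⁻¹) = ⟨z, e⟩` -/
  gd1 : ∀ e ∈ E, ∀ f ∈ E, f * (g * e * g⁻¹) = g * e * g⁻¹ * f → Eqz z e 1 ∨ Eqz z f 1 ∨ Eqz z f e
  gd2 : ∀ e ∈ E, Eqz z (g⁻¹ * e * g) (g * e * g⁻¹ * e)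
  QvE : ∀ x ∈ Q, x * v * x⁻¹ * v⁻¹ ∈ E
  TQ : ∀ x ∈ Q, Eqz z (x * v) (v * x) → ∃ e ∈ E, ∃ b ∈ B, x = e * b
  MC : ∀ m ∈ M, m ∈ C
  Mv : ∀ m ∈ M, m * v * m⁻¹ * v⁻¹ ∈ E
  ME : ∀ m ∈ M, ∀ e ∈ E, m * e * m⁻¹ ∈ E
  Ma : ∀ m ∈ M, Eqz z (m * a * m⁻¹) a
  aE : a ∈ E
  a1 : ¬ Eqz z a 1
  gen : C ≤ closure (M ∪ {g})

namespace SixD

variable {C Q E B : Subgroup G} {M : Set G} {z v a g : G} (h : SixD C Q E B M z v a g)
include h

theorem QC : Q ≤ C := by rw [h.Qo2]; exact o2_le _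

theorem nQ : C ≤ normalizer (Q : Set G) := by rw [h.Qo2]; exact le_normalizer_o2 _

theorem Qz {x : G} (hx : x ∈ Q) : x * z = z * x := h.Cz x (h.QC hx)

theorem vz : v * z = z * v := h.Cz v h.vC

theorem aQ : a ∈ Q := h.EQ h.aE

theorem wQ : g * a * g⁻¹ ∈ Q := norm_conj h.nQ h.gC h.aQ

theorem w2 : (g * a * g⁻¹) * (g * a * g⁻¹) = 1 := by
  have e : (g * a * g⁻¹) * (g * a * g⁻¹) = g * (a * a) * g⁻¹ := by group
  rw [e, h.E2 a h.aE]; group

/-- `v (g e g⁻¹) v⁻¹ = g⁻¹ e g` -/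
theorem vw {e : G} (he : e ∈ E) : v * (g * e * g⁻¹) * v⁻¹ = g⁻¹ * e * g := by
  have h1 : v * e * v⁻¹ = e := by rw [← h.Ev e he]; group
  have h2 : v * g⁻¹ * v⁻¹ = g := by
    calc v * g⁻¹ * v⁻¹ = (v * g * v⁻¹)⁻¹ := by group
      _ = g := by rw [h.vg, inv_inv]
  calc v * (g * e * g⁻¹) * v⁻¹ = (v * g * v⁻¹) * (v * e * v⁻¹) * (v * g⁻¹ * v⁻¹) := by group
    _ = g⁻¹ * e * g := by rw [h.vg, h1, h2]

/-- `v w v⁻¹ ≡ w e`, `w = g e g⁻¹` -/
theorem vwe {e : G} (he : e ∈ E) : Eqz z (v * (g * e * g⁻¹) * v⁻¹) (g * e * g⁻¹ * e) := by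
  rw [h.vw he]; exact h.gd2 e he

/-- `e` commutes with `g e g⁻¹` -/
theorem ew {e : G} (he : e ∈ E) : e * (g * e * g⁻¹) = g * e * g⁻¹ * e := by
  have h0 : g⁻¹ * e * g * (g⁻¹ * e * g) = 1 := by
    calc g⁻¹ * e * g * (g⁻¹ * e * g) = g⁻¹ * (e * e) * g := by group
      _ = 1 := by rw [h.E2 e he]; group
  set w := g * e * g⁻¹ with hw
  have hwQ : w ∈ Q := norm_conj h.nQ h.gC (h.EQ he)
  have hw2 : w * w = 1 := by
    calc w * w = g * (e * e) * g⁻¹ := by rw [hw]; group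
      _ = 1 := by rw [h.E2 e he]; group
  have h1 : w * e * (w * e) = 1 := by
    rcases h.gd2 e he with h2 | h2
    · rw [← h2]; exact h0
    · rw [h2] at h0
      have h3 : z * (w * e) * (z * (w * e)) = w * e * (w * e) := by
        have h4 : w * e * z = z * (w * e) := h.Qz (mul_mem hwQ (h.EQ he))
        calc z * (w * e) * (z * (w * e)) = z * (w * e * z) * (w * e) := by group
          _ = z * z * (w * e) * (w * e) := by rw [h4]; group
          _ = w * e * (w * e) := by rw [h.z2, one_mul]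
      rwa [h3] at h0
  have hwi : w⁻¹ = w := inv_eq_of_mul_eq_one_left hw2
  have hei : e⁻¹ = e := inv_eq_of_mul_eq_one_left (h.E2 e he)
  have h5 : (w * e)⁻¹ = w * e := inv_eq_of_mul_eq_one_left h1
  rw [mul_inv_rev, hwi, hei] at h5
  exact h5

/-- `U = ⟨B, a, w⟩` -/
def U (_h : SixD C Q E B M z v a g) : Subgroup G := closure ((B : Set G) ∪ {a, g * a * g⁻¹})

theorem BU : B ≤ h.U := fun _ hb => subset_closure (Or.inl hb)

theorem aU : a ∈ h.U := subset_closure (Or.inr (Or.inl rfl))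

theorem wU : g * a * g⁻¹ ∈ h.U := subset_closure (Or.inr (Or.inr rfl))

theorem zU : z ∈ h.U := h.BU h.zB

theorem UQ : h.U ≤ Q := by
  refine (closure_le _).2 ?_
  rintro x (hx | hx | hx)
  · exact h.BQ hx
  · rw [hx]; exact h.aQ
  · rw [Set.mem_singleton_iff.1 hx]; exact h.wQ

/-- `e₂ ∈ {1, z, a, za}` is in `U` -/
theorem mem_U_of {x y : G} (hy : y ∈ h.U) (hxy : Eqz z x y) : x ∈ h.U := by
  rcases hxy with h1 | h1
  · rw [h1]; exact hy
  · rw [h1]; exact mul_mem h.zU hy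

/-- an element of `E` commuting with `w` is in `⟨z, a⟩` -/
theorem E_w {f : G} (hf : f ∈ E) (hc : f * (g * a * g⁻¹) = g * a * g⁻¹ * f) :
    Eqz z f 1 ∨ Eqz z f a := by
  rcases h.gd1 a h.aE f hf hc with h1 | h1 | h1
  · exact absurd h1 h.a1
  · exact Or.inl h1
  · exact Or.inr h1

theorem E_w_U {f : G} (hf : f ∈ E) (hc : f * (g * a * g⁻¹) = g * a * g⁻¹ * f) : f ∈ h.U := by
  rcases h.E_w hf hc with h1 | h1
  · exact h.mem_U_of (one_mem _) h1
  · exact h.mem_U_of h.aU h1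

/-- conjugates of `w` by `M`: `m w m⁻¹ = e b w`, `e ∈ ⟨z, a⟩` -/
theorem M_w {m : G} (hm : m ∈ M) : ∃ e ∈ E, ∃ b ∈ B, (Eqz z e 1 ∨ Eqz z e a) ∧
    m * (g * a * g⁻¹) * m⁻¹ = e * b * (g * a * g⁻¹) := by
  have hz := h.z2
  have hmC := h.MC m hm
  have hmz := h.Cz m hmC
  set w := g * a * g⁻¹ with hw
  have hwQ : w ∈ Q := h.wQ
  have hw2 : w * w = 1 := h.w2
  set w' := m * w * m⁻¹ with hw'
  have hw'Q : w' ∈ Q := norm_conj h.nQ hmC hwQ
  have hw'2 : w' * w' = 1 := by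
    calc w' * w' = m * (w * w) * m⁻¹ := by rw [hw']; group
      _ = 1 := by rw [hw2]; group
  set e₀ := m * v * m⁻¹ * v⁻¹ with he₀
  have he₀E : e₀ ∈ E := h.Mv m hm
  have h1 : Eqz z (v * w * v⁻¹) (w * a) := h.vwe h.aE
  -- `v' w' v'⁻¹ ≡ w' a`
  have h2 : Eqz z ((e₀ * v) * w' * (e₀ * v)⁻¹) (w' * a) := by
    have h3 := h1.conj hmz
    have e1 : m * (v * w * v⁻¹) * m⁻¹ = (e₀ * v) * w' * (e₀ * v)⁻¹ := by
      rw [he₀, hw']; group
    have e2 : m * (w * a) * m⁻¹ = w' * (m * a * m⁻¹) := by rw [hw']; group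
    rw [e1, e2] at h3
    exact h3.trans hz ((h.Ma m hm).mul_left (h.Qz hw'Q))
  -- `v w' v⁻¹ ≡ w' a`
  have he₀z : e₀ * z = z * e₀ := h.Qz (h.EQ he₀E)
  have he₀z' : e₀⁻¹ * z = z * e₀⁻¹ := h.Qz (inv_mem (h.EQ he₀E))
  have h4 : Eqz z (v * w' * v⁻¹) (w' * a) := by
    have h5 := h2.conj he₀z'
    have e1 : e₀⁻¹ * (e₀ * v * w' * (e₀ * v)⁻¹) * e₀⁻¹⁻¹ = v * w' * v⁻¹ := by group
    rw [e1] at h5
    refine h5.trans hz ?_
    have h6 : Eqz z (e₀⁻¹ * w') (w' * e₀⁻¹) := h.QQ _ (inv_mem (h.EQ he₀E)) _ hw'Q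
    have e2 : w' * e₀⁻¹ * (a * e₀⁻¹⁻¹) = w' * a := by
      have h7 := h.EE a h.aE e₀ he₀E
      calc w' * e₀⁻¹ * (a * e₀⁻¹⁻¹) = w' * e₀⁻¹ * (a * e₀) := by group
        _ = w' * e₀⁻¹ * (e₀ * a) := by rw [h7]
        _ = w' * a := by group
    have h8 := h6.mul_right (a * e₀⁻¹⁻¹)
    rw [e2] at h8
    exact h8.of_eq_left (by group)
  -- `x = w' w⁻¹` commutes with `v` mod `z`
  set x := w' * w⁻¹ with hx
  have hxQ : x ∈ Q := mul_mem hw'Q (inv_mem hwQ)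
  have h9 : Eqz z (x * v) (v * x) := by
    -- `v w⁻¹ v⁻¹ ≡ a⁻¹ w⁻¹`
    have h10 : Eqz z (v * w' * v⁻¹ * (v * w * v⁻¹)⁻¹) (w' * a * (v * w * v⁻¹)⁻¹) :=
      h4.mul_right _
    have h11 : Eqz z (w' * a * (v * w * v⁻¹)⁻¹) (w' * w⁻¹) := by
      rcases h1 with h12 | h12
      · left; rw [h12]; group
      · right
        rw [h12]
        have h13 : w' * w⁻¹ * z = z * (w' * w⁻¹) := h.Qz hxQ
        have hzi : z⁻¹ = z := inv_eq_of_mul_eq_one_left hz
        calc w' * a * (z * (w * a))⁻¹ = w' * w⁻¹ * z⁻¹ := by group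
          _ = w' * w⁻¹ * z := by rw [hzi]
          _ = z * (w' * w⁻¹) := h13
    have h14 := h10.trans hz h11
    have e1 : v * w' * v⁻¹ * (v * w * v⁻¹)⁻¹ = v * x * v⁻¹ := by rw [hx]; group
    rw [e1] at h14
    have h15 := h14.mul_right v
    have e2 : v * x * v⁻¹ * v = v * x := by group
    rw [e2] at h15
    exact h15.symm hz
  obtain ⟨e, he, b, hb, hxe⟩ := h.TQ x hxQ h9
  have h16 : w' = e * b * w := by
    rw [← hxe, hx]; group
  refine ⟨e, he, b, hb, ?_, h16⟩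
  -- `w'` is an involution
  refine h.E_w he ?_
  change e * w = w * e
  have hbw := h.BZ b hb w hwQ
  have hbe := h.BZ b hb e (h.EQ he)
  have h17 : e * w * (e * w) = 1 := by
    have hbp := h.BZ b hb (e * w) (mul_mem (h.EQ he) hwQ)
    have h16' : w' = b * (e * w) := by rw [h16, ← hbe, mul_assoc]
    rw [h16'] at hw'2
    calc e * w * (e * w) = (b * b) * (e * w * (e * w)) := by rw [h.B2 b hb, one_mul]
      _ = b * (b * (e * w)) * (e * w) := by group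
      _ = b * ((e * w) * b) * (e * w) := by rw [hbp]
      _ = b * (e * w) * (b * (e * w)) := by group
      _ = 1 := hw'2
  have h18 : (e * w)⁻¹ = e * w := inv_eq_of_mul_eq_one_left h17
  have hwi : w⁻¹ = w := inv_eq_of_mul_eq_one_left hw2
  have hei : e⁻¹ = e := inv_eq_of_mul_eq_one_left (h.E2 e he)
  rw [mul_inv_rev, hwi, hei] at h18
  exact h18.symm

theorem conj_U {m : G} (hmC : m ∈ C) (ha : m * a * m⁻¹ ∈ h.U) (hw : m * (g * a * g⁻¹) * m⁻¹ ∈ h.U)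
    {x : G} (hx : x ∈ h.U) : m * x * m⁻¹ ∈ h.U := by
  have h1 : h.U ≤ h.U.comap (MulAut.conj m).toMonoidHom := by
    conv_lhs => rw [U]
    refine (closure_le _).2 ?_
    rintro y (hy | hy | hy)
    · exact h.mem_U_of (h.BU hy) (h.CB m hmC y hy)
    · rw [hy]; exact ha
    · rw [Set.mem_singleton_iff.1 hy]; exact hw
  exact h1 hx

/-- `U` is normal in `C` -/
theorem nU [Finite G] : C ≤ normalizer (h.U : Set G) := by
  refine h.gen.trans ((closure_le _).2 ?_)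
  rintro m (hm | hm)
  · refine mem_normalizer_fintype fun x hx => h.conj_U (h.MC m hm)
      (h.mem_U_of h.aU (h.Ma m hm)) ?_ hx
    obtain ⟨e, he, b, hb, h1, h2⟩ := h.M_w hm
    rw [h2]
    refine mul_mem (mul_mem ?_ (h.BU hb)) h.wU
    rcases h1 with h1 | h1
    · exact h.mem_U_of (one_mem _) h1
    · exact h.mem_U_of h.aU h1
  · rw [Set.mem_singleton_iff] at hm
    rw [hm]
    refine mem_normalizer_fintype fun x hx => h.conj_U h.gC h.wU ?_ hx
    -- `g w g⁻¹ ≡ a w⁻¹`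
    have h1 : Eqz z (g * (g⁻¹ * a * g) * g⁻¹) (g * (g * a * g⁻¹ * a) * g⁻¹) :=
      (h.gd2 a h.aE).conj (h.Cz g h.gC)
    have e1 : g * (g⁻¹ * a * g) * g⁻¹ = a := by group
    have e2 : g * (g * a * g⁻¹ * a) * g⁻¹ = g * (g * a * g⁻¹) * g⁻¹ * (g * a * g⁻¹) := by group
    rw [e1, e2] at h1
    have h2 := h1.mul_right (g * a * g⁻¹)⁻¹
    rw [mul_inv_cancel_right] at h2
    exact h.mem_U_of (mul_mem h.aU (inv_mem h.wU)) (h2.symm h.z2)

/-- an element of `Q` commuting with `a` and `w` is in `U` -/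
theorem cent_U {t : G} (ht : t ∈ Q) (hta : t * a = a * t)
    (htw : t * (g * a * g⁻¹) = g * a * g⁻¹ * t) : t ∈ h.U := by
  have hz := h.z2
  set e := t * v * t⁻¹ * v⁻¹ with he
  have heE : e ∈ E := h.QvE t ht
  set w' := g * e * g⁻¹ with hw'
  have hw'Q : w' ∈ Q := norm_conj h.nQ h.gC (h.EQ heE)
  have h1 : Eqz z (v * w' * v⁻¹) (w' * e) := h.vwe heE
  have hew : e * w' = w' * e := h.ew heE
  have hee : e * e = 1 := h.E2 e heE
  -- `w'⁻¹ v ≡ e v w'⁻¹`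
  have h2 : Eqz z (v * w') (w' * e * v) := by
    have h3 := h1.mul_right v
    rwa [inv_mul_cancel_right] at h3
  -- `t v = e v t`
  have h4 : t * v = e * (v * t) := by rw [he]; group
  have h5 : Eqz z (t * w'⁻¹ * v) (v * (t * w'⁻¹)) := by
    -- `w'⁻¹ v ≡ e v w'⁻¹`
    have hwz : w'⁻¹ * z = z * w'⁻¹ := h.Qz (inv_mem hw'Q)
    have h6 : Eqz z (w'⁻¹ * v) (e * v * w'⁻¹) := by
      have h7 := (h2.mul_left hwz).mul_right w'⁻¹
      have e1 : w'⁻¹ * (v * w') * w'⁻¹ = w'⁻¹ * v := by group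
      have e2 : w'⁻¹ * (w' * e * v) * w'⁻¹ = e * v * w'⁻¹ := by group
      rwa [e1, e2] at h7
    have h7 : Eqz z (t * w'⁻¹ * v) (t * e * v * w'⁻¹) := by
      have h8 := h6.mul_left (h.Qz ht)
      have e1 : t * (w'⁻¹ * v) = t * w'⁻¹ * v := by group
      have e2 : t * (e * v * w'⁻¹) = t * e * v * w'⁻¹ := by group
      rwa [e1, e2] at h8
    have h9 : Eqz z (t * e * v * w'⁻¹) (v * (t * w'⁻¹)) := by
      have h10 : Eqz z (t * e) (e * t) := h.QQ t ht e (h.EQ heE)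
      have h11 := h10.mul_right (v * w'⁻¹)
      have e1 : t * e * (v * w'⁻¹) = t * e * v * w'⁻¹ := by group
      have e2 : e * t * (v * w'⁻¹) = v * (t * w'⁻¹) := by
        calc e * t * (v * w'⁻¹) = e * (t * v) * w'⁻¹ := by group
          _ = (e * e) * (v * t) * w'⁻¹ := by rw [h4]; group
          _ = v * (t * w'⁻¹) := by rw [hee]; group
      rwa [e1, e2] at h11
    exact h7.trans hz h9
  obtain ⟨f, hf, b, hb, hfb⟩ := h.TQ _ (mul_mem ht (inv_mem hw'Q)) h5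
  have h6 : t = f * b * w' := by rw [← hfb]; group
  -- `w'` commutes with `a`
  have hbw' := h.BZ b hb
  have hfa := h.EE f hf a h.aE
  have h7 : a * w' = w' * a := by
    rw [h6] at hta
    have e1 : f * b * w' * a = f * b * (w' * a) := by group
    have e2 : a * (f * b * w') = f * b * (a * w') := by
      calc a * (f * b * w') = (a * f) * (b * w') := by group
        _ = f * (a * b) * w' := by rw [← hfa]; group
        _ = f * b * (a * w') := by rw [← h.BZ b hb a h.aQ]; group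
    rw [e1, e2] at hta
    exact (mul_left_cancel hta).symm
  have h8 : Eqz z e 1 ∨ Eqz z e a := by
    rcases h.gd1 e heE a h.aE h7 with h9 | h9 | h9
    · exact Or.inl h9
    · exact absurd h9 h.a1
    · exact Or.inr (h9.symm hz)
  have hgz := h.Cz g h.gC
  -- `w' ∈ ⟨z, w⟩`
  have h9 : Eqz z w' 1 ∨ Eqz z w' (g * a * g⁻¹) := by
    rcases h8 with h10 | h10
    · left
      have h11 := h10.conj hgz
      rwa [mul_one, mul_inv_cancel] at h11
    · exact Or.inr (h10.conj hgz)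
  have hw'U : w' ∈ h.U := by
    rcases h9 with h10 | h10
    · exact h.mem_U_of (one_mem _) h10
    · exact h.mem_U_of h.wU h10
  have hww : w' * (g * a * g⁻¹) = g * a * g⁻¹ * w' := by
    have hwz := h.Qz h.wQ
    rcases h9 with (h10 | h10) | (h10 | h10)
    · rw [h10, one_mul, mul_one]
    · rw [h10, mul_one]; exact hwz.symm
    · rw [h10]
    · rw [h10, ← mul_assoc (g * a * g⁻¹) z, hwz]
  have h12 : f * (g * a * g⁻¹) = g * a * g⁻¹ * f := by
    rw [h6] at htw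
    set w := g * a * g⁻¹ with hw
    have hbw := h.BZ b hb w h.wQ
    have e1 : f * b * w' * w = f * w * (b * w') := by
      calc f * b * w' * w = f * b * (w' * w) := by group
        _ = f * (b * w) * w' := by rw [hww]; group
        _ = f * w * (b * w') := by rw [hbw]; group
    have e2 : w * (f * b * w') = w * f * (b * w') := by group
    rw [e1, e2] at htw
    exact mul_right_cancel htw
  rw [h6]
  exact mul_mem (mul_mem (h.E_w_U hf h12) (h.BU hb)) hw'U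

/-- **(6)**: an element of `C` centralising `a` mod `z` and `w` mod `B` is in `Q` -/
theorem mem_Q [Finite G] {s : G} (hs : s ∈ C) (hsa : Eqz z (s * a * s⁻¹) a)
    (hsw : s * (g * a * g⁻¹) * s⁻¹ * (g * a * g⁻¹)⁻¹ ∈ B) : s ∈ Q := by
  have hz := h.z2
  have hzi : z⁻¹ = z := inv_eq_of_mul_eq_one_left hz
  have h0 := h.Qo2
  -- `s` centralises `U / B`
  have hUB : ∀ x ∈ h.U, s * x * s⁻¹ * x⁻¹ ∈ B := by
    let W : Subgroup G :=
      { carrier := {x | x ∈ Q ∧ s * x * s⁻¹ * x⁻¹ ∈ B}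
        one_mem' := ⟨one_mem _, by simp⟩
        mul_mem' := by
          rintro x y ⟨hx0, hx⟩ ⟨hy0, hy⟩
          refine ⟨mul_mem hx0 hy0, ?_⟩
          have h1 := h.BZ _ hy x hx0
          have e : s * (x * y) * s⁻¹ * (x * y)⁻¹ =
              s * x * s⁻¹ * ((s * y * s⁻¹ * y⁻¹) * x⁻¹) := by group
          rw [e, h.BZ _ hy _ (inv_mem hx0)]
          have e2 : s * x * s⁻¹ * (x⁻¹ * (s * y * s⁻¹ * y⁻¹)) =
              (s * x * s⁻¹ * x⁻¹) * (s * y * s⁻¹ * y⁻¹) := by group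
          rw [e2]
          exact mul_mem hx hy
        inv_mem' := by
          rintro x ⟨hx0, hx⟩
          refine ⟨inv_mem hx0, ?_⟩
          have e : s * x⁻¹ * s⁻¹ * x⁻¹⁻¹ = x⁻¹ * ((s * x * s⁻¹ * x⁻¹)⁻¹ * x) := by group
          rw [e, h.BZ _ (inv_mem hx) _ hx0]
          have e2 : x⁻¹ * (x * (s * x * s⁻¹ * x⁻¹)⁻¹) = (s * x * s⁻¹ * x⁻¹)⁻¹ := by group
          rw [e2]
          exact inv_mem hx }
    have hW : h.U ≤ W := by
      conv_lhs => rw [U]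
      refine (closure_le _).2 ?_
      rintro x (hx | hx | hx)
      · refine ⟨h.BQ hx, mul_mem ?_ (inv_mem hx)⟩
        rcases h.CB s hs x hx with h1 | h1
        · rw [h1]; exact hx
        · rw [h1]; exact mul_mem h.zB hx
      · rw [hx]
        refine ⟨h.aQ, ?_⟩
        rcases hsa with h1 | h1
        · rw [h1, mul_inv_cancel]; exact one_mem _
        · rw [h1, mul_inv_cancel_right]; exact h.zB
      · rw [Set.mem_singleton_iff.1 hx]
        exact ⟨h.wQ, hsw⟩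
    exact fun x hx => (hW hx).2
  -- `s` centralises `Q / U`
  have hQU : ∀ x ∈ Q, s * x * s⁻¹ * x⁻¹ ∈ h.U := by
    intro x hx
    set t := s * x * s⁻¹ * x⁻¹ with ht
    have hsx : s * x * s⁻¹ ∈ Q := norm_conj h.nQ hs hx
    have htQ : t ∈ Q := mul_mem hsx (inv_mem hx)
    have hsz := h.Cz s hs
    have key : ∀ u ∈ h.U, t * u = u * t := by
      intro u hu
      have huQ := h.UQ hu
      have hb := hUB u hu
      set b := s * u * s⁻¹ * u⁻¹ with hb'
      have e1 : s * u * s⁻¹ = b * u := by rw [hb']; group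
      have e2 : s * x * s⁻¹ = t * x := by rw [ht]; group
      have hbt := h.BZ b hb t htQ
      have hbx := h.BZ b hb x hx
      have htz := h.Qz htQ
      -- conjugate the commutation of `x`, `u`
      have e3 : s * (x * u) * s⁻¹ = b * (t * (x * u)) := by
        calc s * (x * u) * s⁻¹ = (s * x * s⁻¹) * (s * u * s⁻¹) := by group
          _ = t * (x * b) * u := by rw [e1, e2]; group
          _ = (t * b) * x * u := by rw [← hbx]; group
          _ = b * (t * (x * u)) := by rw [← hbt]; group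
      have e4 : s * (u * x) * s⁻¹ = b * (u * t * x) := by
        calc s * (u * x) * s⁻¹ = (s * u * s⁻¹) * (s * x * s⁻¹) := by group
          _ = b * (u * t * x) := by rw [e1, e2]; group
      rcases h.QQ x hx u huQ with h1 | h1
      · rw [h1, e4] at e3
        have h2 := mul_left_cancel e3
        have h3 : u * t * x = t * u * x := by rw [h2]; group
        exact (mul_right_cancel h3).symm
      · have e5 : s * (x * u) * s⁻¹ = z * (s * (u * x) * s⁻¹) := by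
          rw [h1]
          calc s * (z * (u * x)) * s⁻¹ = (s * z) * (u * x) * s⁻¹ := by group
            _ = z * (s * (u * x) * s⁻¹) := by rw [hsz]; group
        rw [e5, e4, h1] at e3
        have e6 : z * (b * (u * t * x)) = b * (z * (u * t * x)) := by
          rw [← mul_assoc, ← h.Qz (h.BQ hb), mul_assoc]
        rw [e6] at e3
        have h2 := mul_left_cancel e3
        have e7 : t * (z * (u * x)) = z * (t * u * x) := by
          rw [← mul_assoc, htz]; group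
        rw [e7] at h2
        have h3 := mul_left_cancel h2
        exact (mul_right_cancel h3).symm
    exact h.cent_U htQ (key a h.aU) (key _ h.wU)
  -- (K)
  have hzn : ∀ c ∈ C, ∀ k ∈ zpowers z, c * k * c⁻¹ = k := by
    rintro c hc _ ⟨n, rfl⟩
    have h1 : Commute c z := h.Cz c hc
    change c * z ^ n * c⁻¹ = z ^ n
    rw [(h1.zpow_right n).eq]; group
  let N : ℕ → Subgroup G := fun k => match k with
    | 0 => Q
    | 1 => h.U
    | 2 => B
    | 3 => zpowers z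
    | _ + 4 => ⊥
  rw [h.Qo2]
  refine chain_mem (C := C) (by rw [← h.Qo2]; exact h.char2) 4 N h.Qo2 rfl ?_ ?_ hs ?_
  · intro k
    match k with
    | 0 => exact h.nQ
    | 1 => exact h.nU
    | 2 =>
      refine le_norm_of fun c hc x hx => ?_
      change c * x * c⁻¹ ∈ B
      rcases h.CB c hc x hx with h1 | h1
      · rw [h1]; exact hx
      · rw [h1]; exact mul_mem h.zB hx
    | 3 =>
      refine le_norm_of fun c hc x hx => ?_
      change c * x * c⁻¹ ∈ zpowers z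
      rw [hzn c hc x hx]; exact hx
    | _ + 4 =>
      refine le_norm_of fun c hc x hx => ?_
      change c * x * c⁻¹ ∈ (⊥ : Subgroup G)
      rw [mem_bot.1 hx]; simp
  · intro k
    match k with
    | 0 => exact h.UQ
    | 1 => exact h.BU
    | 2 => exact (zpowers_le).2 h.zB
    | 3 => exact bot_le
    | _ + 4 => exact le_rfl
  · intro k
    match k with
    | 0 => exact hQU
    | 1 => exact hUB
    | 2 =>
      intro x hx
      change s * x * s⁻¹ * x⁻¹ ∈ zpowers z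
      rcases h.CB s hs x hx with h1 | h1
      · rw [h1, mul_inv_cancel]; exact one_mem _
      · rw [h1, mul_inv_cancel_right]; exact mem_zpowers z
    | 3 =>
      intro x hx
      change s * x * s⁻¹ * x⁻¹ ∈ (⊥ : Subgroup G)
      rw [hzn s hs x hx, mul_inv_cancel]; exact one_mem _
    | _ + 4 =>
      intro x hx
      change s * x * s⁻¹ * x⁻¹ ∈ (⊥ : Subgroup G)
      rw [mem_bot.1 hx]; simp

/-- **(6)**: the elements of `M` centralise `E / ⟨z⟩`. -/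
theorem main [Finite G] {s e : G} (hs : s ∈ M) (he : e ∈ E) : Eqz z (s * e * s⁻¹) e := by
  have hz := h.z2
  have hsC := h.MC s hs
  obtain ⟨f, hf, b, hb, h1, h2⟩ := h.M_w hs
  set w := g * a * g⁻¹ with hw
  have hwQ : w ∈ Q := h.wQ
  have hQE : ∀ {x : G}, x ∈ Q → Eqz z (x * e * x⁻¹) e := by
    intro x hx
    have h3 := (h.QQ x hx e (h.EQ he)).mul_right x⁻¹
    rwa [mul_inv_cancel_right] at h3
  rcases h1 with h1 | h1
  · refine hQE (h.mem_Q hsC (h.Ma s hs) ?_)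
    change s * w * s⁻¹ * w⁻¹ ∈ B
    rw [h2, mul_inv_cancel_right]
    refine mul_mem ?_ hb
    rcases h1 with h1 | h1
    · rw [h1]; exact one_mem _
    · rw [h1, mul_one]; exact h.zB
  · have h3 : v * s ∈ Q := by
      refine h.mem_Q (mul_mem h.vC hsC) ?_ ?_
      · have h4 := (h.Ma s hs).conj h.vz
        have e1 : v * (s * a * s⁻¹) * v⁻¹ = v * s * a * (v * s)⁻¹ := by group
        have e2 : v * a * v⁻¹ = a := by rw [← h.Ev a h.aE]; group
        rwa [e1, e2] at h4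
      · change v * s * w * (v * s)⁻¹ * w⁻¹ ∈ B
        have e1 : v * s * w * (v * s)⁻¹ * w⁻¹ = v * (s * w * s⁻¹) * v⁻¹ * w⁻¹ := by group
        rw [e1, h2]
        have e2 : v * (f * b * w) * v⁻¹ * w⁻¹ = f * b * (v * w * v⁻¹) * w⁻¹ := by
          calc v * (f * b * w) * v⁻¹ * w⁻¹ = (v * f) * b * w * v⁻¹ * w⁻¹ := by group
            _ = f * (v * b) * w * v⁻¹ * w⁻¹ := by rw [← h.Ev f hf]; group
            _ = f * b * (v * w * v⁻¹) * w⁻¹ := by rw [← h.Bv b hb]; group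
        rw [e2]
        have hfz : f * b * z = z * (f * b) := h.Qz (mul_mem (h.EQ hf) (h.BQ hb))
        have haw : a * w = w * a := h.ew h.aE
        have hba := h.BZ b hb a h.aQ
        have h4 : Eqz z (f * b * (v * w * v⁻¹) * w⁻¹) (f * b * (w * a) * w⁻¹) :=
          ((h.vwe h.aE).mul_left hfz).mul_right _
        have e3 : f * b * (w * a) * w⁻¹ = f * a * b := by
          calc f * b * (w * a) * w⁻¹ = f * (b * a) := by rw [← haw]; group
            _ = f * a * b := by rw [hba]; group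
        rw [e3] at h4
        have h5 : Eqz z (f * a * b) b := by
          have h6 := h1.mul_right (a * b)
          have e4 : a * (a * b) = b := by rw [← mul_assoc, h.E2 a h.aE, one_mul]
          rw [e4] at h6
          rwa [← mul_assoc] at h6
        rcases h4.trans hz h5 with h6 | h6
        · rw [h6]; exact hb
        · rw [h6]; exact mul_mem h.zB hb
    have h4 : Eqz z (v * s * e * (v * s)⁻¹) e := hQE h3
    have h5 := h4.conj (a := v⁻¹) (by rw [inv_comm' h.vz])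
    have e1 : v⁻¹ * (v * s * e * (v * s)⁻¹) * v⁻¹⁻¹ = s * e * s⁻¹ := by group
    have e2 : v⁻¹ * e * v⁻¹⁻¹ = e := by
      have := h.Ev e he
      calc v⁻¹ * e * v⁻¹⁻¹ = v⁻¹ * (e * v) := by group
        _ = e := by rw [this]; group
    rwa [e1, e2] at h5

end SixD

end Cfsg.Agent.Omega.NOne.AG

end

section


/-!
# THEOREM D0ag (bb #15001), (6): `Δ > V`, `T₀ = Δ`, image `F` (`Q i = QF i`) is impossible

The hypothesis `hgen` is the minimality of `C i`: `C i = ⟨P ∩ C, d⟩` for every element `d ≠ 1` of odd order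
inverted by an element of `V - Q i`.
-/

set_option autoImplicit false

namespace Cfsg.Agent.Omega.NOne.AG

open Subgroup Cfsg Cfsg.Agent.ZN Cfsg.Agent.Omega.NOne.AG.GData

universe u

variable {G : Type u} [Group G] {ι : Type*}

namespace Lab

variable {P V T : Subgroup G} {z : ι → G} {opp : ι → ι → Prop} {C Q QF Qs : ι → Subgroup G}
  {h : Conf P V T z opp C Q QF Qs} {y : Fin 5 → Fin 5 → G} {pt : Fin 5 → Fin 5 → Fin 5 → Fin 5 → ι}
  (L : Lab h y pt)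
include L

/-- the six `y_e` in `Q i` -/
theorem y_mem_Q {p q r s m : Fin 5} (hD : D5 p q r s m) :
    y p q ∈ Q (pt p q r s) ∧ y r s ∈ Q (pt p q r s) ∧ y p m ∈ Q (pt p q r s) ∧
      y q m ∈ Q (pt p q r s) ∧ y r m ∈ Q (pt p q r s) ∧ y s m ∈ Q (pt p q r s) := by
  obtain ⟨⟨h1, h2, h3, h4, h5, h6⟩, m1, m2, m3, m4⟩ := hD
  have hD4 : D4 p q r s := ⟨h1, h2, h3, h4, h5, h6⟩
  obtain ⟨e1, e2, e3⟩ := L.pt' hD4
  have hD4' : D4 r s p q := ⟨h6, h2.symm, h4.symm, h3.symm, h5.symm, h1⟩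
  obtain ⟨f1, f2, f3⟩ := L.pt' hD4'
  have a1 := L.yQ p q r s m ⟨hD4, m1, m2, m3, m4⟩
  have a2 := L.yQ q p r s m ⟨⟨h1.symm, h4, h5, h2, h3, h6⟩, m2, m1, m3, m4⟩
  have a3 := L.yQ r s p q m ⟨hD4', m3, m4, m1, m2⟩
  have a4 := L.yQ s r p q m ⟨⟨h6.symm, h3.symm, h5.symm, h2.symm, h4.symm, h1⟩, m4, m3, m1, m2⟩
  rw [e1] at a2
  rw [e3] at a3
  rw [f1, e3] at a4
  exact ⟨a1.1, a3.1, a1.2, a2.2, a3.2, a4.2⟩

/-- `z_{pr|qs} = y_{mp} y_{mr}` -/
theorem z_pr {p q r s m : Fin 5} (hD : D5 p q r s m) :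
    z (pt p r q s) = y m p * y m r := by
  obtain ⟨⟨h1, h2, h3, h4, h5, h6⟩, m1, m2, m3, m4⟩ := hD
  rw [L.rel m p q s r ⟨⟨m1, m2, m4, h1, h3, h5⟩, m3.symm, h2.symm, h4.symm, h6⟩,
    L.z_eq p r q s ⟨h2, h1, h3, h4.symm, h6, h5⟩]
  exact L.comm p r q s h2 h5

/-- `z_{pq|rs} = y_{mp} y_{mq}` -/
theorem z_pq {p q r s m : Fin 5} (hD : D5 p q r s m) :
    z (pt p q r s) = y m p * y m q := by
  obtain ⟨⟨h1, h2, h3, h4, h5, h6⟩, m1, m2, m3, m4⟩ := hD
  rw [L.rel m p r s q ⟨⟨m1, m3, m4, h2, h3, h6⟩, m2.symm, h1.symm, h4, h5⟩,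
    L.z_eq p q r s ⟨h1, h2, h3, h4, h5, h6⟩]
  exact L.comm p q r s h1 h6

/-- `z_{pq|rs} ≠ z_{pr|qs}` -/
theorem z_ne {p q r s m : Fin 5} (hD : D5 p q r s m) : z (pt p r q s) ≠ z (pt p q r s) := by
  intro he
  rw [L.z_pq hD, L.z_pr hD] at he
  obtain ⟨⟨h1, h2, h3, h4, h5, h6⟩, m1, m2, m3, m4⟩ := hD
  rcases L.inj m r m q m3 m2 (mul_left_cancel he) with ⟨-, h7⟩ | ⟨h7, -⟩
  · exact h4 h7.symm
  · exact m2 h7

/-- `z_{ps|qr} = z_{pq|rs} z_{pr|qs}` -/
theorem z_ps {p q r s m : Fin 5} (hD : D5 p q r s m) :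
    z (pt p s q r) = z (pt p q r s) * z (pt p r q s) := by
  have hD' := hD
  obtain ⟨⟨h1, h2, h3, h4, h5, h6⟩, m1, m2, m3, m4⟩ := hD'
  have hp : D5 p q s r m := ⟨⟨h1, h3, h2, h5, h4, h6.symm⟩, m1, m2, m4, m3⟩
  rw [L.z_pr hp, L.z_pq hD, L.z_pr hD]
  -- `y_mp y_mq y_mp y_mr = y_mq y_mr = y_ps y_qr`
  have e1 : y m q * y m r = y p s * y q r :=
    L.rel m q p s r ⟨⟨m2, m1, m4, h1.symm, h5, h3⟩, m3.symm, h4.symm, h2.symm, h6⟩
  have e2 : y m p * y m s = y q r * y p s :=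
    L.rel m p q r s ⟨⟨m1, m2, m3, h1, h2, h4⟩, m4.symm, h3.symm, h5.symm, h6.symm⟩
  have e3 : y m p * y m q * (y m p * y m r) = y m q * y m r := by
    have h7 := L.comm m p m q m1 m2
    calc y m p * y m q * (y m p * y m r) = (y m p * y m q) * y m p * y m r := by group
      _ = y m q * (y m p * y m p) * y m r := by rw [h7]; group
      _ = y m q * y m r := by rw [L.sq m p m1, mul_one]
  rw [e3, e1, e2]
  exact L.comm q r p s h4 h3

/-- elements of `P ∩ C(z i)` fix `z_{pr|qs}` modulo `z i` -/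
theorem Ma [Finite G] {p q r s m : Fin 5} (hD : D5 p q r s m) {k : G} (hk : k ∈ P)
    (hkz : k * z (pt p q r s) = z (pt p q r s) * k) :
    Eqz (z (pt p q r s)) (k * z (pt p r q s) * k⁻¹) (z (pt p r q s)) := by
  have hD' := hD
  obtain ⟨⟨h1, h2, h3, h4, h5, h6⟩, m1, m2, m3, m4⟩ := hD'
  have hD4 : D4 p q r s := ⟨h1, h2, h3, h4, h5, h6⟩
  obtain ⟨σ, -, hσ⟩ := L.act k hk
  have hkC := h.PC _ k hk hkz
  have hinj : ∀ {x : G}, x ≠ 1 → k * x * k⁻¹ ≠ 1 := by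
    intro x hx hc
    apply hx
    calc x = k⁻¹ * (k * x * k⁻¹) * k := by group
      _ = 1 := by rw [hc]; group
  have hkz' : k * z (pt p q r s) * k⁻¹ = z (pt p q r s) := comm_conj' hkz
  have hB : ∀ {x : G}, x ∈ h.B (pt p q r s) → x ≠ 1 → x ≠ z (pt p q r s) →
      k * x * k⁻¹ = y p q ∨ k * x * k⁻¹ = y r s := by
    intro x hx hx1 hxz
    have h7 := norm_conj (h.B_norm _) hkC hx
    rcases (L.B_eq hD4).1 h7 with h8 | h8 | h8 | h8
    · exact absurd h8 (hinj hx1)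
    · exfalso
      apply hxz
      calc x = k⁻¹ * (k * x * k⁻¹) * k := by group
        _ = k⁻¹ * (k * z (pt p q r s) * k⁻¹) * k := by rw [h8, hkz']
        _ = z (pt p q r s) := by group
    · exact Or.inl h8
    · exact Or.inr h8
  have hz := L.z_eq p q r s hD4
  have hzy : ∀ {a b c d : Fin 5}, a ≠ b → c ≠ d → y a b ≠ y a b * y c d := by
    intro a b c d _ hcd hc
    exact L.ne_one c d hcd (mul_left_cancel (a := y a b) (by rw [mul_one]; exact hc.symm))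
  have hy1 : k * y p q * k⁻¹ = y p q ∨ k * y p q * k⁻¹ = y r s :=
    hB (L.y_mem_B hD4) (L.ne_one p q h1) (by rw [hz]; exact hzy h1 h6)
  have hy2 : k * y r s * k⁻¹ = y p q ∨ k * y r s * k⁻¹ = y r s :=
    hB (L.y_mem_B' hD4) (L.ne_one r s h6) (by
      rw [hz, L.comm p q r s h1 h6]; exact hzy h6 h1)
  rw [hσ p q h1] at hy1
  rw [hσ r s h6] at hy2
  have hs : ∀ {a b : Fin 5}, a ≠ b → σ a ≠ σ b := fun hab hc => hab (σ.injective hc)
  have hpq : (σ p = p ∧ σ q = q) ∨ (σ p = q ∧ σ q = p) ∨ (σ p = r ∧ σ q = s) ∨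
      (σ p = s ∧ σ q = r) := by
    rcases hy1 with h7 | h7
    · rcases L.inj _ _ _ _ (hs h1) h1 h7 with h8 | h8
      · exact Or.inl h8
      · exact Or.inr (Or.inl h8)
    · rcases L.inj _ _ _ _ (hs h1) h6 h7 with h8 | h8
      · exact Or.inr (Or.inr (Or.inl h8))
      · exact Or.inr (Or.inr (Or.inr h8))
  have hrs : (σ r = p ∧ σ s = q) ∨ (σ r = q ∧ σ s = p) ∨ (σ r = r ∧ σ s = s) ∨
      (σ r = s ∧ σ s = r) := by
    rcases hy2 with h7 | h7
    · rcases L.inj _ _ _ _ (hs h6) h1 h7 with h8 | h8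
      · exact Or.inl h8
      · exact Or.inr (Or.inl h8)
    · rcases L.inj _ _ _ _ (hs h6) h6 h7 with h8 | h8
      · exact Or.inr (Or.inr (Or.inl h8))
      · exact Or.inr (Or.inr (Or.inr h8))
  -- the two values
  have hpr : z (pt p r q s) = y p r * y q s := L.z_eq p r q s ⟨h2, h1, h3, h4.symm, h6, h5⟩
  have hps : z (pt p q r s) * z (pt p r q s) = y p s * y q r := by
    rw [← L.z_ps hD]
    exact L.z_eq p s q r ⟨h3, h1, h2, h5.symm, h6.symm, h4⟩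
  have hval : k * z (pt p r q s) * k⁻¹ = y (σ p) (σ r) * y (σ q) (σ s) := by
    rw [hpr, ← hσ p r h2, ← hσ q s h5]; group
  have c1 : y q s * y p r = y p r * y q s := L.comm q s p r h5 h2
  have c2 : y q r * y p s = y p s * y q r := L.comm q r p s h4 h3
  rw [Eqz, hval, hps, hpr]
  have n1 := hs h2
  have n2 := hs h3
  rcases hpq with ⟨a1, a2⟩ | ⟨a1, a2⟩ | ⟨a1, a2⟩ | ⟨a1, a2⟩ <;>
    rcases hrs with ⟨b1, b2⟩ | ⟨b1, b2⟩ | ⟨b1, b2⟩ | ⟨b1, b2⟩ <;>
    rw [a1, b1] at n1 <;> rw [a1, b2] at n2 <;> rw [a1, a2, b1, b2] <;>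
    first
    | exact absurd rfl n1
    | exact absurd rfl n2
    | exact Or.inl rfl
    | exact Or.inr rfl
    | exact Or.inl c1
    | exact Or.inr c2
    | (left; rw [L.symm r p, L.symm s q]; exact c1)
    | (left; rw [L.symm r p, L.symm s q]; done)
    | (right; rw [L.symm r q, L.symm s p]; exact c2)
    | (right; rw [L.symm s p, L.symm r q]; done)

/-- **(6)**, for a given `g` -/
theorem six [Finite G] (hT : h.T0 ≤ h.Dl) {p q r s m : Fin 5} (hD : D5 p q r s m)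
    (hQF : ∀ x ∈ Q (pt p q r s), x ∈ QF (pt p q r s)) {v g : G} (hv : v ∈ V)
    (hvQ : v ∉ Q (pt p q r s)) (hgC : g ∈ C (pt p q r s))
    (hg : GD (V ⊓ Q (pt p q r s)) (z (pt p q r s)) v g)
    (hgen : g ≠ 1 →
      C (pt p q r s) ≤ closure ({k | k ∈ P ∧ k * z (pt p q r s) = z (pt p q r s) * k} ∪ {g})) :
    False := by
  have hD' := hD
  obtain ⟨⟨h1, h2, h3, h4, h5, h6⟩, m1, m2, m3, m4⟩ := hD'
  have hD4 : D4 p q r s := ⟨h1, h2, h3, h4, h5, h6⟩
  have := L.nonempty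
  obtain ⟨q1, q2, q3, q4, q5, q6⟩ := L.y_mem_Q hD
  set i := pt p q r s with hi
  have hzz := h.sq i
  have hzB : z i ∈ h.B i := h.Zs_B i (h.z_mem_Zs i)
  have hyB : y p q ∈ h.B i := L.y_mem_B hD4
  have hyT : y p q ∈ T := L.y_mem_T h1
  have hQz : ∀ {x : G}, x ∈ Q i → x * z i = z i * x := fun hx => h.Qcomm_z hx
  -- `B` is central
  have hBZ : ∀ b ∈ h.B i, ∀ x ∈ Q i, b * x = x * b := by
    intro b hb x hx
    obtain ⟨w, hw, hxw⟩ := L.QF_eq hD4 (hQF x hx)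
    have hbw := (h.mem_B.1 hb).2 w hw
    have hby := L.y_T h1 (h.B_T i hb)
    rcases hxw with rfl | rfl
    · exact hbw
    · calc b * (w * y p q) = (b * w) * y p q := by group
        _ = w * (b * y p q) := by rw [hbw]; group
        _ = w * y p q * b := by rw [hby]; group
  -- `x = w` or `w y_pq`
  have hyQ : ∀ {x : G}, x ∈ Q i → ∃ w ∈ Qs i, ∃ b ∈ h.B i, x = w * b := by
    intro x hx
    obtain ⟨w, hw, hxw⟩ := L.QF_eq hD4 (hQF x hx)
    rcases hxw with rfl | rfl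
    · exact ⟨x, hw, 1, one_mem _, (mul_one _).symm⟩
    · exact ⟨w, hw, _, hyB, rfl⟩
  have hQQ : ∀ x ∈ Q i, ∀ x' ∈ Q i, Eqz (z i) (x * x') (x' * x) := by
    intro x hx x' hx'
    obtain ⟨w, hw, b, hb, rfl⟩ := hyQ hx
    obtain ⟨w', hw', b', hb', rfl⟩ := hyQ hx'
    have e1 : w * b * (w' * b') = w * w' * (b * b') := by
      calc w * b * (w' * b') = w * (b * w') * b' := by group
        _ = w * w' * (b * b') := by rw [hBZ b hb w' (h.QsQ i hw')]; group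
    have e2 : w' * b' * (w * b) = w' * w * (b * b') := by
      calc w' * b' * (w * b) = w' * (b' * (w * b)) := by group
        _ = w' * ((w * b) * b') := by rw [hBZ b' hb' _ hx]
        _ = w' * w * (b * b') := by group
    rw [e1, e2]
    exact Eqz.mul_right _ (h.Qs_comm hw hw')
  -- `T ∩ Q = E B`
  have hTE : ∀ {x : G}, x ∈ Q i → x ∈ T → ∃ e ∈ V ⊓ Q i, ∃ b ∈ h.B i, x = e * b := by
    intro x hx hxT
    have h7 : x ∈ h.Dl := hT (h.Tt_le_T0 i (h.mem_Tt.2 ⟨hxT, hx⟩))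
    rcases (L.mem_iff p q h1 x).1 h7 with h8 | h8
    · exact ⟨x, ⟨h8, hx⟩, 1, one_mem _, (mul_one _).symm⟩
    · refine ⟨x * y p q, ⟨h8, mul_mem hx q1⟩, y p q, hyB, ?_⟩
      rw [mul_assoc, L.sq p q h1, mul_one]
  have hTQ : ∀ x ∈ Q i, Eqz (z i) (x * v) (v * x) → ∃ e ∈ V ⊓ Q i, ∃ b ∈ h.B i, x = e * b := by
    intro x hx hxv
    refine hTE hx ?_
    obtain ⟨w, hw, b, hb, rfl⟩ := hyQ hx
    refine mul_mem (h.kv i w hw v hv hvQ ?_) (h.B_T i hb)
    have hbv := h.B_V hb v hv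
    have e1 : w * b * v = w * v * b := by
      calc w * b * v = w * (b * v) := by group
        _ = w * v * b := by rw [hbv]; group
    rw [e1, ← mul_assoc] at hxv
    rcases hxv with h7 | h7
    · exact Or.inl (mul_right_cancel h7)
    · rw [← mul_assoc] at h7
      exact Or.inr (mul_right_cancel h7)
  have hvC := h.VC i hv
  have hwz := L.z_ne hD
  have haE : z (pt p r q s) ∈ V ⊓ Q i := by
    refine mem_inf.2 ⟨h.zV _, ?_⟩
    rw [L.z_pr hD, L.symm m p, L.symm m r]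
    exact mul_mem q3 q5
  have hg1 : g ≠ 1 := by
    intro hg1
    have h7 : ∀ e' ∈ V ⊓ Q i, e' * (g * z (pt p r q s) * g⁻¹) = g * z (pt p r q s) * g⁻¹ * e' := by
      intro e' he'
      have e1 : g * z (pt p r q s) * g⁻¹ = z (pt p r q s) := by rw [hg1]; group
      rw [e1]
      exact h.Vab e' (mem_inf.1 he').1 _ (mem_inf.1 haE).1
    rcases hg.ff _ haE h7 with h8 | h8
    · exact h.ne_one _ h8
    · exact hwz h8
  have hDt : SixD (C i) (Q i) (V ⊓ Q i) (h.B i)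
      {k | k ∈ P ∧ k * z i = z i * k} (z i) v (z (pt p r q s)) g := by
    refine
      { Qo2 := h.Qo2 i
        char2 := h.char2 i
        Cz := h.Cz i
        z2 := hzz
        zB := hzB
        BQ := h.B_Q i
        BZ := hBZ
        Bv := fun b hb => h.B_V hb v hv
        B2 := fun b hb => h.B_sq L.two hb
        CB := ?_
        QQ := hQQ
        EQ := inf_le_right
        E2 := fun e he => h.Vsq e he.1
        EE := fun e he f hf => h.Vab e he.1 f hf.1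
        Ev := fun e he => h.Vab e he.1 v hv
        vC := hvC
        gC := hgC
        vg := hg.vg
        gd1 := ?_
        gd2 := ?_
        QvE := ?_
        TQ := hTQ
        MC := fun k hk => h.PC i k hk.1 hk.2
        Mv := ?_
        ME := ?_
        Ma := fun k hk => L.Ma hD hk.1 hk.2
        aE := haE
        a1 := ?_
        gen := hgen hg1 }
    · -- `CB`
      intro c hc b hb
      have h7 := norm_conj (h.B_norm i) hc hb
      have hcz : c * z i * c⁻¹ = z i := comm_conj' (h.Cz i c hc)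
      have hzy : z i = y p q * y r s := L.z_eq p q r s hD4
      have hy2 := L.sq p q h1
      have hy3 : z i * y p q = y r s := by
        rw [hzy, L.comm p q r s h1 h6, mul_assoc, hy2, mul_one]
      have hy4 : z i * y r s = y p q := by
        rw [hzy, mul_assoc, L.sq r s h6, mul_one]
      have hback : ∀ {x x' : G}, c * x * c⁻¹ = x' → x = c⁻¹ * x' * c := by
        rintro x _ rfl; group
      have hne : ∀ {x : G}, c * x * c⁻¹ = z i → x = z i := by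
        intro x hx
        exact mul_left_cancel (mul_right_cancel (hx.trans hcz.symm))
      rcases (L.B_eq hD4).1 hb with h8 | h8 | h8 | h8
      · rw [h8]; left; group
      · rw [h8]; left; exact hcz
      · rcases (L.B_eq hD4).1 h7 with h9 | h9 | h9 | h9
        · exfalso
          have := hback h9
          rw [mul_one, inv_mul_cancel] at this
          exact L.ne_one p q h1 (h8 ▸ this)
        · exfalso
          have := hne h9
          rw [h8] at this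
          rw [this] at hy3
          rw [hzz] at hy3
          exact L.ne_one r s h6 hy3.symm
        · left; rw [h9, h8]
        · right; rw [h9, h8, hy3]
      · rcases (L.B_eq hD4).1 h7 with h9 | h9 | h9 | h9
        · exfalso
          have := hback h9
          rw [mul_one, inv_mul_cancel] at this
          exact L.ne_one r s h6 (h8 ▸ this)
        · exfalso
          have := hne h9
          rw [h8] at this
          rw [this] at hy4
          rw [hzz] at hy4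
          exact L.ne_one p q h1 hy4.symm
        · right; rw [h9, h8, hy4]
        · left; rw [h9, h8]
    · -- `gd1`
      intro e he f hf hc
      by_cases he1 : e = 1
      · exact Or.inl (Or.inl he1)
      by_cases hez : e = z i
      · exact Or.inl (Or.inr (by rw [mul_one]; exact hez))
      rcases (hg.perp he he1 hez hf).1 hc with h7 | h7 | h7 | h7
      · exact Or.inr (Or.inl (Or.inl h7))
      · exact Or.inr (Or.inl (Or.inr (by rw [mul_one]; exact h7)))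
      · exact Or.inr (Or.inr (Or.inl h7))
      · exact Or.inr (Or.inr (Or.inr (by rw [h7]; exact hQz he.2)))
    · -- `gd2`
      intro e he
      by_cases he1 : e = 1
      · rw [he1]; left; group
      by_cases hez : e = z i
      · rw [hez]
        have hgz := hg.gz
        have e1 : g⁻¹ * z i * g = z i := by rw [mul_assoc, ← hgz]; group
        have e2 : g * z i * g⁻¹ = z i := by rw [hgz]; group
        rw [e1, e2]
        right; rw [hzz, mul_one]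
      rcases hg.third he he1 hez with h7 | h7
      · exact Or.inl h7
      · right
        rw [h7]
        exact hQz (mul_mem (norm_conj (h.nQ i) hgC he.2) he.2)
    · -- `QvE`
      intro x hx
      exact mem_inf.2 ⟨mul_mem (h.conj_V (h.QP i hx) hv) (inv_mem hv), h.VQc i x hx v hv⟩
    · -- `Mv`
      rintro k ⟨hk, hkz⟩
      have hkC := h.PC i k hk hkz
      have h7 : k * v * k⁻¹ ∈ V := h.conj_V hk hv
      refine mem_inf.2 ⟨mul_mem h7 (inv_mem hv), ?_⟩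
      refine h.VQ2 i _ h7 _ (inv_mem hv) (fun hc => hvQ ?_) (fun hc => hvQ ((inv_mem_iff).1 hc))
      have h8 := norm_conj (h.nQ i) (inv_mem hkC) hc
      have e1 : k⁻¹ * (k * v * k⁻¹) * k⁻¹⁻¹ = v := by group
      rwa [e1] at h8
    · -- `ME`
      rintro k ⟨hk, hkz⟩ e he
      exact mem_inf.2 ⟨h.conj_V hk he.1, norm_conj (h.nQ i) (h.PC i k hk hkz) he.2⟩
    · -- `a1`
      rintro (h7 | h7)
      · exact h.ne_one _ h7
      · rw [mul_one] at h7
        exact hwz h7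
  -- the transposition
  obtain ⟨k, hkP, hk⟩ := L.full (Equiv.swap p r * Equiv.swap q s)
  have s1 : (Equiv.swap p r * Equiv.swap q s) p = r := by
    rw [Equiv.Perm.mul_apply, Equiv.swap_apply_of_ne_of_ne h1 h3, Equiv.swap_apply_left]
  have s2 : (Equiv.swap p r * Equiv.swap q s) q = s := by
    rw [Equiv.Perm.mul_apply, Equiv.swap_apply_left, Equiv.swap_apply_of_ne_of_ne h3.symm h6.symm]
  have s3 : (Equiv.swap p r * Equiv.swap q s) r = p := by
    rw [Equiv.Perm.mul_apply, Equiv.swap_apply_of_ne_of_ne h4.symm h6, Equiv.swap_apply_right]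
  have s4 : (Equiv.swap p r * Equiv.swap q s) s = q := by
    rw [Equiv.Perm.mul_apply, Equiv.swap_apply_right, Equiv.swap_apply_of_ne_of_ne h1.symm h4]
  have s5 : (Equiv.swap p r * Equiv.swap q s) m = m := by
    rw [Equiv.Perm.mul_apply, Equiv.swap_apply_of_ne_of_ne m2 m4,
      Equiv.swap_apply_of_ne_of_ne m1 m3]
  have hzy : z i = y p q * y r s := L.z_eq p q r s hD4
  have hkz : k * z i = z i * k := by
    apply conj_comm'
    have e1 : k * z i * k⁻¹ = (k * y p q * k⁻¹) * (k * y r s * k⁻¹) := by rw [hzy]; group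
    rw [e1, hk p q h1, hk r s h6, s1, s2, s3, s4, hzy]
    exact L.comm r s p q h6 h1
  have hem : y p q * y r m = z (pt p q r m) :=
    (L.z_eq p q r m ⟨h1, h2, m1.symm, h4, m2.symm, m3.symm⟩).symm
  have heE : y p q * y r m ∈ V ⊓ Q i := ⟨by rw [hem]; exact h.zV _, mul_mem q1 q5⟩
  have h7 := hDt.main (s := k) (e := y p q * y r m) ⟨hkP, hkz⟩ heE
  have e1 : k * (y p q * y r m) * k⁻¹ = y r s * y p m := by
    have e2 : k * (y p q * y r m) * k⁻¹ = (k * y p q * k⁻¹) * (k * y r m * k⁻¹) := by group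
    rw [e2, hk p q h1, hk r m m3.symm, s1, s2, s3, s5]
  rw [e1] at h7
  rcases h7 with h7 | h7
  · -- `y_rs y_pm = y_pq y_rm`: then `z_{pq|rs} = z_{pr|qs}`
    apply hwz
    have hc := L.comm p m r m m1.symm m3.symm
    rw [L.z_pr hD, hzy, L.symm m p, L.symm m r, hc]
    -- `y_rm y_pm = y_pq y_rs`
    have e3 : y p q * (y r s * y p m) = y r m := by
      rw [h7, ← mul_assoc, L.sq p q h1, one_mul]
    have e4 : y r m * y p m = y p q * y r s := by
      rw [← e3]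
      calc y p q * (y r s * y p m) * y p m = y p q * y r s * (y p m * y p m) := by group
        _ = y p q * y r s := by rw [L.sq p m m1.symm, mul_one]
    exact e4
  · -- `y_rs y_pm = y_rs y_rm`
    have e3 : z i * (y p q * y r m) = y r s * y r m := by
      rw [hzy, L.comm p q r s h1 h6]
      calc y r s * y p q * (y p q * y r m) = y r s * (y p q * y p q) * y r m := by group
        _ = y r s * y r m := by rw [L.sq p q h1, mul_one]
    rw [e3] at h7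
    rcases L.inj p m r m m1.symm m3.symm (mul_left_cancel h7) with ⟨h8, -⟩ | ⟨h8, -⟩
    · exact h2 h8
    · exact m1 h8.symm

/-- **(6)**: `Δ > V`, `T₀ = Δ` and `Q i = QF i` is impossible. -/
theorem six_false [Finite G] (hT : h.T0 ≤ h.Dl) (i : ι) (hQF : ∀ x ∈ Q i, x ∈ QF i)
    (hgen : ∀ v ∈ V, v ∉ Q i → ∀ d ∈ C i, d ≠ 1 → Odd (orderOf d) → v * d * v⁻¹ = d⁻¹ →
      C i ≤ closure ({m | m ∈ P ∧ m * z i = z i * m} ∪ {d})) : False := by
  obtain ⟨j, k, hij, -, -⟩ := h.tri i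
  have hjQ : z j ∉ Q i := (h.opp_iff i j).1 hij
  obtain ⟨g, hgC, hg⟩ := h.exists_g i (h.zV j) hjQ
  obtain ⟨p, q, r, s, hD, rfl⟩ := L.surj i
  obtain ⟨m, hm⟩ := ex_fifth p q r s hD
  exact L.six hT hm hQF (h.zV j) hjQ hgC hg fun hg1 =>
    hgen _ (h.zV j) hjQ g hgC hg1 hg.odd hg.vg

end Lab

end Cfsg.Agent.Omega.NOne.AG

end

section


/-!
# THEOREM D0ag (#15001), section (7): the group `C_1` when `Q_1` induces `D₈`; helper950

`SevD C Q QF Qs B E z v g a` : the local situation at the point `z`.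
* `SevD.fix_a` : an element of `C` fixing `a B` is in `Q ∪ v Q`;
* `SevD.all` : `C = {1, g, g⁻¹} {1, v} Q`.
-/

set_option autoImplicit false

namespace Cfsg.Agent.Omega.NOne.AG.Seven

open Subgroup Cfsg Cfsg.Agent.ZN Cfsg.Agent.Omega.NOne.AG.GData

universe u

variable {G : Type u} [Group G]

/-- the local situation -/
structure SevD (C Q QF Qs B E : Subgroup G) (z v g a : G) : Prop where
  gd : GD E z v g
  gC : g ∈ C
  vC : v ∈ C
  Cz : ∀ c ∈ C, c * z = z * c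
  hC : C ⊓ centralizer (o2 C : Set G) ≤ o2 C
  Qo2 : Q = o2 C
  QFQ : QF ≤ Q
  QsQF : Qs ≤ QF
  BQF : B ≤ QF
  nQ : ∀ c ∈ C, ∀ x ∈ Q, c * x * c⁻¹ ∈ Q
  nQF : ∀ c ∈ C, ∀ x ∈ QF, c * x * c⁻¹ ∈ QF
  nQs : ∀ c ∈ C, ∀ x ∈ Qs, c * x * c⁻¹ ∈ Qs
  nB : ∀ c ∈ C, ∀ x ∈ B, c * x * c⁻¹ ∈ B
  EQs : E ≤ Qs
  nE : ∀ q ∈ Q, ∀ e ∈ E, q * e * q⁻¹ ∈ E
  com : ∀ x ∈ Qs, ∀ y ∈ QF, x * y = y * x ∨ x * y = z * (y * x)
  QFB : ∀ x ∈ QF, ∀ b ∈ B, x * b = b * x
  dec : ∀ x ∈ QF, ∃ e ∈ E, ∃ e' ∈ E, ∃ b ∈ B, x = e * (g * e' * g⁻¹) * b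
  BE : ∀ b ∈ B, b ∈ E → b = 1 ∨ b = z
  zB : z ∈ B
  Bz : ∀ c ∈ C, ∀ b ∈ B, c * b * c⁻¹ * b⁻¹ = 1 ∨ c * b * c⁻¹ * b⁻¹ = z
  aE : a ∈ E
  a1 : a ≠ 1
  az : a ≠ z
  QF2 : ∀ x ∈ Q, ∀ y ∈ Q, x ∉ QF → y ∉ QF → x * y ∈ QF
  fix : ∀ s ∈ Q, s ∉ QF → ∀ e ∈ E, (s * e * s⁻¹ = e ∨ s * e * s⁻¹ = e * z) →
    e = 1 ∨ e = z ∨ e = a ∨ e = a * z
  fa : ∀ q ∈ Q, q * a * q⁻¹ = a ∨ q * a * q⁻¹ = a * z
  ex : ∃ s ∈ Q, s ∉ QF

namespace SevD

variable {C Q QF Qs B E : Subgroup G} {z v g a : G} (h : SevD C Q QF Qs B E z v g a)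
include h

theorem QC : Q ≤ C := by rw [h.Qo2]; exact o2_le _

theorem QFC : QF ≤ C := h.QFQ.trans h.QC

theorem BC : B ≤ C := h.BQF.trans h.QFC

theorem QsC : Qs ≤ C := h.QsQF.trans h.QFC

theorem EC : E ≤ C := h.EQs.trans h.QsC

theorem gi {c x : G} {H : Subgroup G} (hn : ∀ c ∈ C, ∀ x ∈ H, c * x * c⁻¹ ∈ H) (hc : c ∈ C) (hx : x ∈ H) :
    c⁻¹ * x * c ∈ H := by
  have := hn c⁻¹ (inv_mem hc) x hx
  rwa [inv_inv] at this

theorem gE {e : G} (he : e ∈ E) : g * e * g⁻¹ ∈ Qs := h.nQs g h.gC e (h.EQs he)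

theorem zc {x : G} (hx : x ∈ E) : x = 1 ∨ x = z → g * x * g⁻¹ = x := by
  rintro (rfl | rfl)
  · group
  · rw [h.Cz g h.gC]; group

/-- directness -/
theorem dir {e e' b : G} (he : e ∈ E) (he' : e' ∈ E) (hb : b ∈ B) (heq : e * (g * e' * g⁻¹) = b) :
    (e = 1 ∨ e = z) ∧ (e' = 1 ∨ e' = z) := by
  have h1 : ∀ x ∈ E, x * (g * e' * g⁻¹) = (g * e' * g⁻¹) * x := by
    intro x hx
    have h2 : g * e' * g⁻¹ = e⁻¹ * b := by rw [← heq]; group
    have h3 : x * e⁻¹ = e⁻¹ * x := h.gd.Eab _ hx _ (inv_mem he)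
    have h4 : x * b = b * x := h.QFB _ (h.QsQF (h.EQs hx)) _ hb
    rw [h2, ← mul_assoc, h3, mul_assoc, h4, mul_assoc]
  have h2 := h.gd.ff e' he' h1
  refine ⟨?_, h2⟩
  have h3 := h.zc he' h2
  rw [h3] at heq
  have h4 : e' ∈ B := by
    rcases h2 with rfl | rfl
    · exact one_mem _
    · exact h.zB
  have h5 : e ∈ B := by
    have : e = b * e'⁻¹ := by rw [← heq]; group
    rw [this]; exact mul_mem hb (inv_mem h4)
  exact h.BE e h5 he

/-- directness, second form -/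
theorem dir2 {e₁ e₁' b₁ e₂ e₂' b₂ : G} (h1 : e₁ ∈ E) (h1' : e₁' ∈ E) (hb1 : b₁ ∈ B) (h2 : e₂ ∈ E)
    (h2' : e₂' ∈ E) (hb2 : b₂ ∈ B) (heq : e₁ * (g * e₁' * g⁻¹) * b₁ = e₂ * (g * e₂' * g⁻¹) * b₂) :
    (e₁ = e₂ ∨ e₁ = e₂ * z) ∧ (e₁' = e₂' ∨ e₁' = e₂' * z) := by
  have h3 : (e₂⁻¹ * e₁) * (g * (e₁' * e₂'⁻¹) * g⁻¹) = b₂ * b₁⁻¹ := by
    have h4 : (g * e₂' * g⁻¹) * (b₂ * b₁⁻¹) = (b₂ * b₁⁻¹) * (g * e₂' * g⁻¹) :=
      h.QFB _ (h.QsQF (h.gE h2')) _ (mul_mem hb2 (inv_mem hb1))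
    calc (e₂⁻¹ * e₁) * (g * (e₁' * e₂'⁻¹) * g⁻¹)
        = e₂⁻¹ * (e₁ * (g * e₁' * g⁻¹) * b₁) * b₁⁻¹ * (g * e₂'⁻¹ * g⁻¹) := by group
      _ = ((g * e₂' * g⁻¹) * (b₂ * b₁⁻¹)) * (g * e₂'⁻¹ * g⁻¹) := by rw [heq]; group
      _ = b₂ * b₁⁻¹ := by rw [h4]; group
  obtain ⟨h4, h5⟩ := h.dir (mul_mem (inv_mem h2) h1) (mul_mem h1' (inv_mem h2'))
    (mul_mem hb2 (inv_mem hb1)) h3
  constructor
  · rcases h4 with h6 | h6
    · left; rw [inv_mul_eq_one] at h6; exact h6.symm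
    · right; rw [← h6]; group
  · rcases h5 with h6 | h6
    · left; rw [mul_inv_eq_one] at h6; exact h6
    · right
      rw [mul_inv_eq_iff_eq_mul] at h6
      rw [h6]; exact (h.Cz _ (h.EC h2')).symm

/-- the subgroup `R = C_QF(Q mod B)` -/
def R (h : SevD C Q QF Qs B E z v g a) : Subgroup G := QF ⊓ K.st C Q B h.nB

theorem mem_R {x : G} : x ∈ h.R ↔ x ∈ QF ∧ ∀ q ∈ Q, x * q * x⁻¹ * q⁻¹ ∈ B := by
  rw [R, mem_inf, K.mem_st]
  exact ⟨fun hx => ⟨hx.1, hx.2.2⟩, fun hx => ⟨hx.1, h.QFC hx.1, hx.2⟩⟩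

theorem nR : ∀ c ∈ C, ∀ x ∈ h.R, c * x * c⁻¹ ∈ h.R := by
  intro c hc x hx
  obtain ⟨h1, h2⟩ := mem_inf.1 hx
  exact mem_inf.2 ⟨h.nQF c hc x h1, K.st_conj h.nQ hc h2⟩

theorem RQF : h.R ≤ QF := inf_le_left

/-- `⟨z, a⟩` -/
theorem R_dec {x : G} (hx : x ∈ h.R) : ∃ e e' : G, (e = 1 ∨ e = z ∨ e = a ∨ e = a * z) ∧
    (e' = 1 ∨ e' = z ∨ e' = a ∨ e' = a * z) ∧ ∃ b ∈ B, x = e * (g * e' * g⁻¹) * b := by
  obtain ⟨s, hs, hsF⟩ := h.ex
  obtain ⟨hxF, hxq⟩ := h.mem_R.1 hx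
  obtain ⟨e, he, e', he', b, hb, hxe⟩ := h.dec x hxF
  refine ⟨e, e', ?_, ?_, b, hb, hxe⟩
  all_goals
    have hgs : g⁻¹ * s * g ∈ Q := h.gi h.nQ h.gC hs
    have hgsF : g⁻¹ * s * g ∉ QF := fun hc => hsF (by
      have := h.nQF g h.gC _ hc
      rwa [show g * (g⁻¹ * s * g) * g⁻¹ = s by group] at this)
    have h1 := hxq s hs
    obtain ⟨β, h3, h2⟩ : ∃ β ∈ B, s * x * s⁻¹ = x * β :=
      ⟨x⁻¹ * (x * s * x⁻¹ * s⁻¹)⁻¹ * x, h.gi h.nB (h.QFC hxF) (inv_mem h1), by group⟩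
    have h4 : s * x * s⁻¹ = (s * e * s⁻¹) * (g * ((g⁻¹ * s * g) * e' * (g⁻¹ * s * g)⁻¹) * g⁻¹) * (s * b * s⁻¹) := by
      rw [hxe]; group
    rw [h4, hxe, mul_assoc (e * (g * e' * g⁻¹)) b] at h2
    obtain ⟨h5, h6⟩ := h.dir2 (h.nE s hs e he) (h.nE _ hgs e' he') (h.nB s (h.QC hs) b hb) he he'
      (mul_mem hb h3) h2
  · exact h.fix s hs hsF e he h5
  · exact h.fix _ hgs hgsF e' he' h6

theorem aa : a * a = 1 := h.gd.Esq a h.aE

theorem aR : a ∈ h.R := by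
  refine h.mem_R.2 ⟨h.QsQF (h.EQs h.aE), fun q hq => ?_⟩
  have h1 : a * q * a⁻¹ * q⁻¹ = a * (q * a * q⁻¹)⁻¹ := by group
  rw [h1]
  rcases h.fa q hq with h2 | h2
  · rw [h2, mul_inv_cancel]; exact one_mem _
  · rw [h2, h.Cz a (h.EC h.aE), mul_inv_rev, ← mul_assoc, mul_inv_cancel, one_mul]
    exact inv_mem h.zB

theorem bR : g * a * g⁻¹ ∈ h.R := h.nR g h.gC a h.aR

theorem ab : a * (g * a * g⁻¹) = (g * a * g⁻¹) * a := (h.gd.perp h.aE h.a1 h.az h.aE).2 (Or.inr (Or.inr (Or.inl rfl)))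

/-- the elements `x ∈ C` with `c x c⁻¹ ∈ x B` -/
theorem mul_B {c x x' : G} (hx : x ∈ C) (h1 : c * x * c⁻¹ * x⁻¹ ∈ B)
    (h2 : c * x' * c⁻¹ * x'⁻¹ ∈ B) : c * (x * x') * c⁻¹ * (x * x')⁻¹ ∈ B := by
  have e : c * (x * x') * c⁻¹ * (x * x')⁻¹ =
      (c * x * c⁻¹ * x⁻¹) * (x * (c * x' * c⁻¹ * x'⁻¹) * x⁻¹) := by group
  rw [e]
  exact mul_mem h1 (h.nB x hx _ h2)

/-- `R = ⟨a, b⟩ B` is centralised mod `B` by the elements fixing `a B`, `b B` -/
theorem R_B {c : G} (hc : c ∈ C) (h1 : c * a * c⁻¹ * a⁻¹ ∈ B)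
    (h2 : c * (g * a * g⁻¹) * c⁻¹ * (g * a * g⁻¹)⁻¹ ∈ B) {x : G} (hx : x ∈ h.R) : c * x * c⁻¹ * x⁻¹ ∈ B := by
  obtain ⟨e, e', he, he', b, hb, rfl⟩ := h.R_dec hx
  have hz : ∀ c ∈ C, c * z * c⁻¹ * z⁻¹ = 1 := fun c hc => by rw [h.Cz c hc]; group
  have hzC : z ∈ C := h.BC h.zB
  have key : ∀ w : G, w ∈ C → (c * w * c⁻¹ * w⁻¹ ∈ B) → c * (w * z) * c⁻¹ * (w * z)⁻¹ ∈ B := by
    intro w hw h3
    exact h.mul_B hw h3 (by rw [hz c hc]; exact one_mem _)
  have haC := h.EC h.aE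
  have hbC : g * a * g⁻¹ ∈ C := h.RQF.trans h.QFC h.bR
  have k1 : e ∈ C ∧ c * e * c⁻¹ * e⁻¹ ∈ B := by
    rcases he with rfl | rfl | rfl | rfl
    · exact ⟨one_mem _, by simp⟩
    · exact ⟨hzC, by rw [hz c hc]; exact one_mem _⟩
    · exact ⟨haC, h1⟩
    · exact ⟨mul_mem haC hzC, key _ haC h1⟩
  have k2 : g * e' * g⁻¹ ∈ C ∧ c * (g * e' * g⁻¹) * c⁻¹ * (g * e' * g⁻¹)⁻¹ ∈ B := by
    have hgz : g * z * g⁻¹ = z := by rw [h.Cz g h.gC]; group
    rcases he' with rfl | rfl | rfl | rfl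
    · rw [mul_one, mul_inv_cancel]; exact ⟨one_mem _, by simp⟩
    · rw [hgz]; exact ⟨hzC, by rw [hz c hc]; exact one_mem _⟩
    · exact ⟨hbC, h2⟩
    · have e5 : g * (a * z) * g⁻¹ = (g * a * g⁻¹) * z := by
        calc g * (a * z) * g⁻¹ = (g * a * g⁻¹) * (g * z * g⁻¹) := by group
          _ = _ := by rw [hgz]
      rw [e5]
      exact ⟨mul_mem hbC hzC, key _ hbC h2⟩
  refine h.mul_B (mul_mem k1.1 k2.1) (h.mul_B k1.1 k1.2 k2.2) ?_
  exact mul_mem (h.nB c hc b hb) (inv_mem hb)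

/-- an element of `QF` commuting with `a`, `b` is in `R` -/
theorem R_of_comm {x : G} (hx : x ∈ QF) (h1 : a * x = x * a) (h2 : (g * a * g⁻¹) * x = x * (g * a * g⁻¹)) :
    x ∈ h.R := by
  obtain ⟨e, he, e', he', b, hb, rfl⟩ := h.dec x hx
  have haF := h.QsQF (h.EQs h.aE)
  have hbF := h.RQF h.bR
  have hab : a * b = b * a := h.QFB a haF b hb
  have hbb : (g * a * g⁻¹) * b = b * (g * a * g⁻¹) := h.QFB _ hbF b hb
  have hae : a * e = e * a := h.gd.Eab _ h.aE _ he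
  have hae' : a * e' = e' * a := h.gd.Eab _ h.aE _ he'
  have hbe' : (g * a * g⁻¹) * (g * e' * g⁻¹) = (g * e' * g⁻¹) * (g * a * g⁻¹) := by
    calc (g * a * g⁻¹) * (g * e' * g⁻¹) = g * (a * e') * g⁻¹ := by group
      _ = _ := by rw [hae']; group
  -- `a` commutes with `g e' g⁻¹`
  have h3 : a * (g * e' * g⁻¹) = (g * e' * g⁻¹) * a := by
    have h4 : e * (a * (g * e' * g⁻¹)) * b = e * ((g * e' * g⁻¹) * a) * b := by
      calc e * (a * (g * e' * g⁻¹)) * b = (e * a) * (g * e' * g⁻¹) * b := by group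
        _ = a * (e * (g * e' * g⁻¹) * b) := by rw [← hae]; group
        _ = e * (g * e' * g⁻¹) * (b * a) := by rw [h1]; group
        _ = _ := by rw [← hab]; group
    exact mul_left_cancel (mul_right_cancel h4)
  have h4 := (h.gd.perp h.aE h.a1 h.az he').1 (h.gd.symm h.aE he' h3)
  have h5 : e * (g * a * g⁻¹) = (g * a * g⁻¹) * e := by
    have h6 : ((g * a * g⁻¹) * e) * ((g * e' * g⁻¹) * b) = (e * (g * a * g⁻¹)) * ((g * e' * g⁻¹) * b) := by
      calc ((g * a * g⁻¹) * e) * ((g * e' * g⁻¹) * b) = (g * a * g⁻¹) * (e * (g * e' * g⁻¹) * b) := by group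
        _ = e * (g * e' * g⁻¹) * (b * (g * a * g⁻¹)) := by rw [h2]; group
        _ = e * ((g * e' * g⁻¹) * (g * a * g⁻¹)) * b := by rw [← hbb]; group
        _ = _ := by rw [← hbe']; group
    exact (mul_right_cancel h6).symm
  have h6 := (h.gd.perp h.aE h.a1 h.az he).1 h5
  -- membership
  have hzR : z ∈ h.R := h.mem_R.2 ⟨h.BQF h.zB, fun q hq => by
    have : z * q * z⁻¹ * q⁻¹ = 1 := by
      rw [← h.Cz q (h.QC hq)]; group
    rw [this]; exact one_mem _⟩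
  have hBR : b ∈ h.R := h.mem_R.2 ⟨h.BQF hb, fun q hq => by
    have : b * q * b⁻¹ * q⁻¹ = b * (q * b⁻¹ * q⁻¹) := by group
    rw [this]
    exact mul_mem hb (h.nB q (h.QC hq) _ (inv_mem hb))⟩
  have k : ∀ w : G, (w = 1 ∨ w = z ∨ w = a ∨ w = a * z) → w ∈ h.R := by
    rintro w (rfl | rfl | rfl | rfl)
    · exact one_mem _
    · exact hzR
    · exact h.aR
    · exact mul_mem h.aR hzR
  exact mul_mem (mul_mem (k e h6) (h.nR g h.gC _ (k e' h4))) hBR

/-- **`J ≤ Q`** -/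
theorem mem_Q_of_J [Finite G] {c : G} (hc : c ∈ C) (h1 : c * a * c⁻¹ * a⁻¹ ∈ B)
    (h2 : c * (g * a * g⁻¹) * c⁻¹ * (g * a * g⁻¹)⁻¹ ∈ B) : c ∈ Q := by
  have hzz := h.gd.zz
  have hzi := h.gd.zi
  rw [h.Qo2]
  refine K.chain5 h.hC (R := QF) (U := h.R) (W := B) (Z := zpowers z) h.nQF h.nR h.nB ?_
    (by rw [← h.Qo2]; exact h.QFQ) (by rw [← h.Qo2]; exact h.RQF.trans h.QFQ)
    (by rw [← h.Qo2]; exact h.BQF.trans h.QFQ) (by rw [← h.Qo2, zpowers_le]; exact h.QFQ (h.BQF h.zB)) hc ?_ ?_ ?_ ?_ ?_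
  · intro c hc x hx
    obtain ⟨k, rfl⟩ := mem_zpowers_iff.1 hx
    have h3 : Commute c z := h.Cz c hc
    rw [(h3.zpow_right k).eq, mul_inv_cancel_right]
    exact zpow_mem (mem_zpowers z) k
  · intro x hx
    rw [← h.Qo2] at hx
    by_cases hxF : x ∈ QF
    · exact mul_mem (h.nQF c hc x hxF) (inv_mem hxF)
    · refine h.QF2 _ (h.nQ c hc x hx) _ (inv_mem hx) (fun hcon => hxF ?_) fun hcon => hxF (inv_mem_iff.1 hcon)
      have := h.gi h.nQF hc hcon
      rwa [show c⁻¹ * (c * x * c⁻¹) * c = x by group] at this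
  · -- `QF / R`
    intro x hx
    have key : ∀ r ∈ Qs, c * r * c⁻¹ * r⁻¹ ∈ B →
        r * (c * x * c⁻¹ * x⁻¹) = (c * x * c⁻¹ * x⁻¹) * r := by
      intro r hr hrB
      obtain ⟨b, hb, hcr⟩ : ∃ b ∈ B, c⁻¹ * r * c = r * b := by
        refine ⟨r⁻¹ * (c⁻¹ * (c * r * c⁻¹ * r⁻¹)⁻¹ * c) * r, ?_, by group⟩
        exact h.gi h.nB (h.QsC hr) (h.gi h.nB hc (inv_mem hrB))
      have hxb : x * b = b * x := h.QFB x hx b hb
      obtain ⟨ζ, hζz, hζ⟩ : ∃ ζ : G, (ζ = 1 ∨ ζ = z) ∧ x * r * x⁻¹ = ζ * r := by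
        rcases h.com r hr x hx with h3 | h3
        · exact ⟨1, Or.inl rfl, by rw [← h3]; group⟩
        · refine ⟨z, Or.inr rfl, ?_⟩
          have h4 : x * r = z * (r * x) := by rw [h3, ← mul_assoc, hzz, one_mul]
          rw [h4]; group
      have hζc : ∀ w ∈ C, w * ζ = ζ * w := by
        intro w hw
        rcases hζz with rfl | rfl
        · rw [mul_one, one_mul]
        · exact h.Cz w hw
      have hζ2 : ζ * ζ = 1 := by
        rcases hζz with rfl | rfl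
        · exact one_mul 1
        · exact hzz
      have hxC := h.QFC hx
      -- `(c x c⁻¹) r (c x c⁻¹)⁻¹ = ζ r`
      have h5 : (c * x * c⁻¹) * r * (c * x * c⁻¹)⁻¹ = ζ * r := by
        calc (c * x * c⁻¹) * r * (c * x * c⁻¹)⁻¹ = c * (x * (c⁻¹ * r * c) * x⁻¹) * c⁻¹ := by group
          _ = c * (x * r * (b * x⁻¹)) * c⁻¹ := by rw [hcr]; group
          _ = c * (x * r * (x⁻¹ * b)) * c⁻¹ := by rw [inv_comm' hxb]
          _ = c * ((x * r * x⁻¹) * b) * c⁻¹ := by group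
          _ = (c * ζ) * (r * b) * c⁻¹ := by rw [hζ]; group
          _ = ζ * c * (c⁻¹ * r * c) * c⁻¹ := by rw [hζc c hc, hcr]
          _ = ζ * r := by group
      have h6 : x⁻¹ * r * x = ζ * r := by
        have h7 : x⁻¹ * (ζ * r) * x = r := by rw [← hζ]; group
        calc x⁻¹ * r * x = (ζ * ζ) * (x⁻¹ * r * x) := by rw [hζ2, one_mul]
          _ = ζ * ((ζ * x⁻¹) * r * x) := by group
          _ = ζ * ((x⁻¹ * ζ) * r * x) := by rw [hζc _ (inv_mem hxC)]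
          _ = ζ * (x⁻¹ * (ζ * r) * x) := by group
          _ = ζ * r := by rw [h7]
      have h8 : (c * x * c⁻¹ * x⁻¹) * r * (c * x * c⁻¹ * x⁻¹)⁻¹ = r := by
        have hxcC : c * x * c⁻¹ ∈ C := mul_mem (mul_mem hc hxC) (inv_mem hc)
        calc (c * x * c⁻¹ * x⁻¹) * r * (c * x * c⁻¹ * x⁻¹)⁻¹
            = (c * x * c⁻¹) * (x⁻¹ * r * x) * (c * x * c⁻¹)⁻¹ := by group
          _ = ((c * x * c⁻¹) * ζ) * r * (c * x * c⁻¹)⁻¹ := by rw [h6]; group
          _ = ζ * ((c * x * c⁻¹) * r * (c * x * c⁻¹)⁻¹) := by rw [hζc _ hxcC]; group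
          _ = r := by rw [h5, ← mul_assoc, hζ2, one_mul]
      exact (mul_inv_eq_iff_eq_mul.1 h8).symm
    refine h.R_of_comm (mul_mem (h.nQF c hc x hx) (inv_mem hx)) (key a (h.EQs h.aE) h1) (key _ (h.gE h.aE) h2)
  · exact fun x hx => h.R_B hc h1 h2 hx
  · intro x hx
    rcases h.Bz c hc x hx with h3 | h3
    · rw [h3]; exact one_mem _
    · rw [h3]; exact mem_zpowers z
  · intro x hx
    obtain ⟨k, rfl⟩ := mem_zpowers_iff.1 hx
    have h3 : Commute c z := h.Cz c hc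
    exact (h3.zpow_right k).eq

/-- the elements of `R` mod `B` -/
theorem R_cases {x : G} (hx : x ∈ h.R) : ∃ b ∈ B, x = b ∨ x = a * b ∨ x = (g * a * g⁻¹) * b ∨
    x = a * (g * a * g⁻¹) * b := by
  obtain ⟨e, e', he, he', b, hb, hxe⟩ := h.R_dec hx
  have hgz : g * z * g⁻¹ = z := by rw [h.Cz g h.gC]; group
  have hbC : g * a * g⁻¹ ∈ C := h.RQF.trans h.QFC h.bR
  have k1 : ∃ α ζ : G, (α = 1 ∨ α = a) ∧ ζ ∈ B ∧ (ζ = 1 ∨ ζ = z) ∧ e = α * ζ := by
    rcases he with h1 | h1 | h1 | h1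
    · exact ⟨1, 1, Or.inl rfl, one_mem _, Or.inl rfl, by rw [h1, mul_one]⟩
    · exact ⟨1, z, Or.inl rfl, h.zB, Or.inr rfl, by rw [h1, one_mul]⟩
    · exact ⟨a, 1, Or.inr rfl, one_mem _, Or.inl rfl, by rw [h1, mul_one]⟩
    · exact ⟨a, z, Or.inr rfl, h.zB, Or.inr rfl, h1⟩
  have k2 : ∃ α ζ : G, (α = 1 ∨ α = g * a * g⁻¹) ∧ ζ ∈ B ∧ g * e' * g⁻¹ = α * ζ := by
    rcases he' with h1 | h1 | h1 | h1
    · exact ⟨1, 1, Or.inl rfl, one_mem _, by rw [h1]; group⟩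
    · exact ⟨1, z, Or.inl rfl, h.zB, by rw [h1, one_mul, hgz]⟩
    · exact ⟨g * a * g⁻¹, 1, Or.inr rfl, one_mem _, by rw [h1, mul_one]⟩
    · refine ⟨g * a * g⁻¹, z, Or.inr rfl, h.zB, ?_⟩
      calc g * e' * g⁻¹ = (g * a * g⁻¹) * (g * z * g⁻¹) := by rw [h1]; group
        _ = _ := by rw [hgz]
  obtain ⟨α, ζ, hα, hζB, hζ, rfl⟩ := k1
  obtain ⟨α', ζ', hα', hζB', hζ'⟩ := k2
  have hα'C : α' ∈ C := by
    rcases hα' with h1 | h1
    · rw [h1]; exact one_mem _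
    · rw [h1]; exact hbC
  have hζc : ζ * α' = α' * ζ := by
    rcases hζ with h1 | h1
    · rw [h1, one_mul, mul_one]
    · rw [h1]; exact (h.Cz _ hα'C).symm
  have hx2 : x = α * α' * (ζ * ζ' * b) := by
    rw [hxe, hζ']
    calc α * ζ * (α' * ζ') * b = α * (ζ * α') * ζ' * b := by group
      _ = _ := by rw [hζc]; group
  refine ⟨ζ * ζ' * b, mul_mem (mul_mem hζB hζB') hb, ?_⟩
  rcases hα with h1 | h1 <;> rcases hα' with h2 | h2
  · left; rw [hx2, h1, h2]; group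
  · right; right; left; rw [hx2, h1, h2, one_mul]
  · right; left; rw [hx2, h1, h2, mul_one]
  · right; right; right; rw [hx2, h1, h2]

theorem not_a {b : G} (hb : b ∈ B) : a ≠ b := by
  rintro rfl
  rcases h.BE a hb h.aE with h1 | h1
  · exact h.a1 h1
  · exact h.az h1

/-- `g⁻¹ a g ∈ a b B` -/
theorem ginv : ∃ β ∈ B, g⁻¹ * a * g = (g * a * g⁻¹) * a * β := by
  rcases h.gd.third h.aE h.a1 h.az with h1 | h1
  · exact ⟨1, one_mem _, by rw [h1, mul_one]⟩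
  · exact ⟨z, h.zB, h1⟩

/-- **an element of `C` fixing `a B` is in `Q ∪ v Q`** -/
theorem fix_a [Finite G] {c : G} (hc : c ∈ C) (h1 : c * a * c⁻¹ * a⁻¹ ∈ B) : c ∈ Q ∨ v * c ∈ Q := by
  have hbR := h.nR c hc _ h.bR
  have hbC : g * a * g⁻¹ ∈ C := h.RQF.trans h.QFC h.bR
  have haC := h.EC h.aE
  obtain ⟨b, hb, h2⟩ := h.R_cases hbR
  rcases h2 with h2 | h2 | h2 | h2
  · exfalso
    have h3 : a = (c * g)⁻¹ * b * (c * g) := by rw [← h2]; group
    exact h.not_a (h.gi h.nB (mul_mem hc h.gC) hb) h3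
  · exfalso
    -- `a⁻¹ (g a g⁻¹) ∈ B`
    have h4 : a⁻¹ * (g * a * g⁻¹) = c⁻¹ * ((c * a * c⁻¹)⁻¹ * (c * (g * a * g⁻¹) * c⁻¹)) * c := by group
    have h5 : (c * a * c⁻¹)⁻¹ * (c * (g * a * g⁻¹) * c⁻¹) ∈ B := by
      have h6 : (c * a * c⁻¹)⁻¹ * (c * (g * a * g⁻¹) * c⁻¹) =
          a⁻¹ * (c * a * c⁻¹ * a⁻¹)⁻¹ * a * b := by rw [h2]; group
      rw [h6]
      exact mul_mem (h.gi h.nB haC (inv_mem h1)) hb
    have h7 : a⁻¹ * (g * a * g⁻¹) ∈ B := by rw [h4]; exact h.gi h.nB hc h5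
    obtain ⟨h8, -⟩ := h.dir (inv_mem h.aE) h.aE h7 rfl
    rw [inv_eq_one, h.gd.Einv h.aE] at h8
    exact h8.elim h.a1 h.az
  · left
    refine h.mem_Q_of_J hc h1 ?_
    rw [h2]
    exact h.nB _ hbC _ hb
  · right
    obtain ⟨β, hβ, h3⟩ := h.ginv
    have hva : v * a * v⁻¹ = a := by rw [h.gd.vE a h.aE]; group
    have hvb : v * (g * a * g⁻¹) * v⁻¹ = (g * a * g⁻¹) * a * β := by
      rw [h.gd.conj_v h.aE, h3]
    refine h.mem_Q_of_J (mul_mem h.vC hc) ?_ ?_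
    · have h4 : v * c * a * (v * c)⁻¹ * a⁻¹ = v * (c * a * c⁻¹ * a⁻¹) * v⁻¹ * (v * a * v⁻¹ * a⁻¹) := by group
      rw [h4, hva, mul_inv_cancel, mul_one]
      exact h.nB v h.vC _ h1
    · have h4 : v * c * (g * a * g⁻¹) * (v * c)⁻¹ = (g * a * g⁻¹) * (β * (v * b * v⁻¹)) := by
        calc v * c * (g * a * g⁻¹) * (v * c)⁻¹ = v * (c * (g * a * g⁻¹) * c⁻¹) * v⁻¹ := by group
          _ = (v * a * v⁻¹) * (v * (g * a * g⁻¹) * v⁻¹) * (v * b * v⁻¹) := by rw [h2]; group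
          _ = a * ((g * a * g⁻¹) * a) * β * (v * b * v⁻¹) := by rw [hva, hvb]; group
          _ = (a * a) * (g * a * g⁻¹) * (β * (v * b * v⁻¹)) := by rw [← h.ab]; group
          _ = _ := by rw [h.aa, one_mul]
      rw [h4]
      exact h.nB _ hbC _ (mul_mem hβ (h.nB v h.vC b hb))

/-- **`C = {1, g, g⁻¹} {1, v} Q`** -/
theorem all [Finite G] {c : G} (hc : c ∈ C) :
    ∃ k : G, (k = 1 ∨ k = g ∨ k = g⁻¹) ∧ (k * c ∈ Q ∨ v * (k * c) ∈ Q) := by
  have haC := h.EC h.aE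
  obtain ⟨b, hb, h2⟩ := h.R_cases (h.nR c hc _ h.aR)
  rcases h2 with h2 | h2 | h2 | h2
  · exfalso
    have h3 : a = c⁻¹ * b * c := by rw [← h2]; group
    exact h.not_a (h.gi h.nB hc hb) h3
  · refine ⟨1, Or.inl rfl, ?_⟩
    rw [one_mul]
    refine h.fix_a hc ?_
    rw [h2]
    exact h.nB a haC b hb
  · refine ⟨g⁻¹, Or.inr (Or.inr rfl), h.fix_a (mul_mem (inv_mem h.gC) hc) ?_⟩
    have h3 : g⁻¹ * c * a * (g⁻¹ * c)⁻¹ * a⁻¹ = a * (g⁻¹ * b * g) * a⁻¹ := by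
      calc g⁻¹ * c * a * (g⁻¹ * c)⁻¹ * a⁻¹ = g⁻¹ * (c * a * c⁻¹) * g * a⁻¹ := by group
        _ = _ := by rw [h2]; group
    rw [h3]
    exact h.nB a haC _ (h.gi h.nB h.gC hb)
  · refine ⟨g, Or.inr (Or.inl rfl), h.fix_a (mul_mem h.gC hc) ?_⟩
    have hw : (g * a * g⁻¹) * (g * a * g⁻¹) = 1 := h.gd.sq_conj h.aE
    have hgz : g * z * g⁻¹ = z := by rw [h.Cz g h.gC]; group
    obtain ⟨ζ, hζ, h4⟩ : ∃ ζ ∈ B, g * h.gd.tau a * g⁻¹ = (g * a * g⁻¹) * ζ := by
      rcases h.gd.tau_eq h.aE h.a1 h.az with h5 | h5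
      · exact ⟨1, one_mem _, by rw [h5, mul_one]⟩
      · refine ⟨z, h.zB, ?_⟩
        rw [h5]
        calc g * (a * z) * g⁻¹ = (g * a * g⁻¹) * (g * z * g⁻¹) := by group
          _ = _ := by rw [hgz]
    have h3 : g * c * a * (g * c)⁻¹ * a⁻¹ = ζ * (a * (g * b * g⁻¹) * a⁻¹) := by
      calc g * c * a * (g * c)⁻¹ * a⁻¹ = g * (c * a * c⁻¹) * g⁻¹ * a⁻¹ := by group
        _ = (g * a * g⁻¹) * (g * g * a * (g * g)⁻¹) * (g * b * g⁻¹) * a⁻¹ := by rw [h2]; group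
        _ = (g * a * g⁻¹) * ((g * a * g⁻¹) * ζ * a) * (g * b * g⁻¹) * a⁻¹ := by
            rw [h.gd.conj_sq h.aE, h4]
        _ = ((g * a * g⁻¹) * (g * a * g⁻¹)) * ζ * (a * (g * b * g⁻¹) * a⁻¹) := by group
        _ = _ := by rw [hw, one_mul]
    rw [h3]
    exact mul_mem hζ (h.nB a haC _ (h.nB g h.gC b hb))

/-- `Qs = E^g E` -/
theorem Qs_W [Finite G] (gen : Qs ≤ closure {x | ∃ c ∈ C, ∃ e ∈ E, x = c * e * c⁻¹}) {x : G} (hx : x ∈ Qs) :
    ∃ e' ∈ E, ∃ e ∈ E, x = (g * e' * g⁻¹) * e := by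
  have hW : ∀ {x}, x ∈ E.map (MulAut.conj g).toMonoidHom ⊔ E ↔
      ∃ a ∈ E.map (MulAut.conj g).toMonoidHom, ∃ b ∈ E, x = a * b := fun {x} => by
    refine mem_sup_iff ?_
    rintro _ ⟨e, he, rfl⟩ b hb
    exact h.nE _ (h.QFQ (h.QsQF (h.gE he))) b hb
  have h1 : ∀ e ∈ E, g * e * g⁻¹ ∈ E.map (MulAut.conj g).toMonoidHom := fun e he => ⟨e, he, rfl⟩
  have h2 : Qs ≤ E.map (MulAut.conj g).toMonoidHom ⊔ E := by
    refine gen.trans ((closure_le _).2 ?_)
    rintro _ ⟨c, hc, e, he, rfl⟩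
    obtain ⟨k, hk, hkc⟩ := h.all hc
    obtain ⟨e₁, he₁, h3⟩ : ∃ e₁ ∈ E, c * e * c⁻¹ = k⁻¹ * e₁ * k := by
      rcases hkc with h4 | h4
      · exact ⟨_, h.nE _ h4 e he, by group⟩
      · refine ⟨_, h.nE _ h4 e he, ?_⟩
        have h5 := h.nE _ h4 e he
        have h6 : v⁻¹ * ((v * (k * c)) * e * (v * (k * c))⁻¹) * v = (v * (k * c)) * e * (v * (k * c))⁻¹ := by
          have h7 := h.gd.vE _ h5
          rw [mul_assoc, ← h7]; group
        rw [← h6]; group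
    rw [SetLike.mem_coe, h3]
    rcases hk with rfl | rfl | rfl
    · rw [inv_one, one_mul, mul_one]; exact mem_sup_right he₁
    · by_cases h4 : e₁ = 1
      · subst h4
        rw [mul_one, inv_mul_cancel]; exact one_mem _
      by_cases h5 : e₁ = z
      · subst h5
        have : k⁻¹ * e₁ * k = e₁ := by rw [mul_assoc, ← h.Cz k h.gC]; group
        rw [this]; exact mem_sup_right he₁
      rcases h.gd.third he₁ h4 h5 with h6 | h6
      · rw [h6]; exact mul_mem (mem_sup_left (h1 _ he₁)) (mem_sup_right he₁)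
      · rw [h6]
        exact mul_mem (mul_mem (mem_sup_left (h1 _ he₁)) (mem_sup_right he₁)) (mem_sup_right h.gd.zE)
    · rw [inv_inv]; exact mem_sup_left (h1 _ he₁)
  obtain ⟨_, ⟨e', he', rfl⟩, e, he, rfl⟩ := hW.1 (h2 hx)
  exact ⟨e', he', e, he, rfl⟩

/-- `C_Qs(E) = E` -/
theorem Qs_cent [Finite G] (gen : Qs ≤ closure {x | ∃ c ∈ C, ∃ e ∈ E, x = c * e * c⁻¹}) {x : G} (hx : x ∈ Qs)
    (hxE : ∀ e ∈ E, x * e = e * x) : x ∈ E := by
  obtain ⟨e', he', e, he, rfl⟩ := h.Qs_W gen hx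
  have h1 : ∀ u ∈ E, u * (g * e' * g⁻¹) = (g * e' * g⁻¹) * u := by
    intro u hu
    have h2 := hxE u hu
    have h3 : (g * e' * g⁻¹) * u * e = u * (g * e' * g⁻¹) * e := by
      calc (g * e' * g⁻¹) * u * e = (g * e' * g⁻¹) * e * u := by rw [mul_assoc, h.gd.Eab u hu e he, ← mul_assoc]
        _ = _ := by rw [h2]; group
    exact (mul_right_cancel h3).symm
  rcases h.gd.ff e' he' h1 with rfl | rfl
  · rw [mul_one, mul_inv_cancel, one_mul]; exact he
  · rw [h.Cz g h.gC, mul_inv_cancel_right]; exact mul_mem he' he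

end SevD

end Cfsg.Agent.Omega.NOne.AG.Seven

end

section


/-!
# N1, type (γ): `|V / E| = 2` (bb #14731, helper537 (1)-(3)): the group theory in `C`

`Y = ⟨E^C⟩ ≤ Z(Q)`, `E = ⟨z, e₀⟩`; `v₁`, `v₂` act on `Y` as transvections with centres `z e₀`, `e₀`, and
`w = v₁ v₂ ∉ Q = O₂(C)`.  By Baer-Suzuki some `w^g` satisfies the braid relation with `v₁` or `v₂` on `Y / ⟨z⟩`,
so `w^g` is conjugate to `v_i` modulo `Q`: contradiction (`|[Y, w]| = 4`).
-/

set_option autoImplicit false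

namespace Cfsg.Agent.Omega.NOne.AG

open Subgroup Cfsg Cfsg.Agent.ZN

universe u

section words

variable {H : Type*} [Group H]

theorem braid (a b : H ≃* H) {e e' y : H} (ee : e * e = 1) (ee' : e' * e' = 1) (c : e' * e = e * e')
    (ae : a e = e) (be' : b e' = e') (ae' : a e' = e * e') (be : b e = e' * e)
    (ay : a y = y ∨ a y = e * y) (hb : b y = y ∨ b y = e' * y) : a (b (a y)) = b (a (b y)) := by
  have r1 : ∀ x, e * (e * x) = x := fun x => by rw [← mul_assoc, ee, one_mul]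
  have r2 : ∀ x, e' * (e' * x) = x := fun x => by rw [← mul_assoc, ee', one_mul]
  have r3 : ∀ x, e' * (e * x) = e * (e' * x) := fun x => by rw [← mul_assoc, c, mul_assoc]
  rcases ay with ay | ay <;> rcases hb with hb | hb <;>
    simp only [ay, hb, map_mul, ae, be', ae', be, mul_assoc, r1, r2, r3]

theorem four (a b : H ≃* H) {e e' y : H} (ee : e * e = 1) (ee' : e' * e' = 1) (c : e' * e = e * e')
    (ae : a e = e) (be' : b e' = e') (be : b e = e) (ae' : a e' = e' ∨ a e' = e * e')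
    (ay : a y = y ∨ a y = e * y) (hb : b y = y ∨ b y = e' * y) :
    a (b (a (b (a (b (a (b y))))))) = y := by
  have r1 : ∀ x, e * (e * x) = x := fun x => by rw [← mul_assoc, ee, one_mul]
  have r2 : ∀ x, e' * (e' * x) = x := fun x => by rw [← mul_assoc, ee', one_mul]
  have r3 : ∀ x, e' * (e * x) = e * (e' * x) := fun x => by rw [← mul_assoc, c, mul_assoc]
  rcases ay with ay | ay <;> rcases hb with hb | hb <;> rcases ae' with ae' | ae' <;>
    simp only [ay, hb, map_mul, ae, be', ae', be, mul_assoc, r1, r2, r3]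

end words

variable {G : Type u} [Group G]

/-- The data. -/
structure IdxD (C Q Y : Subgroup G) (z e₀ v₁ v₂ : G) : Prop where
  Qo2 : Q = o2 C
  char2 : ∀ c ∈ C, (∀ x ∈ Q, c * x = x * c) → c ∈ Q
  Cz : ∀ c ∈ C, c * z = z * c
  z2 : z * z = 1
  z1 : z ≠ 1
  zY : z ∈ Y
  YQ : Y ≤ Q
  QY : ∀ x ∈ Q, ∀ y ∈ Y, x * y = y * x
  nY : C ≤ normalizer (Y : Set G)
  v1C : v₁ ∈ C
  v2C : v₂ ∈ C
  sq1 : v₁ * v₁ = 1
  sq2 : v₂ * v₂ = 1
  cv : v₁ * v₂ = v₂ * v₁
  QV1 : ∀ x ∈ Q, v₁ * x * v₁⁻¹ * x⁻¹ ∈ Y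
  QV2 : ∀ x ∈ Q, v₂ * x * v₂⁻¹ * x⁻¹ ∈ Y
  e0Y : e₀ ∈ Y
  e02 : e₀ * e₀ = 1
  ev1 : v₁ * e₀ = e₀ * v₁
  ev2 : v₂ * e₀ = e₀ * v₂
  t1 : ∀ y ∈ Y, v₁ * y * v₁⁻¹ = y ∨ v₁ * y * v₁⁻¹ = z * e₀ * y
  t2 : ∀ y ∈ Y, v₂ * y * v₂⁻¹ = y ∨ v₂ * y * v₂⁻¹ = e₀ * y
  y1 : ∃ y ∈ Y, v₁ * y * v₁⁻¹ = z * e₀ * y ∧ v₂ * y * v₂⁻¹ = y
  y2 : ∃ y ∈ Y, v₁ * y * v₁⁻¹ = y ∧ v₂ * y * v₂⁻¹ = e₀ * y

namespace IdxD

variable {C Q Y : Subgroup G} {z e₀ v₁ v₂ : G} (h : IdxD C Q Y z e₀ v₁ v₂)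
include h

theorem nQ : C ≤ normalizer (Q : Set G) := by rw [h.Qo2]; exact le_normalizer_o2 _

theorem YC : Y ≤ C := h.YQ.trans (by rw [h.Qo2]; exact o2_le _)

theorem Yz {y : G} (hy : y ∈ Y) : y * z = z * y := h.Cz y (h.YC hy)

/-- (1) -/
theorem K2 [Finite G] {c : G} (hc : c ∈ C) (h1 : ∀ x ∈ Q, c * x * c⁻¹ * x⁻¹ ∈ Y)
    (h2 : ∀ y ∈ Y, Eqz z (c * y * c⁻¹) y) : c ∈ Q := by
  have hzn : ∀ c ∈ C, ∀ k ∈ zpowers z, c * k * c⁻¹ = k := by
    rintro c hc _ ⟨n, rfl⟩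
    have h1 : Commute c z := h.Cz c hc
    change c * z ^ n * c⁻¹ = z ^ n
    rw [(h1.zpow_right n).eq]; group
  let N : ℕ → Subgroup G := fun k => match k with
    | 0 => Q
    | 1 => Y
    | 2 => zpowers z
    | _ + 3 => ⊥
  rw [h.Qo2]
  refine chain_mem (C := C) (by rw [← h.Qo2]; exact h.char2) 3 N h.Qo2 rfl ?_ ?_ hc ?_
  · intro k
    match k with
    | 0 => exact h.nQ
    | 1 => exact h.nY
    | 2 =>
      refine le_norm_of fun c hc x hx => ?_
      change c * x * c⁻¹ ∈ zpowers z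
      rw [hzn c hc x hx]; exact hx
    | _ + 3 =>
      refine le_norm_of fun c hc x hx => ?_
      change c * x * c⁻¹ ∈ (⊥ : Subgroup G)
      rw [mem_bot.1 hx]; simp
  · intro k
    match k with
    | 0 => exact h.YQ
    | 1 => exact (zpowers_le).2 h.zY
    | 2 => exact bot_le
    | _ + 3 => exact le_rfl
  · intro k
    match k with
    | 0 => exact h1
    | 1 =>
      intro x hx
      change c * x * c⁻¹ * x⁻¹ ∈ zpowers z
      rcases h2 x hx with h3 | h3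
      · rw [h3, mul_inv_cancel]; exact one_mem _
      · rw [h3, mul_inv_cancel_right]; exact mem_zpowers z
    | 2 =>
      intro x hx
      change c * x * c⁻¹ * x⁻¹ ∈ (⊥ : Subgroup G)
      rw [hzn c hc x hx, mul_inv_cancel]; exact one_mem _
    | _ + 3 =>
      intro x hx
      change c * x * c⁻¹ * x⁻¹ ∈ (⊥ : Subgroup G)
      rw [mem_bot.1 hx]; simp

/-- the centraliser of `Q / Y` in `C` -/
def L (_h : IdxD C Q Y z e₀ v₁ v₂) : Subgroup G where
  carrier := {c | c ∈ C ∧ ∀ x ∈ Q, c * x * c⁻¹ * x⁻¹ ∈ Y}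
  one_mem' := ⟨one_mem _, fun x _ => by simp⟩
  mul_mem' := by
    rintro a b ⟨ha0, ha⟩ ⟨hb0, hb⟩
    refine ⟨mul_mem ha0 hb0, fun x hx => ?_⟩
    have e : a * b * x * (a * b)⁻¹ * x⁻¹ = (a * (b * x * b⁻¹ * x⁻¹) * a⁻¹) * (a * x * a⁻¹ * x⁻¹) := by
      group
    rw [e]
    exact mul_mem (norm_conj _h.nY ha0 (hb x hx)) (ha x hx)
  inv_mem' := by
    rintro a ⟨ha0, ha⟩
    refine ⟨inv_mem ha0, fun x hx => ?_⟩
    have e : a⁻¹ * x * a⁻¹⁻¹ * x⁻¹ = a⁻¹ * (a * x * a⁻¹ * x⁻¹)⁻¹ * a⁻¹⁻¹ := by group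
    rw [e]
    exact norm_conj _h.nY (inv_mem ha0) (inv_mem (ha x hx))

theorem L_conj {c x : G} (hc : c ∈ C) (hx : x ∈ h.L) : c * x * c⁻¹ ∈ h.L := by
  refine ⟨mul_mem (mul_mem hc hx.1) (inv_mem hc), fun y hy => ?_⟩
  have h1 := norm_conj h.nY hc (hx.2 _ (norm_conj h.nQ (inv_mem hc) hy))
  have e : c * x * c⁻¹ * y * (c * x * c⁻¹)⁻¹ * y⁻¹ =
      c * (x * (c⁻¹ * y * c⁻¹⁻¹) * x⁻¹ * (c⁻¹ * y * c⁻¹⁻¹)⁻¹) * c⁻¹ := by group
  rw [e]; exact h1

theorem v1L : v₁ ∈ h.L := ⟨h.v1C, h.QV1⟩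

theorem v2L : v₂ ∈ h.L := ⟨h.v2C, h.QV2⟩

/-- **(3)** -/
theorem false [Finite G] (hw : v₁ * v₂ ∉ Q) : False := by
  set w := v₁ * v₂ with hwd
  have hwL : w ∈ h.L := mul_mem h.v1L h.v2L
  have hwC : w ∈ C := hwL.1
  have hw2 : w * w = 1 := by
    calc w * w = v₁ * (v₂ * v₁) * v₂ := by rw [hwd]; group
      _ = v₁ * (v₁ * v₂) * v₂ := by rw [h.cv]
      _ = (v₁ * v₁) * (v₂ * v₂) := by group
      _ = 1 := by rw [h.sq1, h.sq2, one_mul]
  -- Baer–Suzuki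
  obtain ⟨g, hgC, hg1, hgo, hgv⟩ : ∃ g ∈ C, g ≠ 1 ∧ Odd (orderOf g) ∧ w * g * w⁻¹ = g⁻¹ := by
    have h1 : ¬ IsPGroup 2 (Subgroup.normalClosure {(⟨w, hwC⟩ : C)} : Subgroup C) := by
      intro hp
      apply hw
      rw [h.Qo2]
      have h2 : (Subgroup.normalClosure {(⟨w, hwC⟩ : C)}).map C.subtype ≤ o2 C := by
        refine Cfsg.Agent.MinSimple.VModule.le_o2 ?_ (hp.map _) ?_
        · rintro _ ⟨x, -, rfl⟩; exact x.2
        · refine le_norm_of ?_
          rintro c hc _ ⟨x, hx, rfl⟩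
          exact ⟨⟨c, hc⟩ * x * ⟨c, hc⟩⁻¹, Subgroup.Normal.conj_mem inferInstance x hx _, rfl⟩
      exact h2 ⟨⟨w, hwC⟩, Subgroup.subset_normalClosure rfl, rfl⟩
    obtain ⟨g, hg1, hgo, hgv⟩ := Involutions.BaerSuzuki.exists_odd_inverted (⟨w, hwC⟩ : C)
      (Subtype.ext hw2) h1
    refine ⟨g, g.2, fun hc => hg1 (Subtype.ext hc), ?_, congrArg Subtype.val hgv⟩
    rwa [Subgroup.orderOf_coe]
  set w' := g * w * g⁻¹ with hw'
  have hw'L : w' ∈ h.L := h.L_conj hgC hwL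
  have hw'C : w' ∈ C := hw'L.1
  have hww : w * w' = g⁻¹ * g⁻¹ := by
    calc w * w' = w * g * w⁻¹ * (w * w) * g⁻¹ := by rw [hw']; group
      _ = g⁻¹ * g⁻¹ := by rw [hgv, hw2, mul_one]
  set e' := g * e₀ * g⁻¹ with he'
  have he'Y : e' ∈ Y := norm_conj h.nY hgC h.e0Y
  -- the quotient
  let zC : C := ⟨z, h.YC h.zY⟩
  have hzc : ∀ c : C, c * zC = zC * c := fun c => Subtype.ext (h.Cz c c.2)
  have hN : (zpowers zC).Normal := ⟨by
    rintro _ ⟨n, rfl⟩ c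
    have h1 : Commute c zC := hzc c
    change c * zC ^ n * c⁻¹ ∈ _
    rw [(h1.zpow_right n).eq, mul_inv_cancel_right]
    exact ⟨n, rfl⟩⟩
  let π : C →* C ⧸ zpowers zC := QuotientGroup.mk' _
  have hπ : ∀ a b : C, π a = π b ↔ Eqz z (a : G) b := by
    intro a b
    have hz2 : zC * zC = 1 := Subtype.ext h.z2
    have h2 : zC ^ (2 : ℤ) = 1 := by rw [zpow_two, hz2]
    have h0 : π a = π b ↔ a⁻¹ * b ∈ zpowers zC := QuotientGroup.eq
    have h01 : a⁻¹ * b ∈ zpowers zC ↔ a⁻¹ * b = 1 ∨ a⁻¹ * b = zC := by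
      constructor
      · rintro ⟨k, hk⟩
        have hk' : zC ^ k = a⁻¹ * b := hk
        rcases Int.even_or_odd' k with ⟨m, hm | hm⟩
        · rw [hm, zpow_mul, h2, one_zpow] at hk'
          exact Or.inl hk'.symm
        · rw [hm, zpow_add, zpow_mul, h2, one_zpow, one_mul, zpow_one] at hk'
          exact Or.inr hk'.symm
      · rintro (h3 | h3)
        · rw [h3]; exact one_mem _
        · rw [h3]; exact mem_zpowers _
    rw [h0, h01, inv_mul_eq_one, inv_mul_eq_iff_eq_mul]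
    constructor
    · rintro (h3 | h3)
      · exact Or.inl (congrArg Subtype.val h3)
      · right
        have h4 : (b : G) = a * z := congrArg Subtype.val h3
        rw [h4, h.Cz _ a.2, ← mul_assoc, h.z2, one_mul]
    · rintro (h3 | h3)
      · exact Or.inl (Subtype.ext h3)
      · right
        apply Subtype.ext
        change (b : G) = a * z
        rw [h3, mul_assoc, h.Cz _ b.2, ← mul_assoc, h.z2, one_mul]
  have hcj : ∀ c x : C, MulAut.conj (π c) (π x) = π (c * x * c⁻¹) := by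
    intro c x
    rw [MulAut.conj_apply, map_mul, map_mul, map_inv]
  let ce : C := ⟨e₀, h.YC h.e0Y⟩
  let ce' : C := ⟨e', h.YC he'Y⟩
  let cw : C := ⟨w, hwC⟩
  let cw' : C := ⟨w', hw'C⟩
  have hee : π ce * π ce = 1 := by
    rw [← map_mul, show ce * ce = 1 from Subtype.ext h.e02, map_one]
  have he'2 : e' * e' = 1 := by
    calc e' * e' = g * (e₀ * e₀) * g⁻¹ := by rw [he']; group
      _ = 1 := by rw [h.e02]; group
  have hee' : π ce' * π ce' = 1 := by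
    rw [← map_mul, show ce' * ce' = 1 from Subtype.ext he'2, map_one]
  have hc0 : e' * e₀ = e₀ * e' := h.QY e' (h.YQ he'Y) e₀ h.e0Y
  have hc1 : π ce' * π ce = π ce * π ce' := by
    rw [← map_mul, ← map_mul, show ce' * ce = ce * ce' from Subtype.ext hc0]
  have hconjY : ∀ {c y : G}, c ∈ C → y ∈ Y → c * y * c⁻¹ ∈ Y := fun hc hy => norm_conj h.nY hc hy
  -- (S1)
  have S1 : ∀ y ∈ Y, Eqz z (w * y * w⁻¹) y ∨ Eqz z (w * y * w⁻¹) (e₀ * y) := by
    intro y hy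
    have e1 : w * y * w⁻¹ = v₁ * (v₂ * y * v₂⁻¹) * v₁⁻¹ := by rw [hwd]; group
    have e2 : v₁ * (e₀ * y) * v₁⁻¹ = e₀ * (v₁ * y * v₁⁻¹) := by
      calc v₁ * (e₀ * y) * v₁⁻¹ = (v₁ * e₀) * y * v₁⁻¹ := by group
        _ = e₀ * (v₁ * y * v₁⁻¹) := by rw [h.ev1]; group
    have hze : e₀ * z = z * e₀ := h.Yz h.e0Y
    rcases h.t2 y hy with h2 | h2 <;> rcases h.t1 y hy with h1 | h1
    · left; left; rw [e1, h2, h1]
    · right; right; rw [e1, h2, h1, mul_assoc]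
    · right; left; rw [e1, h2, e2, h1]
    · left; right
      rw [e1, h2, e2, h1, mul_assoc z, ← mul_assoc e₀ z, hze, mul_assoc z, ← mul_assoc e₀ e₀, h.e02,
        one_mul]
  have S2 : ∀ y ∈ Y, Eqz z (w' * y * w'⁻¹) y ∨ Eqz z (w' * y * w'⁻¹) (e' * y) := by
    intro y hy
    have hy0 : g⁻¹ * y * g⁻¹⁻¹ ∈ Y := hconjY (inv_mem hgC) hy
    have e1 : w' * y * w'⁻¹ = g * (w * (g⁻¹ * y * g⁻¹⁻¹) * w⁻¹) * g⁻¹ := by rw [hw']; group
    rcases S1 _ hy0 with h1 | h1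
    · left
      have h2 := h1.conj (h.Cz g hgC)
      rw [← e1] at h2
      exact h2.of_eq_right (by group)
    · right
      have h2 := h1.conj (h.Cz g hgC)
      rw [← e1] at h2
      exact h2.of_eq_right (by rw [he']; group)
  have hwe : w * e₀ * w⁻¹ = e₀ := by
    have e1 : w * e₀ * w⁻¹ = v₁ * (v₂ * e₀) * v₂⁻¹ * v₁⁻¹ := by rw [hwd]; group
    rw [e1, h.ev2]
    calc v₁ * (e₀ * v₂) * v₂⁻¹ * v₁⁻¹ = (v₁ * e₀) * v₁⁻¹ := by group
      _ = e₀ := by rw [h.ev1]; group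
  have hw'e' : w' * e' * w'⁻¹ = e' := by
    calc w' * e' * w'⁻¹ = g * (w * e₀ * w⁻¹) * g⁻¹ := by rw [hw', he']; group
      _ = e' := by rw [hwe]
  -- `x^4` is not in `Q`
  have hodd : ∀ {x : G}, x ∈ C → x ≠ 1 → Odd (orderOf x) → x * (x * (x * x)) ∈ Q → False := by
    intro x hx hx1 hxo hxQ
    have e1 : x * (x * (x * x)) = x ^ (2 ^ 2) := by
      rw [show (2 : ℕ) ^ 2 = 3 + 1 from rfl, pow_succ', pow_succ', pow_two]
    rw [e1] at hxQ
    have hpQ : IsPGroup 2 Q := by rw [h.Qo2]; exact MinSimple.VModule.o2_isPGroup C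
    obtain ⟨m, hm⟩ := LemmaT.exists_pow_eq_one hpQ
    have h2 := hm _ hxQ
    rw [← pow_mul, ← pow_add] at h2
    have h3 : orderOf x ∣ 2 ^ (2 + m) := orderOf_dvd_of_pow_eq_one h2
    have h5 : Nat.Coprime (orderOf x) (2 ^ (2 + m)) := hxo.coprime_two_right.pow_right _
    exact hx1 (orderOf_eq_one_iff.1 (Nat.Coprime.eq_one_of_dvd h5 h3))
  have hgg : g * g ≠ 1 := by
    intro hc
    have h3 : orderOf g ∣ 2 := orderOf_dvd_of_pow_eq_one (by rw [pow_two, hc])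
    exact hg1 (orderOf_eq_one_iff.1 (Nat.Coprime.eq_one_of_dvd hgo.coprime_two_right h3))
  have hoo : Odd (orderOf (g * g)) := by
    rw [← pow_two]
    exact hgo.of_dvd_nat (orderOf_pow_dvd 2)
  have hxL : w * w' ∈ h.L := mul_mem hwL hw'L
  have hxL' : w' * w ∈ h.L := mul_mem hw'L hwL
  have hx1 : w * w' ≠ 1 := by
    rw [hww, ← mul_inv_rev]
    exact inv_ne_one.2 hgg
  have hxo : Odd (orderOf (w * w')) := by
    rw [hww, ← mul_inv_rev, orderOf_inv]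
    exact hoo
  have hx' : w' * w = (w * w')⁻¹ := by
    have e1 : w⁻¹ = w := inv_eq_of_mul_eq_one_left hw2
    have e2 : w'⁻¹ = w' := by
      calc w'⁻¹ = g * w⁻¹ * g⁻¹ := by rw [hw', mul_inv_rev, mul_inv_rev, inv_inv, mul_assoc]
        _ = w' := by rw [e1]
    rw [mul_inv_rev, e1, e2]
  have hx1' : w' * w ≠ 1 := by rw [hx']; exact inv_ne_one.2 hx1
  have hxo' : Odd (orderOf (w' * w)) := by rw [hx', orderOf_inv]; exact hxo
  -- translation
  have tr : ∀ {c y ε : G} (hc : c ∈ C) (hy : y ∈ Y) (hε : ε ∈ Y), Eqz z (c * y * c⁻¹) (ε * y) →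
      MulAut.conj (π ⟨c, hc⟩) (π ⟨y, h.YC hy⟩) = π ⟨ε, h.YC hε⟩ * π ⟨y, h.YC hy⟩ := by
    intro c y ε hc hy hε h1
    rw [hcj, ← map_mul, hπ]
    exact h1
  have tr1 : ∀ {c y : G} (hc : c ∈ C) (hy : y ∈ Y), Eqz z (c * y * c⁻¹) y →
      MulAut.conj (π ⟨c, hc⟩) (π ⟨y, h.YC hy⟩) = π ⟨y, h.YC hy⟩ := by
    intro c y hc hy h1
    rw [hcj, hπ]
    exact h1
  -- Case A
  by_cases hA : Eqz z (w' * e₀ * w'⁻¹) e₀
  · refine hodd hxL.1 hx1 hxo (h.K2 ?_ ?_ ?_)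
    · exact mul_mem hxL.1 (mul_mem hxL.1 (mul_mem hxL.1 hxL.1))
    · exact (mul_mem hxL (mul_mem hxL (mul_mem hxL hxL))).2
    · intro y hy
      have h1 := four (MulAut.conj (π cw)) (MulAut.conj (π cw')) (e := π ce) (e' := π ce')
        (y := π ⟨y, h.YC hy⟩) hee hee' hc1 (tr1 hwC h.e0Y (Or.inl hwe)) (tr1 hw'C he'Y (Or.inl hw'e'))
        (tr1 hw'C h.e0Y hA)
        ((S1 e' he'Y).imp (fun h2 => tr1 hwC he'Y h2) (fun h2 => tr hwC he'Y h.e0Y h2))
        ((S1 y hy).imp (fun h2 => tr1 hwC hy h2) (fun h2 => tr hwC hy h.e0Y h2))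
        ((S2 y hy).imp (fun h2 => tr1 hw'C hy h2) (fun h2 => tr hw'C hy he'Y h2))
      have h2 : π ((cw * cw') * ((cw * cw') * ((cw * cw') * (cw * cw'))) * ⟨y, h.YC hy⟩ *
          ((cw * cw') * ((cw * cw') * ((cw * cw') * (cw * cw'))))⁻¹) = π ⟨y, h.YC hy⟩ := by
        rw [← hcj]
        simp only [map_mul, MulAut.mul_apply]
        exact h1
      exact (hπ _ _).1 h2
  by_cases hB : Eqz z (w * e' * w⁻¹) e'
  · refine hodd hxL'.1 hx1' hxo' (h.K2 ?_ ?_ ?_)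
    · exact mul_mem hxL'.1 (mul_mem hxL'.1 (mul_mem hxL'.1 hxL'.1))
    · exact (mul_mem hxL' (mul_mem hxL' (mul_mem hxL' hxL'))).2
    · intro y hy
      have h1 := four (MulAut.conj (π cw')) (MulAut.conj (π cw)) (e := π ce') (e' := π ce)
        (y := π ⟨y, h.YC hy⟩) hee' hee hc1.symm (tr1 hw'C he'Y (Or.inl hw'e'))
        (tr1 hwC h.e0Y (Or.inl hwe))
        (tr1 hwC he'Y hB)
        ((S2 e₀ h.e0Y).imp (fun h2 => tr1 hw'C h.e0Y h2) (fun h2 => tr hw'C h.e0Y he'Y h2))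
        ((S2 y hy).imp (fun h2 => tr1 hw'C hy h2) (fun h2 => tr hw'C hy he'Y h2))
        ((S1 y hy).imp (fun h2 => tr1 hwC hy h2) (fun h2 => tr hwC hy h.e0Y h2))
      have h2 : π ((cw' * cw) * ((cw' * cw) * ((cw' * cw) * (cw' * cw))) * ⟨y, h.YC hy⟩ *
          ((cw' * cw) * ((cw' * cw) * ((cw' * cw) * (cw' * cw))))⁻¹) = π ⟨y, h.YC hy⟩ := by
        rw [← hcj]
        simp only [map_mul, MulAut.mul_apply]
        exact h1
      exact (hπ _ _).1 h2
  -- Case C: the braid relation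
  have hA' : Eqz z (w' * e₀ * w'⁻¹) (e' * e₀) := (S2 e₀ h.e0Y).resolve_left hA
  -- `[Y, w] > 2`
  obtain ⟨y₁, hy₁, a1, a2⟩ := h.y1
  obtain ⟨y₂, hy₂, b1, b2⟩ := h.y2
  have e1 : w * y₁ * w⁻¹ = z * e₀ * y₁ := by
    calc w * y₁ * w⁻¹ = v₁ * (v₂ * y₁ * v₂⁻¹) * v₁⁻¹ := by rw [hwd]; group
      _ = z * e₀ * y₁ := by rw [a2, a1]
  have e2 : w * y₂ * w⁻¹ = e₀ * y₂ := by
    calc w * y₂ * w⁻¹ = v₁ * (v₂ * y₂ * v₂⁻¹) * v₁⁻¹ := by rw [hwd]; group
      _ = (v₁ * e₀) * y₂ * v₁⁻¹ := by rw [b2]; group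
      _ = e₀ * (v₁ * y₂ * v₁⁻¹) := by rw [h.ev1]; group
      _ = e₀ * y₂ := by rw [b1]
  have hgz := h.Cz g hgC
  have e3 : w' * (g * y₁ * g⁻¹) * w'⁻¹ = z * e' * (g * y₁ * g⁻¹) := by
    calc w' * (g * y₁ * g⁻¹) * w'⁻¹ = g * (w * y₁ * w⁻¹) * g⁻¹ := by rw [hw']; group
      _ = (g * z) * e₀ * y₁ * g⁻¹ := by rw [e1]; group
      _ = z * e' * (g * y₁ * g⁻¹) := by rw [hgz, he']; group
  have e4 : w' * (g * y₂ * g⁻¹) * w'⁻¹ = e' * (g * y₂ * g⁻¹) := by
    calc w' * (g * y₂ * g⁻¹) * w'⁻¹ = g * (w * y₂ * w⁻¹) * g⁻¹ := by rw [hw']; group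
      _ = e' * (g * y₂ * g⁻¹) := by rw [e2, he']; group
  have hze : e₀ * z = z * e₀ := h.Yz h.e0Y
  have he01 : ¬ Eqz z e₀ 1 := by
    intro hc
    apply hA
    rcases hc with hc | hc
    · left; rw [hc]; group
    · left
      rw [hc, mul_one, h.Cz w' hw'C]; group
  have key : ∀ v ε : G, v ∈ h.L → v * e₀ = e₀ * v → (∀ y ∈ Y, v * y * v⁻¹ = y ∨ v * y * v⁻¹ = ε * y) →
      (ε = e₀ ∨ ε = z * e₀) → Eqz z (v * e' * v⁻¹) (e₀ * e') → False := by
    intro v ε hvL hve hv hε hve'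
    have hvC := hvL.1
    have S3 : ∀ y ∈ Y, Eqz z (v * y * v⁻¹) y ∨ Eqz z (v * y * v⁻¹) (e₀ * y) := by
      intro y hy
      rcases hv y hy with h1 | h1
      · exact Or.inl (Or.inl h1)
      · right
        rcases hε with h2 | h2
        · left; rw [h1, h2]
        · right; rw [h1, h2, mul_assoc]
    let cvv : C := ⟨v, hvC⟩
    -- `d`
    have hd : v * w' * v * (w' * v * w')⁻¹ ∈ Q := by
      have hdL : v * w' * v * (w' * v * w')⁻¹ ∈ h.L :=
        mul_mem (mul_mem (mul_mem hvL hw'L) hvL) (inv_mem (mul_mem (mul_mem hw'L hvL) hw'L))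
      refine h.K2 hdL.1 hdL.2 ?_
      -- first for `y` replaced by its conjugate
      have key1 : ∀ y ∈ Y, Eqz z (v * w' * v * y * (v * w' * v)⁻¹) (w' * v * w' * y * (w' * v * w')⁻¹) := by
        intro y hy
        have h1 := braid (MulAut.conj (π cvv)) (MulAut.conj (π cw')) (e := π ce) (e' := π ce')
          (y := π ⟨y, h.YC hy⟩) hee hee' hc1 (tr1 hvC h.e0Y (Or.inl (by rw [hve]; group)))
          (tr1 hw'C he'Y (Or.inl hw'e')) (tr hvC he'Y h.e0Y hve') (tr hw'C h.e0Y he'Y hA')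
          ((S3 y hy).imp (fun h2 => tr1 hvC hy h2) (fun h2 => tr hvC hy h.e0Y h2))
          ((S2 y hy).imp (fun h2 => tr1 hw'C hy h2) (fun h2 => tr hw'C hy he'Y h2))
        have h2 : π (cvv * cw' * cvv * ⟨y, h.YC hy⟩ * (cvv * cw' * cvv)⁻¹) =
            π (cw' * cvv * cw' * ⟨y, h.YC hy⟩ * (cw' * cvv * cw')⁻¹) := by
          rw [← hcj, ← hcj]
          simp only [map_mul, MulAut.mul_apply]
          exact h1
        exact (hπ _ _).1 h2
      intro y hy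
      have hcc : w' * v * w' ∈ C := mul_mem (mul_mem hw'C hvC) hw'C
      have h3 := key1 _ (hconjY (inv_mem hcc) hy)
      exact (h3.of_eq_left (by group)).of_eq_right (by group)
    -- `c v c⁻¹` and `w'` agree on `Y`
    have hag : ∀ y ∈ Y, (v * w') * v * (v * w')⁻¹ * y * ((v * w') * v * (v * w')⁻¹)⁻¹ = w' * y * w'⁻¹ := by
      intro y hy
      have h4 := h.QY _ hd _ (hconjY hw'C hy)
      have e5 : (v * w') * v * (v * w')⁻¹ * y * ((v * w') * v * (v * w')⁻¹)⁻¹ =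
          v * w' * v * (w' * v * w')⁻¹ * (w' * y * w'⁻¹) * (v * w' * v * (w' * v * w')⁻¹)⁻¹ := by group
      rw [e5, h4, mul_inv_cancel_right]
    have hcc : v * w' ∈ C := mul_mem hvC hw'C
    set δ := (v * w') * ε * (v * w')⁻¹ with hδ
    have hval : ∀ y ∈ Y, w' * y * w'⁻¹ = y ∨ w' * y * w'⁻¹ = δ * y := by
      intro y hy
      rw [← hag y hy]
      have hy0 := hconjY (inv_mem hcc) hy
      have e5 : (v * w') * v * (v * w')⁻¹ * y * ((v * w') * v * (v * w')⁻¹)⁻¹ =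
          (v * w') * (v * ((v * w')⁻¹ * y * (v * w')⁻¹⁻¹) * v⁻¹) * (v * w')⁻¹ := by group
      rw [e5]
      rcases hv _ hy0 with h6 | h6
      · left; rw [h6]; group
      · right; rw [h6, hδ]; group
    have he'1 : ¬ Eqz z e' 1 := by
      intro hc
      apply he01
      have h7 := hc.conj (a := g⁻¹) (by rw [inv_comm' hgz])
      exact (h7.of_eq_left (by rw [he']; group)).of_eq_right (by group)
    have f1 := hval _ (hconjY hgC hy₁)
    have f2 := hval _ (hconjY hgC hy₂)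
    rw [e3] at f1
    rw [e4] at f2
    have g1 : z * e' = δ := by
      rcases f1 with f1 | f1
      · exfalso
        apply he'1
        have h8 : z * e' = 1 := mul_right_cancel (f1.trans (one_mul _).symm)
        right
        rw [mul_one]
        have h9 : e' = z⁻¹ := eq_inv_of_mul_eq_one_right h8
        rw [h9]
        exact inv_eq_of_mul_eq_one_left h.z2
      · exact mul_right_cancel f1
    have g2 : e' = δ := by
      rcases f2 with f2 | f2
      · exact absurd (Or.inl (mul_right_cancel (f2.trans (one_mul _).symm))) he'1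
      · exact mul_right_cancel f2
    exact h.z1 (mul_right_cancel ((g1.trans g2.symm).trans (one_mul _).symm))
  -- which `v`
  have hz2 := h.z2
  rcases h.t1 e' he'Y with c1 | c1 <;> rcases h.t2 e' he'Y with c2 | c2
  · apply hB
    left
    calc w * e' * w⁻¹ = v₁ * (v₂ * e' * v₂⁻¹) * v₁⁻¹ := by rw [hwd]; group
      _ = e' := by rw [c2, c1]
  · exact key v₂ e₀ h.v2L h.ev2 h.t2 (Or.inl rfl) (Or.inl c2)
  · exact key v₁ (z * e₀) h.v1L h.ev1 h.t1 (Or.inr rfl) (Or.inr (by rw [c1, mul_assoc]))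
  · apply hB
    right
    calc w * e' * w⁻¹ = v₁ * (v₂ * e' * v₂⁻¹) * v₁⁻¹ := by rw [hwd]; group
      _ = (v₁ * e₀) * e' * v₁⁻¹ := by rw [c2]; group
      _ = e₀ * (v₁ * e' * v₁⁻¹) := by rw [h.ev1]; group
      _ = (e₀ * z) * e₀ * e' := by rw [c1]; group
      _ = z * (e₀ * e₀) * e' := by rw [hze]; group
      _ = z * e' := by rw [h.e02, mul_one]

end IdxD

end Cfsg.Agent.Omega.NOne.AG

end
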