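import Cfsg.Agent.Mrg.Omega.NOne.AG.Base
import Cfsg.Agent.Mrg.Omega.NOne.AG.TwoLab
import Cfsg.Agent.Mrg.Omega.NOne.AG.GOf
import Cfsg.Agent.Omega.NOne.AG.LemY
import Cfsg.Agent.Omega.NOne.AG.FiveEnd

section


/-!
# THEOREM D0ag (#15001): LEMMA Y (4) on the structures `Base`, `Lab`; helper950

* `LabY.d8` : the permutations fixing `z_{01|23}`;
* `LabY.not_conj` : **LEMMA Y**: no `y a b` is conjugate to a `z i`.
-/

set_option autoImplicit false

namespace Cfsg.Agent.Omega.NOne.AG.LabY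

open Subgroup Cfsg Cfsg.Agent.ZN Cfsg.Agent.Omega.NOne.AG
open Cfsg.Agent.Omega.NOne.AG.FiveDl (Ys Yt ac ph par)

universe u

/-! ### permutations -/

theorem ext5 {σ τ : Equiv.Perm (Fin 5)} (h0 : σ 0 = τ 0) (h1 : σ 1 = τ 1) (h2 : σ 2 = τ 2) (h3 : σ 3 = τ 3)
    (h4 : σ 4 = τ 4) : σ = τ := by
  ext x
  fin_cases x
  · exact congrArg _ h0
  · exact congrArg _ h1
  · exact congrArg _ h2
  · exact congrArg _ h3
  · exact congrArg _ h4

/-- `(0 2)(1 3)` -/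
def tt : Equiv.Perm (Fin 5) := Equiv.swap 0 2 * Equiv.swap 1 3

/-- the eight tuples -/
def tups : List (Fin 5 × Fin 5 × Fin 5 × Fin 5 × Fin 5) :=
  [(0, 1, 2, 3, 4), (1, 0, 2, 3, 4), (0, 1, 3, 2, 4), (1, 0, 3, 2, 4),
    (2, 3, 0, 1, 4), (3, 2, 0, 1, 4), (2, 3, 1, 0, 4), (3, 2, 1, 0, 4)]

theorem tup : ∀ a b c d e : Fin 5, D5 a b c d e → Yt a b ^^^ Yt c d = 5 → (a, b, c, d, e) ∈ tups := by
  decide

/-- the stabiliser of `z_{01|23}` -/
theorem d8 {σ : Equiv.Perm (Fin 5)} (h : Yt (σ 0) (σ 1) ^^^ Yt (σ 2) (σ 3) = 5) :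
    (σ = 1 ∨ σ = Equiv.swap 0 1 ∨ σ = Equiv.swap 2 3 ∨ σ = Equiv.swap 0 1 * Equiv.swap 2 3) ∨
    (σ = tt ∨ σ = tt * Equiv.swap 0 1 ∨ σ = tt * Equiv.swap 2 3 ∨ σ = tt * (Equiv.swap 0 1 * Equiv.swap 2 3)) := by
  have hD : D5 (σ 0) (σ 1) (σ 2) (σ 3) (σ 4) := D5.map (show D5 0 1 2 3 4 by decide) σ
  have h5 := tup _ _ _ _ _ hD h
  simp only [tups, List.mem_cons, Prod.mk.injEq, List.not_mem_nil, or_false] at h5
  rcases h5 with h1 | h1 | h1 | h1 | h1 | h1 | h1 | h1 <;> obtain ⟨h0, h1, h2, h3, h4⟩ := h1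
  · exact Or.inl (Or.inl (ext5 h0 h1 h2 h3 h4))
  · exact Or.inl (Or.inr (Or.inl (ext5 (h0.trans (by decide)) (h1.trans (by decide)) (h2.trans (by decide))
      (h3.trans (by decide)) (h4.trans (by decide)))))
  · exact Or.inl (Or.inr (Or.inr (Or.inl (ext5 (h0.trans (by decide)) (h1.trans (by decide)) (h2.trans (by decide))
      (h3.trans (by decide)) (h4.trans (by decide))))))
  · exact Or.inl (Or.inr (Or.inr (Or.inr (ext5 (h0.trans (by decide)) (h1.trans (by decide)) (h2.trans (by decide))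
      (h3.trans (by decide)) (h4.trans (by decide))))))
  · exact Or.inr (Or.inl (ext5 (h0.trans (by decide)) (h1.trans (by decide)) (h2.trans (by decide))
      (h3.trans (by decide)) (h4.trans (by decide))))
  · exact Or.inr (Or.inr (Or.inl (ext5 (h0.trans (by decide)) (h1.trans (by decide)) (h2.trans (by decide))
      (h3.trans (by decide)) (h4.trans (by decide)))))
  · exact Or.inr (Or.inr (Or.inr (Or.inl (ext5 (h0.trans (by decide)) (h1.trans (by decide)) (h2.trans (by decide))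
      (h3.trans (by decide)) (h4.trans (by decide))))))
  · exact Or.inr (Or.inr (Or.inr (Or.inr (ext5 (h0.trans (by decide)) (h1.trans (by decide)) (h2.trans (by decide))
      (h3.trans (by decide)) (h4.trans (by decide))))))

variable {G : Type u} [Group G] {ι : Type*}

theorem o2_conj' {L : Subgroup G} {g x : G} (hg : g ∈ normalizer (L : Set G)) (hx : x ∈ o2 L) :
    g * x * g⁻¹ ∈ o2 L := by
  have h : (o2 L).map (MulAut.conj g).toMonoidHom ≤ o2 L := by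
    refine Cfsg.Agent.MinSimple.VModule.le_o2 ?_ ((Cfsg.Agent.MinSimple.VModule.o2_isPGroup L).map _)
      (le_norm_of ?_)
    · rintro _ ⟨y, hy, rfl⟩
      exact (mem_normalizer_iff.1 hg y).1 (Cfsg.Agent.MinSimple.VModule.o2_le L hy)
    · rintro y hy _ ⟨z, hz, rfl⟩
      have h1 : g⁻¹ * y * g ∈ L := (mem_normalizer_iff''.1 hg y).1 hy
      refine ⟨(g⁻¹ * y * g) * z * (g⁻¹ * y * g)⁻¹, ?_, ?_⟩
      · exact (mem_normalizer_iff.1 (Cfsg.Agent.MinSimple.VModule.le_normalizer_o2 L h1) z).1 hz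
      · change g * ((g⁻¹ * y * g) * z * (g⁻¹ * y * g)⁻¹) * g⁻¹ = y * (g * z * g⁻¹) * y⁻¹
        group
  exact h ⟨x, hx, rfl⟩

section

variable {P V T : Subgroup G} {z : ι → G} {opp : ι → ι → Prop} {C Q QF Qs : ι → Subgroup G}
variable {h : Conf P V T z opp C Q QF Qs} {y : Fin 5 → Fin 5 → G}
  {pt : Fin 5 → Fin 5 → Fin 5 → Fin 5 → ι}
variable (L : Lab h y pt)
include L

theorem z_code {a b c d : Fin 5} (hD : D4 a b c d) : z (pt a b c d) = ph y (Yt a b ^^^ Yt c d) := by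
  rw [L.z_eq a b c d hD, ← L.ys.mul, L.ys.yt hD.1, L.ys.yt hD.2.2.2.2.2]

/-- the points are all the elements of `V#` -/
theorem exists_pt {v : G} (hv : v ∈ V) (hv1 : v ≠ 1) : ∃ a b c d, D4 a b c d ∧ v = z (pt a b c d) := by
  obtain ⟨w, hw, hp, rfl⟩ := L.V_code hv
  by_cases h0 : w = 0
  · subst h0; exact absurd FiveDl.ph_zero hv1
  · obtain ⟨a, b, c, d, hD, rfl⟩ := FiveDl.even_cases w hw h0 hp
    exact ⟨a, b, c, d, hD, (z_code L hD).symm⟩

omit L in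
/-- two elements with the same action differ by an element of `C_P(V)` -/
theorem same_act (L : Lab h y pt) {x x' : G} {σ : Equiv.Perm (Fin 5)} (h1 : Ov P y σ x) (h2 : Ov P y σ x') :
    x * x'⁻¹ ∈ P ∧ ∀ v ∈ V, (x * x'⁻¹) * v = v * (x * x'⁻¹) := by
  refine ⟨mul_mem h1.1 (inv_mem h2.1), fun v hv => L.comm_V (x := x * x'⁻¹) ?_ v hv⟩
  have h3 := FiveDl.Ov.mul (Lab.ov h1) (FiveDl.Ov.inv (Lab.ov h2))
  rwa [mul_inv_cancel] at h3

/-- the elements of `P` commuting with `z_{01|23}` -/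
theorem ov_z {x : G} (hx : x ∈ P) (hxz : x * z (pt 0 1 2 3) = z (pt 0 1 2 3) * x) :
    ∃ σ, Ov P y σ x ∧ Yt (σ 0) (σ 1) ^^^ Yt (σ 2) (σ 3) = 5 := by
  obtain ⟨σ, hσ⟩ := L.act x hx
  refine ⟨σ, hσ, ?_⟩
  have hD : D4 0 1 2 3 := by decide
  have h1 : x * z (pt 0 1 2 3) * x⁻¹ = z (pt 0 1 2 3) := by rw [hxz]; group
  have h2 : x * z (pt 0 1 2 3) * x⁻¹ = y (σ 0) (σ 1) * y (σ 2) (σ 3) := by
    rw [L.z_eq 0 1 2 3 hD, ← hσ.2 0 1 (by decide), ← hσ.2 2 3 (by decide)]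
    group
  have hD' := hD.map σ
  rw [h1, z_code L hD, ← L.ys.yt hD'.1, ← L.ys.yt hD'.2.2.2.2.2, L.ys.mul] at h2
  have h3 := L.ph_inj (by decide) (Nat.xor_lt_two_pow (n := 5) (FiveDl.Yt_lt _ _) (FiveDl.Yt_lt _ _)) h2
  rw [← h3]
  decide

/-- the codes of the points opposite to `z_{01|23}` -/
theorem opp_code {i : ι} (hi : opp (pt 0 1 2 3) i) :
    z i = ph y 30 ∨ z i = ph y 15 ∨ z i = ph y 18 ∨ z i = ph y 6 ∨ z i = ph y 3 ∨ z i = ph y 10 ∨
      z i = ph y 23 ∨ z i = ph y 27 := by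
  rw [L.opp_iff 0 1 2 3 4 (by decide)] at hi
  rcases hi with rfl | rfl | rfl | rfl | rfl | rfl | rfl | rfl
  · exact Or.inl (z_code L (by decide))
  · exact Or.inr (Or.inl (z_code L (by decide)))
  · exact Or.inr (Or.inr (Or.inl (z_code L (by decide))))
  · exact Or.inr (Or.inr (Or.inr (Or.inl (z_code L (by decide)))))
  · exact Or.inr (Or.inr (Or.inr (Or.inr (Or.inl (z_code L (by decide))))))
  · exact Or.inr (Or.inr (Or.inr (Or.inr (Or.inr (Or.inl (z_code L (by decide)))))))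
  · exact Or.inr (Or.inr (Or.inr (Or.inr (Or.inr (Or.inr (Or.inl (z_code L (by decide))))))))
  · exact Or.inr (Or.inr (Or.inr (Or.inr (Or.inr (Or.inr (Or.inr (z_code L (by decide))))))))

omit L in
theorem Ecodes : ∀ w < 32, w ∈ [0, 5, 29, 24, 12, 9, 20, 17] → par w = false ∧
    w ∉ [30, 15, 18, 6, 3, 10, 23, 27] := by decide

omit L in
theorem Ecodes' : ∀ w < 32, par w = false → w ∉ [0, 5, 29, 24, 12, 9, 20, 17] →
    w ^^^ 30 ∈ [0, 5, 29, 24, 12, 9, 20, 17] := by decide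

/-- `E = z^⊥` -/
theorem mem_Q {w : ℕ} (hw : w < 32) (hw' : w ∈ [0, 5, 29, 24, 12, 9, 20, 17]) : ph y w ∈ Q (pt 0 1 2 3) := by
  obtain ⟨hp, hn⟩ := Ecodes w hw hw'
  by_cases h0 : w = 0
  · subst h0; rw [FiveDl.ph_zero]; exact one_mem _
  · obtain ⟨a, b, c, d, hD, hc⟩ := FiveDl.even_cases w hw h0 hp
    by_contra hQ
    have h1 : z (pt a b c d) = ph y w := by rw [z_code L hD, hc]
    rw [← h1] at hQ
    apply hn
    rcases opp_code L ((h.opp_iff _ _).2 hQ) with h2 | h2 | h2 | h2 | h2 | h2 | h2 | h2 <;>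
    · rw [h1] at h2
      rw [L.ph_inj hw (by norm_num) h2]
      decide

/-- `z_{02|14}` is opposite -/
theorem not_mem_Q30 : ph y 30 ∉ Q (pt 0 1 2 3) := by
  have h1 : z (pt 0 2 1 4) = ph y 30 := z_code L (by decide)
  rw [← h1, ← h.opp_iff, L.opp_iff 0 1 2 3 4 (by decide)]
  exact Or.inl rfl

theorem mem_Q_iff {w : ℕ} (hw : w < 32) (hp : par w = false) :
    ph y w ∈ Q (pt 0 1 2 3) ↔ w ∈ [0, 5, 29, 24, 12, 9, 20, 17] := by
  refine ⟨fun hQ => ?_, mem_Q L hw⟩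
  by_contra hn
  have h1 := mem_Q L (Nat.xor_lt_two_pow (n := 5) hw (by norm_num)) (Ecodes' w hw hp hn)
  rw [← L.ys.mul] at h1
  have h2 := mul_mem (inv_mem hQ) h1
  rw [inv_mul_cancel_left] at h2
  exact not_mem_Q30 L h2

/-- an element of `Q_i` over `⟨(01), (23)⟩` is in `QF_i` -/
theorem mem_QF {x : G} (hx : x ∈ Q (pt 0 1 2 3)) {σ : Equiv.Perm (Fin 5)} (hσ : Ov P y σ x)
    (h4 : σ = 1 ∨ σ = Equiv.swap 0 1 ∨ σ = Equiv.swap 2 3 ∨ σ = Equiv.swap 0 1 * Equiv.swap 2 3) :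
    x ∈ QF (pt 0 1 2 3) := by
  obtain ⟨a, ha, ha'⟩ := L.Qs_ex 0 1 2 3 (by decide)
  obtain ⟨b, hb, hb'⟩ := L.Qs_ex 2 3 0 1 (by decide)
  rw [← L.pt2 0 1 2 3 (by decide)] at hb
  obtain ⟨x', hx', hx''⟩ : ∃ x' ∈ Qs (pt 0 1 2 3), Ov P y σ x' := by
    rcases h4 with rfl | rfl | rfl | rfl
    · exact ⟨1, one_mem _, one_mem _, fun a b _ => by simp⟩
    · exact ⟨a, ha, ha'⟩
    · exact ⟨b, hb, hb'⟩
    · exact ⟨a * b, mul_mem ha hb, mul_mem ha'.1 hb'.1, FiveDl.Ov.mul ha'.2 hb'.2⟩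
  obtain ⟨-, hc⟩ := same_act L hσ hx''
  set c := x * x'⁻¹ with hcd
  have hxc : x = c * x' := by rw [hcd]; group
  refine h.QQF _ x hx fun v hv hvQ => ?_
  rcases h.com _ v (h.VQs _ v hv hvQ) x' (h.QsQF _ hx') with h1 | h1
  · left
    rw [hxc, mul_assoc, ← h1, ← mul_assoc, hc v hv, mul_assoc]
  · right
    have h2 : x' * v = z (pt 0 1 2 3) * (v * x') := by
      rw [h1, ← mul_assoc, h.sq, one_mul]
    calc x * v = c * (x' * v) := by rw [hxc]; group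
      _ = (c * z (pt 0 1 2 3)) * (v * x') := by rw [h2]; group
      _ = z (pt 0 1 2 3) * (c * v) * x' := by rw [hc _ (h.zV _)]; group
      _ = z (pt 0 1 2 3) * (v * x) := by rw [hc v hv, hxc]; group

/-- `Qs` is nonabelian -/
theorem nonab : ∃ a ∈ Qs (pt 0 1 2 3), ∃ b ∈ Qs (pt 0 1 2 3), a * b ≠ b * a := by
  by_contra hcon
  push Not at hcon
  have h1 := L.ph_V (w := 29) (by norm_num) (by decide)
  have h2 := mem_Q L (w := 29) (by norm_num) (by decide)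
  rcases h.fixE _ _ h1 (fun x hx => hcon x hx _ (h.VQs _ _ h1 h2)) with h3 | h3
  · rw [← FiveDl.ph_zero (y := y)] at h3
    exact absurd (L.ph_inj (by norm_num) (by norm_num) h3) (by norm_num)
  · rw [z_code L (by decide)] at h3
    exact absurd (L.ph_inj (by norm_num) (by decide) h3) (by decide)

end

section

variable [Finite G] {S : Sylow 2 G} {P V T : Subgroup G} {z : ι → G} {opp : ι → ι → Prop}
  {C Q QF Qs : ι → Subgroup G} {y : Fin 5 → Fin 5 → G} {pt : Fin 5 → Fin 5 → Fin 5 → Fin 5 → ι}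
variable (h : Base S P V T z opp C Q QF Qs (pt 0 1 2 3)) (L : Lab h.toConf y pt)
include h L

theorem hC : C (pt 0 1 2 3) ⊓ centralizer (o2 (C (pt 0 1 2 3)) : Set G) ≤ o2 (C (pt 0 1 2 3)) := by
  rw [← h.Qo2]
  intro c hc
  exact h.char2 _ c (mem_inf.1 hc).1 fun x hx => ((mem_centralizer_iff.1 (mem_inf.1 hc).2) x hx).symm

/-- some element of `S` acts as `(02)(13)` -/
theorem exists_s : ∃ s ∈ (S : Subgroup G), Ov P y tt s := by
  obtain ⟨m, hm⟩ := L.full tt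
  have hmz : m * z (pt 0 1 2 3) * m⁻¹ = z (pt 0 1 2 3) := by
    rw [L.z_eq 0 1 2 3 (by decide)]
    calc m * (y 0 1 * y 2 3) * m⁻¹ = (m * y 0 1 * m⁻¹) * (m * y 2 3 * m⁻¹) := by group
      _ = y 2 3 * y 0 1 := by
        rw [hm.2 0 1 (by decide), hm.2 2 3 (by decide)]
        rfl
      _ = y 0 1 * y 2 3 := L.comm _ _ _ _ (by decide) (by decide)
  obtain ⟨s, hs, c, hc, hcV, hsc⟩ := h.stab m hm.1 (mul_inv_eq_iff_eq_mul.1 hmz)
  refine ⟨s, hs, h.S_le_P hs, fun a b hab => ?_⟩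
  haveI : Nonempty ι := L.nonempty
  have h1 : c * y a b = y a b * c := h.Dl_comm hc hcV (L.y_mem_Dl hab)
  have h2 : c * y a b * c⁻¹ = y a b := by rw [h1]; group
  rw [← hm.2 a b hab, hsc]
  calc s * y a b * s⁻¹ = s * (c * y a b * c⁻¹) * s⁻¹ := by rw [h2]
    _ = _ := by group

/-- **LEMMA Y** at the base point -/
theorem not_conj0 : ¬ IsConj (y 0 1) (z (pt 0 1 2 3)) := by
  have hD : D4 0 1 2 3 := by decide
  have hyz : y 0 1 * z (pt 0 1 2 3) = y 2 3 := by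
    rw [L.z_eq 0 1 2 3 hD, ← mul_assoc, L.sq 0 1 (by decide), one_mul]
  have hyB := L.y_mem_B hD
  have hBc : ∀ c ∈ C (pt 0 1 2 3), c * y 0 1 * c⁻¹ = y 0 1 ∨ c * y 0 1 * c⁻¹ = y 2 3 := by
    intro c hc
    have h1 := norm_conj (h.B_norm (pt 0 1 2 3)) hc hyB
    rcases (L.B_eq hD).1 h1 with h2 | h2 | h2 | h2
    · exact absurd (conj_eq_one_iff.1 h2) (L.ne_one 0 1 (by decide))
    · exfalso
      apply L.notV 0 1 (by decide)
      have h3 : y 0 1 = c⁻¹ * z (pt 0 1 2 3) * c := by rw [← h2]; group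
      have h4 : c⁻¹ * z (pt 0 1 2 3) * c = z (pt 0 1 2 3) := by
        rw [mul_assoc, ← h.Cz _ c hc]; group
      rw [h3, h4]
      exact h.zV _
    · exact Or.inl h2
    · exact Or.inr h2
  have hcomm : ∀ c ∈ C (pt 0 1 2 3), (c * y 0 1 = y 0 1 * c ↔ c * y 0 1 * c⁻¹ = y 0 1) := fun c _ =>
    ⟨fun h1 => by rw [h1]; group, fun h1 => mul_inv_eq_iff_eq_mul.1 h1⟩
  obtain ⟨s, hs, hsσ⟩ := exists_s h L
  have hsy : s * y 0 1 * s⁻¹ = y 2 3 := hsσ.2 0 1 (by decide)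
  refine LemY.lemmaY S (h.ne_one _) (h.sq _) (L.ne_one 0 1 (by decide)) (L.sq 0 1 (by decide))
    (fun e => L.notV 0 1 (by decide) (by rw [e]; exact h.zV _)) h.omega (C := C (pt 0 1 2 3))
    (QF := QF (pt 0 1 2 3)) (Qs := Qs (pt 0 1 2 3)) (Q := o2 (centralizer ({z (pt 0 1 2 3)} : Set G)))
    h.S_le_C (fun c hc => h.Cz _ c hc) ((h.QFQ _).trans h.Q_le) (h.QsQF _) (h.QsQF _ (h.z_mem_Qs _))
    (h.mem_B.1 hyB).1 ?_ ?_ ?_ ?_ ?_ (Cfsg.Agent.MinSimple.VModule.o2_isPGroup _) ?_ h.Qs_le (nonab L) hs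
    (by rw [hsy, hyz]) ?_
  · -- `QF` commutes with `y`
    intro x hx
    obtain ⟨w, hw, e⟩ := L.QF_eq hD hx
    have h1 : w * y 0 1 = y 0 1 * w := ((h.mem_B.1 hyB).2 w hw).symm
    rcases e with rfl | rfl
    · exact h1
    · rw [mul_assoc, L.sq 0 1 (by decide), mul_one, ← mul_assoc, ← h1, mul_assoc, L.sq 0 1 (by decide), mul_one]
  · -- `O₂(C_C(y)) ≤ QF`
    intro N hNC hNy hN hNn
    set C₀ : Subgroup G := C (pt 0 1 2 3) ⊓ centralizer ({y 0 1} : Set G) with hC₀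
    have hmC₀ : ∀ x, x ∈ C₀ ↔ x ∈ C (pt 0 1 2 3) ∧ x * y 0 1 = y 0 1 * x := by
      intro x
      rw [hC₀, mem_inf, mem_centralizer_singleton_iff]
    have h1 : N ≤ o2 C₀ := Cfsg.Agent.MinSimple.VModule.le_o2 (fun n hn => (hmC₀ n).2 ⟨hNC hn, hNy n hn⟩) hN
      (le_norm_of fun c hc n hn => hNn c ((hmC₀ c).1 hc).1 ((hmC₀ c).1 hc).2 n hn)
    have hn0 : C (pt 0 1 2 3) ≤ normalizer (C₀ : Set G) := by
      refine le_norm_of fun c hc x hx => ?_
      obtain ⟨hxC, hxy⟩ := (hmC₀ x).1 hx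
      refine (hmC₀ _).2 ⟨mul_mem (mul_mem hc hxC) (inv_mem hc), ?_⟩
      have hci : c⁻¹ ∈ C (pt 0 1 2 3) := inv_mem hc
      have hxz : x * z (pt 0 1 2 3) = z (pt 0 1 2 3) * x := h.Cz _ x hxC
      have hx23 : x * y 2 3 = y 2 3 * x := by
        rw [← hyz, ← mul_assoc, hxy, mul_assoc, hxz, mul_assoc]
      have h2 : c⁻¹ * y 0 1 * c = y 0 1 ∨ c⁻¹ * y 0 1 * c = y 2 3 := by
        have := hBc c⁻¹ hci
        rwa [inv_inv] at this
      have h3 : x * (c⁻¹ * y 0 1 * c) = (c⁻¹ * y 0 1 * c) * x := by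
        rcases h2 with h2 | h2 <;> rw [h2] <;> assumption
      calc c * x * c⁻¹ * y 0 1 = c * (x * (c⁻¹ * y 0 1 * c)) * c⁻¹ := by group
        _ = c * ((c⁻¹ * y 0 1 * c) * x) * c⁻¹ := by rw [h3]
        _ = y 0 1 * (c * x * c⁻¹) := by group
    have h2 : o2 C₀ ≤ Q (pt 0 1 2 3) := by
      rw [h.Qo2]
      refine Cfsg.Agent.MinSimple.VModule.le_o2 ((Cfsg.Agent.MinSimple.VModule.o2_le _).trans inf_le_left)
        (Cfsg.Agent.MinSimple.VModule.o2_isPGroup _) (le_norm_of fun c hc x hx => ?_)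
      exact o2_conj' (hn0 hc) hx
    intro x hx
    have hxQ := h2 (h1 hx)
    have hxP := h.QP _ hxQ
    obtain ⟨σ, hσ, h5⟩ := ov_z L hxP (h.Cz _ x (hNC hx))
    refine mem_QF L hxQ hσ ?_
    rcases d8 h5 with h6 | h6
    · exact h6
    · exfalso
      have h7 : x * y 0 1 * x⁻¹ = y 0 1 := by rw [hNy x hx]; group
      rw [hσ.2 0 1 (by decide)] at h7
      have h8 := L.inj _ _ _ _ (fun e => absurd (σ.injective e) (by decide)) (by decide) h7
      revert h8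
      rcases h6 with rfl | rfl | rfl | rfl <;> decide
  · -- self-centralising
    intro u hu huc
    have huP := h.S_le_P hu
    have huV : ∀ v ∈ V, u * v = v * u := h.faith _ u huP fun v hv hvQ =>
      (huc v (h.QsQF _ (h.VQs _ v hv hvQ))).symm
    have huT := h.mem_T hu huV
    have huC := h.S_le_C hu
    have huQ : u ∈ Q (pt 0 1 2 3) := by
      rw [h.Qo2]
      refine K.chain2 (hC h L) (R := QF (pt 0 1 2 3)) (fun c hc a ha => norm_conj (h.nQF _) hc ha)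
        (by rw [← h.Qo2]; exact h.QFQ _) huC ?_ (fun a ha => (huc a ha).symm)
      intro a ha
      rw [← h.Qo2] at ha
      by_cases haF : a ∈ QF (pt 0 1 2 3)
      · rw [← huc a haF, mul_inv_cancel_right, mul_inv_cancel]
        exact one_mem _
      · have h1 : u * a * u⁻¹ ∈ Q (pt 0 1 2 3) := norm_conj (h.nQ _) huC ha
        refine h.QF2 _ _ h1 _ (inv_mem ha) (fun hc => haF ?_) (fun hc => haF (inv_mem_iff.1 hc))
        have h2 := norm_conj (h.nQF _) (inv_mem huC) hc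
        rwa [inv_inv, show u⁻¹ * (u * a * u⁻¹) * u = a by group] at h2
    exact h.Tt_QF (h.mem_Tt.2 ⟨huT, huQ⟩)
  · -- `C_QF(Qs) = ⟨z, y⟩`
    intro x hx hxc
    rcases (L.B_eq hD).1 (h.mem_B.2 ⟨hx, fun q hq => (hxc q hq).symm⟩) with h1 | h1 | h1 | h1
    · exact Or.inl h1
    · exact Or.inr (Or.inl h1)
    · exact Or.inr (Or.inr (Or.inl h1))
    · exact Or.inr (Or.inr (Or.inr (h1.trans hyz.symm)))
  · exact fun q hq x hx => h.com _ q hq x hx
  · intro c hc q hq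
    exact (mem_normalizer_iff.1 (Cfsg.Agent.MinSimple.VModule.le_normalizer_o2 _
      (mem_centralizer_singleton_iff.2 hc)) q).1 hq
  · intro a ha
    rcases hBc a (h.S_le_C ha) with h1 | h1
    · exact Or.inl (mul_inv_eq_iff_eq_mul.1 h1)
    · right
      have h2 : s * y 2 3 * s⁻¹ = y 0 1 := hsσ.2 2 3 (by decide)
      have h3 : (s * a) * y 0 1 * (s * a)⁻¹ = y 0 1 := by
        calc (s * a) * y 0 1 * (s * a)⁻¹ = s * (a * y 0 1 * a⁻¹) * s⁻¹ := by group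
          _ = y 0 1 := by rw [h1, h2]
      exact mul_inv_eq_iff_eq_mul.1 h3

end

/-- **LEMMA Y**: no `y a b` is conjugate to a point. -/
theorem not_conj [Finite G] {S : Sylow 2 G} {P V T : Subgroup G} {z : ι → G} {opp : ι → ι → Prop}
    {C Q QF Qs : ι → Subgroup G} {y : Fin 5 → Fin 5 → G} {pt : Fin 5 → Fin 5 → Fin 5 → Fin 5 → ι}
    {i₀ : ι} (h : Base S P V T z opp C Q QF Qs i₀) (L : Lab h.toConf y pt) {a b : Fin 5} (hab : a ≠ b)
    (i : ι) (x : G) : x * y a b * x⁻¹ ≠ z i := by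
  obtain ⟨π, L', rfl⟩ := L.exists_base i₀
  have h1 := not_conj0 (y := fun a b => y (π a) (π b)) (pt := fun a b c d => pt (π a) (π b) (π c) (π d)) h L'
  intro e
  apply h1
  -- `y a b` is conjugate to `y (π 0) (π 1)`
  obtain ⟨σ, hσ0, hσ1⟩ : ∃ σ : Equiv.Perm (Fin 5), σ (π 0) = a ∧ σ (π 1) = b := by
    have h2 : π 0 ≠ π 1 := fun e => absurd (π.injective e) (by decide)
    generalize π 0 = p at *
    generalize π 1 = q at *
    refine ⟨Equiv.swap (Equiv.swap p a q) b * Equiv.swap p a, ?_, ?_⟩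
    · rw [Equiv.Perm.mul_apply, Equiv.swap_apply_left]
      refine Equiv.swap_apply_of_ne_of_ne (fun e => h2 ?_) hab
      have := congrArg (Equiv.swap p a) e
      rw [Equiv.swap_apply_self, Equiv.swap_apply_right] at this
      exact this
    · rw [Equiv.Perm.mul_apply, Equiv.swap_apply_left]
  obtain ⟨m, hm⟩ := L.full σ
  have h3 : m * y (π 0) (π 1) * m⁻¹ = y a b := by
    rw [hm.2 _ _ (fun e => absurd (π.injective e) (by decide)), hσ0, hσ1]
  -- `z i` is conjugate to the base point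
  obtain ⟨j, k, hj, -, -⟩ := h.tri (pt (π 0) (π 1) (π 2) (π 3))
  obtain ⟨n, -, hn⟩ := h.trans _ j hj i
  rw [isConj_iff]
  refine ⟨n⁻¹ * x * m, ?_⟩
  show n⁻¹ * x * m * y (π 0) (π 1) * (n⁻¹ * x * m)⁻¹ = z (pt (π 0) (π 1) (π 2) (π 3))
  calc n⁻¹ * x * m * y (π 0) (π 1) * (n⁻¹ * x * m)⁻¹ = n⁻¹ * (x * (m * y (π 0) (π 1) * m⁻¹) * x⁻¹) * n := by group
    _ = n⁻¹ * z i * n := by rw [h3, e]
    _ = z (pt (π 0) (π 1) (π 2) (π 3)) := by rw [← hn]; group

/-- the form used in section (5) -/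
theorem ly [Finite G] {S : Sylow 2 G} {P V T : Subgroup G} {z : ι → G} {opp : ι → ι → Prop}
    {C Q QF Qs : ι → Subgroup G} {y : Fin 5 → Fin 5 → G} {pt : Fin 5 → Fin 5 → Fin 5 → Fin 5 → ι}
    {i₀ : ι} (h : Base S P V T z opp C Q QF Qs i₀) (L : Lab h.toConf y pt) :
    ∀ a b, a ≠ b → ∀ x : G, x * y a b * x⁻¹ ≠ y 0 1 * y 2 3 := by
  intro a b hab x
  rw [← L.z_eq 0 1 2 3 (by decide)]
  exact not_conj h L hab _ x

end Cfsg.Agent.Omega.NOne.AG.LabY

end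

section


/-!
# THEOREM D0ag (bb #15001), section (5): `T₀ = Δ` from `Conf`, `Lab` and LEMMA Y

`FivePlug.T0_eq : Lab h y pt → LEMMA Y → h.T0 = h.Dl`, `FivePlug.T0_le` : the same from `Base`.
-/

set_option autoImplicit false

namespace Cfsg.Agent.Omega.NOne.AG.FivePlug

open Subgroup Cfsg Cfsg.Agent.ZN
open Cfsg.Agent.Omega.NOne.AG.FiveDl (Ys ph ac par Yt)
open Cfsg.Agent.Omega.NOne.AG.GData (GD comm_of_odd)

universe u

variable {G : Type u} [Group G] {ι : Type*}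

/-- three classes of three: `E` of order 8 cannot be covered by two cosets of `{1, z}` -/
theorem exists_over [Finite G] {E : Subgroup G} {z : G} (hE : Nat.card E = 8)
    (ov : Equiv.Perm (Fin 5) → G → Prop) (σ₁ σ₂ σ₃ : Equiv.Perm (Fin 5))
    (hov : ∀ e ∈ E, ov 1 e ∨ ov σ₁ e ∨ ov σ₂ e ∨ ov σ₃ e)
    (hmul : ∀ σ τ e f, ov σ e → ov τ f → ov (σ * τ) (e * f))
    (hinv : ∀ σ e, ov σ e → ov σ⁻¹ e⁻¹)
    (h23 : σ₂ * σ₃ = σ₁) (hker : ∀ e ∈ E, ov 1 e → e = 1 ∨ e = z) : ∃ e ∈ E, ov σ₁ e := by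
  by_contra hcon
  push Not at hcon
  -- all elements of `E` are over `1` or over one `τ`
  obtain ⟨a, ha⟩ : ∃ a : G, ∀ e ∈ E, (e = 1 ∨ e = z) ∨ (a⁻¹ * e = 1 ∨ a⁻¹ * e = z) := by
    have key : ∀ (τ : Equiv.Perm (Fin 5)) (a : G), a ∈ E → ov τ a → (∀ e ∈ E, ov 1 e ∨ ov τ e) →
        ∀ e ∈ E, (e = 1 ∨ e = z) ∨ (a⁻¹ * e = 1 ∨ a⁻¹ * e = z) := by
      intro τ a ha haτ hall e he
      rcases hall e he with h1 | h1
      · exact Or.inl (hker e he h1)
      · right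
        refine hker _ (mul_mem (inv_mem ha) he) ?_
        have h2 := hmul _ _ _ _ (hinv _ _ haτ) h1
        rwa [inv_mul_cancel] at h2
    by_cases h2 : ∃ a ∈ E, ov σ₂ a
    · obtain ⟨a, ha, h2⟩ := h2
      refine ⟨a, key σ₂ a ha h2 fun e he => ?_⟩
      rcases hov e he with h1 | h1 | h1 | h1
      · exact Or.inl h1
      · exact absurd h1 (hcon e he)
      · exact Or.inr h1
      · exfalso
        have h3 := hmul _ _ _ _ h2 h1
        rw [h23] at h3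
        exact hcon _ (mul_mem ha he) h3
    · push Not at h2
      by_cases h3 : ∃ a ∈ E, ov σ₃ a
      · obtain ⟨a, ha, h3⟩ := h3
        refine ⟨a, key σ₃ a ha h3 fun e he => ?_⟩
        rcases hov e he with h1 | h1 | h1 | h1
        · exact Or.inl h1
        · exact absurd h1 (hcon e he)
        · exact absurd h1 (h2 e he)
        · exact Or.inr h1
      · push Not at h3
        refine ⟨1, fun e he => ?_⟩
        rcases hov e he with h1 | h1 | h1 | h1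
        · exact Or.inl (hker e he h1)
        · exact absurd h1 (hcon e he)
        · exact absurd h1 (h2 e he)
        · exact absurd h1 (h3 e he)
  have hsub : (E : Set G) ⊆ {1, z, a, a * z} := by
    intro e he
    rcases ha e he with (h1 | h1) | (h1 | h1)
    · exact Or.inl h1
    · exact Or.inr (Or.inl h1)
    · right; right; left
      exact (inv_mul_eq_one.1 h1).symm
    · right; right; right
      rw [Set.mem_singleton_iff, ← h1]; group
  have h1 := Set.ncard_le_ncard hsub (Set.toFinite _)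
  have h2 : (E : Set G).ncard = 8 := by rw [← Nat.card_coe_set_eq]; exact hE
  have h3 : ({1, z, a, a * z} : Set G).ncard ≤ 4 := by
    refine (Set.ncard_insert_le _ _).trans ?_
    have h4 := Set.ncard_insert_le z ({a, a * z} : Set G)
    have h5 := Set.ncard_insert_le a ({a * z} : Set G)
    rw [Set.ncard_singleton] at h5
    omega
  omega

variable {P V T : Subgroup G} {z : ι → G} {opp : ι → ι → Prop} {C Q QF Qs : ι → Subgroup G}
variable {h : Conf P V T z opp C Q QF Qs} {y : Fin 5 → Fin 5 → G}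
  {pt : Fin 5 → Fin 5 → Fin 5 → Fin 5 → ι}

theorem Ecode : ∀ w < 32, w ∈ [0, 5, 29, 24, 12, 9, 20, 17] →
    ∃ b1 b2 b3 : Bool, w = (bif b1 then 5 else 0) ^^^ (bif b2 then 12 else 0) ^^^ (bif b3 then 20 else 0) := by
  decide

/-- `E = V ∩ Q` -/
theorem EE_eq (L : Lab h y pt) : FiveGrp.EE y = V ⊓ Q (pt 0 1 2 3) := by
  have hD : D4 (0 : Fin 5) 1 2 3 := by decide
  have e5 : y 0 1 * y 2 3 = ph y 5 := by
    rw [← L.ys.yt (a := 0) (b := 1) (by decide), ← L.ys.yt (a := 2) (b := 3) (by decide), L.ys.mul]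
    rfl
  have e12 : y 0 1 * y 2 4 = ph y 12 := by
    rw [← L.ys.yt (a := 0) (b := 1) (by decide), ← L.ys.yt (a := 2) (b := 4) (by decide), L.ys.mul]
    rfl
  have e20 : y 2 3 * y 0 4 = ph y 20 := by
    rw [← L.ys.yt (a := 2) (b := 3) (by decide), ← L.ys.yt (a := 0) (b := 4) (by decide), L.ys.mul]
    rfl
  apply le_antisymm
  · rw [FiveGrp.EE, closure_le]
    rintro x (rfl | rfl | rfl)
    · rw [e5]
      exact ⟨L.ph_V (by norm_num) (by decide), LabY.mem_Q L (by norm_num) (by decide)⟩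
    · rw [e12]
      exact ⟨L.ph_V (by norm_num) (by decide), LabY.mem_Q L (by norm_num) (by decide)⟩
    · rw [e20]
      exact ⟨L.ph_V (by norm_num) (by decide), LabY.mem_Q L (by norm_num) (by decide)⟩
  · intro v hv
    obtain ⟨hv1, hv2⟩ := mem_inf.1 hv
    obtain ⟨w, hw, hp, rfl⟩ := L.V_code hv1
    obtain ⟨b1, b2, b3, rfl⟩ := Ecode w hw ((LabY.mem_Q_iff L hw hp).1 hv2)
    rw [← L.ys.mul, ← L.ys.mul]
    have g5 : ph y 5 ∈ FiveGrp.EE y := by rw [← e5]; exact FiveGrp.FiveE.zE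
    have g12 : ph y 12 ∈ FiveGrp.EE y := by rw [← e12]; exact FiveGrp.FiveE.e1E
    have g20 : ph y 20 ∈ FiveGrp.EE y := by rw [← e20]; exact FiveGrp.FiveE.e2E
    have g0 : ph y 0 ∈ FiveGrp.EE y := by rw [FiveDl.ph_zero]; exact one_mem _
    refine mul_mem (mul_mem ?_ ?_) ?_
    · cases b1 <;> assumption
    · cases b2 <;> assumption
    · cases b3 <;> assumption

/-- **(5)**: `T₀ = Δ` -/
theorem T0_eq [Finite G] (L : Lab h y pt)
    (ly : ∀ a b, a ≠ b → ∀ x : G, x * y a b * x⁻¹ ≠ z (pt 0 1 2 3)) : h.T0 = h.Dl := by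
  have hD : D4 (0 : Fin 5) 1 2 3 := by decide
  have hzy := L.z_eq 0 1 2 3 hD
  obtain ⟨j, k, hij, -, -⟩ := h.tri (pt 0 1 2 3)
  have hjQ : z j ∉ Q (pt 0 1 2 3) := (h.opp_iff _ j).1 hij
  obtain ⟨g, hgC, hg⟩ := h.exists_g _ (h.zV j) hjQ
  have hEE := EE_eq L
  have hcon : ∀ e ∈ V ⊓ Q (pt 0 1 2 3), g * e * g⁻¹ ∈ Qs (pt 0 1 2 3) := fun e he =>
    norm_conj (h.nQs _) hgC (h.VQs _ e (mem_inf.1 he).1 (mem_inf.1 he).2)
  have hker : ∀ e ∈ V ⊓ Q (pt 0 1 2 3), FiveDl.Ov y (g * e * g⁻¹) 1 →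
      e = 1 ∨ e = z (pt 0 1 2 3) := by
    intro e he ho
    exact hg.ff e he fun e' he' => (L.comm_V ho e' (mem_inf.1 he').1).symm
  have hov : ∀ e ∈ V ⊓ Q (pt 0 1 2 3), FiveDl.Ov y (g * e * g⁻¹) 1 ∨
      FiveDl.Ov y (g * e * g⁻¹) (Equiv.swap 0 1) ∨ FiveDl.Ov y (g * e * g⁻¹) (Equiv.swap 2 3) ∨
      FiveDl.Ov y (g * e * g⁻¹) (Equiv.swap 0 1 * Equiv.swap 2 3) := by
    intro e he
    rcases L.Qs_ov 0 1 2 3 hD _ (hcon e he) with h1 | h1 | h1 | h1
    · exact Or.inl h1.2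
    · exact Or.inr (Or.inl h1.2)
    · exact Or.inr (Or.inr (Or.inl h1.2))
    · exact Or.inr (Or.inr (Or.inr h1.2))
  have hmul : ∀ (σ τ : Equiv.Perm (Fin 5)) (e f : G), FiveDl.Ov y (g * e * g⁻¹) σ →
      FiveDl.Ov y (g * f * g⁻¹) τ → FiveDl.Ov y (g * (e * f) * g⁻¹) (σ * τ) := by
    intro σ τ e f h1 h2
    have h3 := h1.mul h2
    have e1 : g * (e * f) * g⁻¹ = g * e * g⁻¹ * (g * f * g⁻¹) := by group
    rwa [e1]
  have hinv : ∀ (σ : Equiv.Perm (Fin 5)) (e : G), FiveDl.Ov y (g * e * g⁻¹) σ →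
      FiveDl.Ov y (g * e⁻¹ * g⁻¹) σ⁻¹ := by
    intro σ e h1
    have h3 := h1.inv
    have e1 : g * e⁻¹ * g⁻¹ = (g * e * g⁻¹)⁻¹ := by group
    rwa [e1]
  obtain ⟨α, hα, oα⟩ := exists_over hg.cardE (fun σ e => FiveDl.Ov y (g * e * g⁻¹) σ)
    (Equiv.swap 0 1) (Equiv.swap 2 3) (Equiv.swap 0 1 * Equiv.swap 2 3) hov hmul hinv (by decide) hker
  obtain ⟨β, hβ, oβ⟩ := exists_over hg.cardE (fun σ e => FiveDl.Ov y (g * e * g⁻¹) σ)
    (Equiv.swap 2 3) (Equiv.swap 0 1) (Equiv.swap 0 1 * Equiv.swap 2 3)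
    (fun e he => by rcases hov e he with h1 | h1 | h1 | h1 <;> tauto) hmul hinv (by decide) hker
  -- `g` commutes with `y 0 1`, `y 2 3`
  have s1 := L.sq 0 1 (by decide)
  have s2 := L.sq 2 3 (by decide)
  have c1 := L.comm 0 1 2 3 (by decide) (by decide)
  have hgz : g * (y 0 1 * y 2 3) * g⁻¹ = y 0 1 * y 2 3 := by rw [← hzy, hg.gz]; group
  have hprod : (g * y 0 1 * g⁻¹) * (g * y 2 3 * g⁻¹) = y 0 1 * y 2 3 := by rw [← hgz]; group
  have g01 : g * y 0 1 = y 0 1 * g := by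
    have hB := norm_conj (h.B_norm _) hgC (L.y_mem_B hD)
    rcases (L.B_eq hD).1 hB with h1 | h1 | h1 | h1
    · exfalso
      apply L.ne_one 0 1 (by decide)
      have : y 0 1 = g⁻¹ * (g * y 0 1 * g⁻¹) * g := by group
      rw [this, h1]; group
    · exfalso
      apply L.ne_one 2 3 (by decide)
      rw [hzy] at h1
      have h4 : g * y 0 1 * g⁻¹ = g * (y 0 1 * y 2 3) * g⁻¹ := by rw [h1, hgz]
      have h6 := mul_right_cancel h4
      exact (mul_eq_left.1 (mul_left_cancel h6).symm)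
    · calc g * y 0 1 = g * y 0 1 * g⁻¹ * g := by group
        _ = y 0 1 * g := by rw [h1]
    · refine comm_of_odd hg.odd ?_
      have h2 : g * y 2 3 * g⁻¹ = y 0 1 := by
        rw [h1, c1] at hprod
        exact mul_left_cancel hprod
      calc g * g * y 0 1 = g * (g * y 0 1 * g⁻¹) * g := by group
        _ = g * y 2 3 * g⁻¹ * (g * g) := by rw [h1]; group
        _ = y 0 1 * (g * g) := by rw [h2]
  have g23 : g * y 2 3 = y 2 3 * g := by
    have h1 : g * y 0 1 * g⁻¹ = y 0 1 := by rw [g01]; group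
    rw [h1] at hprod
    have h2 := mul_left_cancel hprod
    calc g * y 2 3 = g * y 2 3 * g⁻¹ * g := by group
      _ = _ := by rw [h2]
  have hfin : FiveGrp.FiveE P h.T0 y (QG h) g α β :=
    { L.five with
      EQ := by
        rw [L.QG' hD, hEE]
        exact fun e he => h.VQs _ e (mem_inf.1 he).1 (mem_inf.1 he).2
      gQ := fun q hq => by
        rw [L.QG' hD] at hq ⊢
        exact norm_conj (h.nQs _) hgC hq
      gQ' := fun q hq => by
        rw [L.QG' hD] at hq ⊢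
        have h1 := norm_conj (h.nQs _) (inv_mem hgC) hq
        rwa [inv_inv] at h1
      g01 := g01
      g23 := g23
      αE := by rw [hEE]; exact hα
      βE := by rw [hEE]; exact hβ
      oα := oα
      oβ := oβ
      cap := fun x hx hT => by
        rw [hEE] at hx
        have h1 := hg.ff x hx fun e' he' => (h.TV _ (h.T0_le_T hT) e' (mem_inf.1 he').1).symm
        rcases h1 with rfl | rfl
        · left; group
        · right; rw [hzy, hgz]
      ly := fun a b hab x => by rw [← hzy]; exact ly a b hab x }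
  rw [hfin.T0_eq, L.Dl_eq]

/-- **(5)** for `Base`. -/
theorem T0_le [Finite G] {S : Sylow 2 G} {i₀ : ι} (hb : Base S P V T z opp C Q QF Qs i₀)
    (L : Lab hb.toConf y pt) : hb.toConf.T0 ≤ hb.toConf.Dl :=
  (T0_eq L fun _ _ hab x => LabY.not_conj hb L hab _ x).le

end Cfsg.Agent.Omega.NOne.AG.FivePlug

end

section


/-!
# THEOREM D0ag (#15001), section (7): `Base` + `Lab` + (5) give the local situation `SevD`; helper950
-/

set_option autoImplicit false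

namespace Cfsg.Agent.Omega.NOne.AG.Seven

open Subgroup Cfsg Cfsg.Agent.ZN Cfsg.Agent.Omega.NOne.AG Cfsg.Agent.Omega.NOne.AG.GData
open Cfsg.Agent.Omega.NOne.AG.FiveDl (Ys Yt ac ph par)
open Cfsg.Agent.Omega.NOne.AG.LabY (tt)

universe u

set_option maxRecDepth 100000 in
theorem cf1 : ∀ σ ∈ [tt, tt * Equiv.swap 0 1, tt * Equiv.swap 2 3, tt * (Equiv.swap 0 1 * Equiv.swap 2 3)],
    ∀ w ∈ [0, 5, 29, 24, 12, 9, 20, 17], (ac σ w = w ∨ ac σ w = w ^^^ 5) → w ∈ [0, 5, 29, 24] := by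
  decide

set_option maxRecDepth 100000 in
theorem cf2 : ∀ σ ∈ [1, Equiv.swap 0 1, Equiv.swap 2 3, Equiv.swap 0 1 * Equiv.swap 2 3,
    tt, tt * Equiv.swap 0 1, tt * Equiv.swap 2 3, tt * (Equiv.swap 0 1 * Equiv.swap 2 3)],
    ac σ 29 = 29 ∨ ac σ 29 = 24 := by
  decide

theorem ac_lt (σ : Equiv.Perm (Fin 5)) (w : ℕ) : ac σ w < 32 := by
  have h1 : ∀ (b : Bool) (i j : Fin 5), (bif b then Yt i j else 0) < 2 ^ 5 := by
    intro b i j
    cases b
    · norm_num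
    · exact FiveDl.Yt_lt i j
  unfold ac
  exact Nat.xor_lt_two_pow (Nat.xor_lt_two_pow (Nat.xor_lt_two_pow (Nat.xor_lt_two_pow (h1 _ _ _) (h1 _ _ _))
    (h1 _ _ _)) (h1 _ _ _)) (h1 _ _ _)

theorem mem8 {σ : Equiv.Perm (Fin 5)}
    (h : (σ = 1 ∨ σ = Equiv.swap 0 1 ∨ σ = Equiv.swap 2 3 ∨ σ = Equiv.swap 0 1 * Equiv.swap 2 3) ∨
      (σ = tt ∨ σ = tt * Equiv.swap 0 1 ∨ σ = tt * Equiv.swap 2 3 ∨
        σ = tt * (Equiv.swap 0 1 * Equiv.swap 2 3))) :
    σ ∈ [1, Equiv.swap 0 1, Equiv.swap 2 3, Equiv.swap 0 1 * Equiv.swap 2 3,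
      tt, tt * Equiv.swap 0 1, tt * Equiv.swap 2 3, tt * (Equiv.swap 0 1 * Equiv.swap 2 3)] := by
  simp only [List.mem_cons, List.not_mem_nil, or_false]
  tauto

theorem mem4 {σ : Equiv.Perm (Fin 5)} (h : σ = tt ∨ σ = tt * Equiv.swap 0 1 ∨ σ = tt * Equiv.swap 2 3 ∨
      σ = tt * (Equiv.swap 0 1 * Equiv.swap 2 3)) :
    σ ∈ [tt, tt * Equiv.swap 0 1, tt * Equiv.swap 2 3, tt * (Equiv.swap 0 1 * Equiv.swap 2 3)] := by
  simp only [List.mem_cons, List.not_mem_nil, or_false]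
  exact h

variable {G : Type u} [Group G] {ι : Type*}
variable [Finite G] {S : Sylow 2 G} {P V T : Subgroup G} {z : ι → G} {opp : ι → ι → Prop}
  {C Q QF Qs : ι → Subgroup G} {y : Fin 5 → Fin 5 → G} {pt : Fin 5 → Fin 5 → Fin 5 → Fin 5 → ι}

/-- `QF` commutes with `B` -/
theorem QFB (h : Conf P V T z opp C Q QF Qs) (L : Lab h y pt) {x b : G} (hx : x ∈ QF (pt 0 1 2 3))
    (hb : b ∈ h.B (pt 0 1 2 3)) : x * b = b * x := by
  obtain ⟨w, hw, e⟩ := L.QF_eq (show D4 0 1 2 3 by decide) hx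
  have h1 : w * b = b * w := ((h.mem_B.1 hb).2 w hw).symm
  have h2 : b * y 0 1 = y 0 1 * b := L.y_T (by decide) (h.B_T _ hb)
  rcases e with rfl | rfl
  · exact h1
  · rw [mul_assoc, ← h2, ← mul_assoc, h1, mul_assoc]

/-- `Q i ∩ T = E B` -/
theorem QT (h : Conf P V T z opp C Q QF Qs) (L : Lab h y pt) (hT : ∀ i, h.Tt i ≤ h.Dl) {x : G}
    (hx : x ∈ Q (pt 0 1 2 3)) (hxT : x ∈ T) :
    ∃ e ∈ V ⊓ Q (pt 0 1 2 3), ∃ b ∈ h.B (pt 0 1 2 3), x = e * b := by
  have h1 := hT _ (h.mem_Tt.2 ⟨hxT, hx⟩)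
  have hyB := L.y_mem_B (show D4 0 1 2 3 by decide)
  rcases (L.mem_iff 0 1 (by decide) x).1 h1 with h2 | h2
  · exact ⟨x, mem_inf.2 ⟨h2, hx⟩, 1, one_mem _, (mul_one x).symm⟩
  · refine ⟨x * y 0 1, mem_inf.2 ⟨h2, mul_mem hx (h.QFQ _ (h.mem_B.1 hyB).1)⟩, y 0 1, hyB, ?_⟩
    rw [mul_assoc, L.sq 0 1 (by decide), mul_one]

theorem sevD (h : Base S P V T z opp C Q QF Qs (pt 0 1 2 3)) (L : Lab h.toConf y pt)
    (hT : ∀ i, h.toConf.Tt i ≤ h.toConf.Dl) {s : G} (hs : s ∈ Q (pt 0 1 2 3)) (hs' : s ∉ QF (pt 0 1 2 3)) :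
    ∃ g, SevD (C (pt 0 1 2 3)) (Q (pt 0 1 2 3)) (QF (pt 0 1 2 3)) (Qs (pt 0 1 2 3)) (h.toConf.B (pt 0 1 2 3))
      (V ⊓ Q (pt 0 1 2 3)) (z (pt 0 1 2 3)) (ph y 30) g (ph y 29) := by
  have hD : D4 0 1 2 3 := by decide
  obtain ⟨g, hg, hgd⟩ := h.exists_g (pt 0 1 2 3) (L.ph_V (w := 30) (by norm_num) (by decide))
    (LabY.not_mem_Q30 L)
  have hz5 : z (pt 0 1 2 3) = ph y 5 := LabY.z_code L hD
  have hmE : ∀ x, x ∈ V ⊓ Q (pt 0 1 2 3) ↔ x ∈ V ∧ x ∈ Q (pt 0 1 2 3) := fun x => mem_inf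
  have hcode : ∀ x ∈ V ⊓ Q (pt 0 1 2 3), ∃ w, w < 32 ∧ w ∈ [0, 5, 29, 24, 12, 9, 20, 17] ∧ ph y w = x := by
    intro x hx
    obtain ⟨w, hw, hp, rfl⟩ := L.V_code ((hmE x).1 hx).1
    exact ⟨w, hw, (LabY.mem_Q_iff L hw hp).1 ((hmE _).1 hx).2, rfl⟩
  have ha : ph y 29 ∈ V ⊓ Q (pt 0 1 2 3) :=
    (hmE _).2 ⟨L.ph_V (by norm_num) (by decide), LabY.mem_Q L (by norm_num) (by decide)⟩
  have hne : ∀ {w w' : ℕ}, w < 32 → w' < 32 → w ≠ w' → ph y w ≠ ph y w' := fun hw hw' hn e => hn (L.ph_inj hw hw' e)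
  have hyz : y 2 3 * y 0 1 = z (pt 0 1 2 3) := by
    rw [L.z_eq 0 1 2 3 hD, L.comm _ _ _ _ (by decide) (by decide)]
  have hQov : ∀ q ∈ Q (pt 0 1 2 3), ∃ σ, Ov P y σ q ∧ Yt (σ 0) (σ 1) ^^^ Yt (σ 2) (σ 3) = 5 := fun q hq =>
    LabY.ov_z L (h.QP _ hq) (h.Cz _ q (h.QC _ hq))
  refine ⟨g, ?_⟩
  exact {
    gd := hgd
    gC := hg
    vC := h.VC _ (L.ph_V (w := 30) (by norm_num) (by decide))
    Cz := h.Cz _
    hC := LabY.hC h L
    Qo2 := h.Qo2 _
    QFQ := h.QFQ _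
    QsQF := h.QsQF _
    BQF := fun x hx => (h.mem_B.1 hx).1
    nQ := fun c hc x hx => norm_conj (h.nQ _) hc hx
    nQF := fun c hc x hx => norm_conj (h.nQF _) hc hx
    nQs := fun c hc x hx => norm_conj (h.nQs _) hc hx
    nB := fun c hc x hx => norm_conj (h.B_norm _) hc hx
    EQs := fun x hx => h.VQs _ x ((hmE x).1 hx).1 ((hmE x).1 hx).2
    nE := fun q hq e he => (hmE _).2 ⟨h.conj_V (h.QP _ hq) ((hmE e).1 he).1,
      mul_mem (mul_mem hq ((hmE e).1 he).2) (inv_mem hq)⟩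
    com := h.com _
    QFB := fun x hx b hb => QFB h.toConf L hx hb
    dec := by
      intro x hx
      have hxz : x * z (pt 0 1 2 3) = z (pt 0 1 2 3) * x := h.Cz _ x (h.QFC _ hx)
      have hE1 : ∀ e ∈ V ⊓ Q (pt 0 1 2 3), g * e * g⁻¹ ∈ Qs (pt 0 1 2 3) := fun e he =>
        norm_conj (h.nQs _) hg (h.VQs _ e ((hmE e).1 he).1 ((hmE e).1 he).2)
      have hQsz : ∀ w ∈ Qs (pt 0 1 2 3), w * z (pt 0 1 2 3) = z (pt 0 1 2 3) * w := fun w hw =>
        h.Cz _ w (h.QsC _ hw)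
      obtain ⟨w, ⟨e', he', hw'⟩, hw⟩ := dual (X := V ⊓ Q (pt 0 1 2 3))
        (E := (V ⊓ Q (pt 0 1 2 3)).map (MulAut.conj g).toMonoidHom) (u := x) (h.ne_one _) (h.sq _)
        (fun e he => h.Cz _ e (h.VC _ ((hmE e).1 he).1))
        (by rintro _ ⟨e, he, rfl⟩; exact hQsz _ (hE1 e he))
        (by
          rintro _ ⟨e, he, rfl⟩ x' hx'
          rcases hgd.com x' hx' e he with h1 | h1
          · exact Or.inl h1.symm
          · right
            show (g * e * g⁻¹) * x' = z (pt 0 1 2 3) * (x' * (g * e * g⁻¹))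
            rw [h1, ← mul_assoc, h.sq, one_mul]) hxz
        (by
          intro x' hx'
          rcases h.com _ x' (h.VQs _ x' ((hmE x').1 hx').1 ((hmE x').1 hx').2) x hx with h1 | h1
          · exact Or.inl h1.symm
          · right
            rw [h1, ← mul_assoc, h.sq, one_mul])
        (by
          intro x' hx' hc
          have h1 : ∀ e ∈ V ⊓ Q (pt 0 1 2 3), e * (g * x' * g⁻¹) = (g * x' * g⁻¹) * e := fun e he =>
            hgd.symm hx' he (hc _ ⟨e, he, rfl⟩).symm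
          rcases hgd.ff x' hx' h1 with rfl | rfl
          · rw [mul_one, one_mul]
          · exact hxz)
      have hw'' : g * e' * g⁻¹ = w := hw'
      have hwQs : w ∈ Qs (pt 0 1 2 3) := by rw [← hw'']; exact hE1 e' he'
      have hwQ := h.QsQ _ hwQs
      have h1 : ∀ v ∈ V, (x * w) * v = v * (x * w) :=
        h.faith _ _ (h.QP _ (mul_mem (h.QFQ _ hx) hwQ)) fun v hv hvQ => hw v ((hmE v).2 ⟨hv, hvQ⟩)
      obtain ⟨e, he, b, hb, heb⟩ := QT h.toConf L hT (mul_mem (h.QFQ _ hx) hwQ)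
        (h.cT _ _ (mul_mem (h.QFQ _ hx) hwQ) h1)
      refine ⟨e, he, e'⁻¹, inv_mem he', b, hb, ?_⟩
      have h2 : w⁻¹ * b = b * w⁻¹ := inv_comm' (((h.mem_B.1 hb).2 w hwQs).symm)
      calc x = (x * w) * w⁻¹ := by group
        _ = e * (b * w⁻¹) := by rw [heb]; group
        _ = e * w⁻¹ * b := by rw [← h2]; group
        _ = e * (g * e'⁻¹ * g⁻¹) * b := by rw [← hw'']; group
    BE := by
      intro b hb hbE
      rcases (L.B_eq hD).1 hb with h1 | h1 | h1 | h1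
      · exact Or.inl h1
      · exact Or.inr h1
      · exact absurd (h1 ▸ ((hmE b).1 hbE).1) (L.notV 0 1 (by decide))
      · exact absurd (h1 ▸ ((hmE b).1 hbE).1) (L.notV 2 3 (by decide))
    zB := (L.B_eq hD).2 (Or.inr (Or.inl rfl))
    Bz := by
      intro c hc b hb
      have key : ∀ b' ∈ h.toConf.B (pt 0 1 2 3), b' ∉ V → (b' = y 0 1 ∨ b' = y 2 3) := by
        intro b' hb' hn
        rcases (L.B_eq hD).1 hb' with h1 | h1 | h1 | h1
        · exact absurd (h1 ▸ one_mem V) hn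
        · exact absurd (h1 ▸ h.zV _) hn
        · exact Or.inl h1
        · exact Or.inr h1
      by_cases hbV : b ∈ V
      · have h1 : c * b * c⁻¹ = b := by
          rcases (L.B_eq hD).1 hb with h1 | h1 | h1 | h1
          · rw [h1]; group
          · rw [h1, h.Cz _ c hc]; group
          · exact absurd (h1 ▸ hbV) (L.notV 0 1 (by decide))
          · exact absurd (h1 ▸ hbV) (L.notV 2 3 (by decide))
        left; rw [h1, mul_inv_cancel]
      · have h1 := norm_conj (h.B_norm _) hc hb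
        have h2 : c * b * c⁻¹ ∉ V := by
          intro hcV
          rcases (L.B_eq hD).1 h1 with h3 | h3 | h3 | h3
          · exact hbV (by rw [conj_eq_one_iff.1 h3]; exact one_mem V)
          · apply hbV
            have h4 : b = c⁻¹ * z (pt 0 1 2 3) * c := by rw [← h3]; group
            rw [h4, mul_assoc, ← h.Cz _ c hc, inv_mul_cancel_left]
            exact h.zV _
          · exact absurd (h3 ▸ hcV) (L.notV 0 1 (by decide))
          · exact absurd (h3 ▸ hcV) (L.notV 2 3 (by decide))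
        have i1 : (y 0 1)⁻¹ = y 0 1 := inv_eq_of_mul_eq_one_right (L.sq 0 1 (by decide))
        have i2 : (y 2 3)⁻¹ = y 2 3 := inv_eq_of_mul_eq_one_right (L.sq 2 3 (by decide))
        rcases key _ hb hbV with h3 | h3 <;> rcases key _ h1 h2 with h4 | h4
        · left; rw [h4, h3, mul_inv_cancel]
        · right; rw [h4, h3, i1, hyz]
        · right; rw [h4, h3, i2, ← L.comm _ _ _ _ (by decide) (by decide), hyz]
        · left; rw [h4, h3, mul_inv_cancel]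
    aE := ha
    a1 := by
      rw [← FiveDl.ph_zero (y := y)]
      exact hne (by norm_num) (by norm_num) (by norm_num)
    az := by
      rw [hz5]
      exact hne (by norm_num) (by norm_num) (by norm_num)
    QF2 := h.QF2 _
    fix := by
      intro s hs hsF e he hfix
      obtain ⟨σ, hσ, h5⟩ := hQov s hs
      obtain ⟨w, hw, hwE, rfl⟩ := hcode e he
      have h6 : σ ∈ [tt, tt * Equiv.swap 0 1, tt * Equiv.swap 2 3, tt * (Equiv.swap 0 1 * Equiv.swap 2 3)] := by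
        rcases LabY.d8 h5 with h6 | h6
        · exact absurd (LabY.mem_QF L hs hσ h6) hsF
        · exact mem4 h6
      have hac := ac_lt σ w
      rw [L.ys.conj (Lab.ov hσ), hz5, L.ys.mul] at hfix
      have h7 : ac σ w = w ∨ ac σ w = w ^^^ 5 := by
        rcases hfix with h7 | h7
        · exact Or.inl (L.ph_inj hac hw h7)
        · exact Or.inr (L.ph_inj hac (Nat.xor_lt_two_pow (n := 5) hw (by norm_num)) h7)
      have h8 := cf1 σ h6 w hwE h7
      simp only [List.mem_cons, List.not_mem_nil, or_false] at h8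
      rcases h8 with rfl | rfl | rfl | rfl
      · exact Or.inl FiveDl.ph_zero
      · exact Or.inr (Or.inl hz5.symm)
      · exact Or.inr (Or.inr (Or.inl rfl))
      · refine Or.inr (Or.inr (Or.inr ?_))
        rw [hz5, L.ys.mul]
        rfl
    fa := by
      intro q hq
      obtain ⟨σ, hσ, h5⟩ := hQov q hq
      rw [L.ys.conj (Lab.ov hσ), hz5, L.ys.mul]
      rcases cf2 σ (mem8 (LabY.d8 h5)) with h6 | h6 <;> rw [h6]
      · exact Or.inl rfl
      · exact Or.inr rfl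
    ex := ⟨s, hs, hs'⟩ }

end Cfsg.Agent.Omega.NOne.AG.Seven

end
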