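import Cfsg.Agent.Mrg.Omega.NOne.AG.LabY
import Cfsg.Agent.Omega.NOne.AG.TransY
import Cfsg.Agent.Mrg.Omega.NOne.AG.Sympl
import Cfsg.Agent.Mrg.Omega.NOne.AG.FactsPlus
import Cfsg.Agent.Mrg.Omega.NOne.AG.Base
import Cfsg.Agent.Mrg.Omega.NOne.AG.GOf
import Cfsg.Agent.Mrg.Omega.NOne.LemmaT

section


/-!
# THEOREM D0ag (#15001), section (7): `Δ > V`, image `D₈` is impossible; helper950

`Seven.seven` : `Base` + `Lab` + (5) (`Tt i ≤ Δ`) + `Q i₀ ≠ QF i₀` is a contradiction.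
-/

set_option autoImplicit false

namespace Cfsg.Agent.Omega.NOne.AG.Seven

open Subgroup Cfsg Cfsg.Agent.ZN Cfsg.Agent.Omega.NOne.AG Cfsg.Agent.Omega.NOne.AG.GData
open Cfsg.Agent.Omega.NOne.AG.FiveDl (Ys Yt ac ph par)
open Cfsg.Agent.Omega.NOne.AG.LabY (tt)

universe u

/-! ### fixed points on `Δ` -/

/-- the seven nontrivial elements of `D₈` -/
def L7 : List (Equiv.Perm (Fin 5)) :=
  [Equiv.swap 0 1, Equiv.swap 2 3, Equiv.swap 0 1 * Equiv.swap 2 3,
    tt, tt * Equiv.swap 0 1, tt * Equiv.swap 2 3, tt * (Equiv.swap 0 1 * Equiv.swap 2 3)]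

/-- the codes fixed by `σ` -/
def F (σ : Equiv.Perm (Fin 5)) : Finset ℕ := (Finset.range 32).filter fun w => ac σ w = w

set_option maxRecDepth 100000 in
theorem F_le : ∀ σ ∈ L7, (F σ).card ≤ 8 := by decide

set_option maxRecDepth 100000 in
theorem FF_le : ∀ σ ∈ L7, ∀ τ ∈ L7, σ ≠ τ → (F σ ∩ F τ).card ≤ 4 := by decide

/-- the elements of order at most 2 -/
def L6 : List (Equiv.Perm (Fin 5)) :=
  [1, Equiv.swap 0 1, Equiv.swap 2 3, Equiv.swap 0 1 * Equiv.swap 2 3, tt,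
    tt * (Equiv.swap 0 1 * Equiv.swap 2 3)]

set_option maxRecDepth 100000 in
theorem L6_of : ∀ σ ∈ L7, σ * σ = 1 → σ ∈ L6 := by decide

theorem L6_card : L6.toFinset.card ≤ 6 := (List.toFinset_card_le _).trans (by decide)

theorem L7_of {σ : Equiv.Perm (Fin 5)}
    (h : (σ = 1 ∨ σ = Equiv.swap 0 1 ∨ σ = Equiv.swap 2 3 ∨ σ = Equiv.swap 0 1 * Equiv.swap 2 3) ∨
      (σ = tt ∨ σ = tt * Equiv.swap 0 1 ∨ σ = tt * Equiv.swap 2 3 ∨
        σ = tt * (Equiv.swap 0 1 * Equiv.swap 2 3))) : σ = 1 ∨ σ ∈ L7 := by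
  simp only [L7, List.mem_cons, List.not_mem_nil, or_false]
  tauto

theorem two_others : ∀ a : Fin 5, ∃ b c, a ≠ b ∧ a ≠ c ∧ b ≠ c := by decide

variable {G : Type u} [Group G] {ι : Type*}

section

variable {P V T : Subgroup G} {z : ι → G} {opp : ι → ι → Prop}
  {C Q QF Qs : ι → Subgroup G} {y : Fin 5 → Fin 5 → G} {pt : Fin 5 → Fin 5 → Fin 5 → Fin 5 → ι}
  {h : Conf P V T z opp C Q QF Qs} (L : Lab h y pt)
include L

theorem ov_one {σ : Equiv.Perm (Fin 5)} (hσ : Ov P y σ 1) : σ = 1 := by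
  ext a
  obtain ⟨b, c, hab, hac, hbc⟩ := two_others a
  have h1 := hσ.2 a b hab
  have h2 := hσ.2 a c hac
  rw [one_mul, inv_one, mul_one] at h1 h2
  have n1 : σ a ≠ σ b := fun e => hab (σ.injective e)
  have n2 : σ a ≠ σ c := fun e => hac (σ.injective e)
  rcases L.inj _ _ _ _ hab n1 h1 with h3 | h3
  · rw [← h3.1]; rfl
  · rcases L.inj _ _ _ _ hac n2 h2 with h4 | h4
    · rw [← h4.1]; rfl
    · exact absurd (h3.2.trans h4.2.symm) hbc

theorem ov_eq {σ τ : Equiv.Perm (Fin 5)} {x : G} (h1 : Ov P y σ x) (h2 : Ov P y τ x) : σ = τ := by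
  have h3 := ov_one L (σ := σ * τ⁻¹) ⟨by
    have := mul_mem h1.1 (inv_mem h1.1)
    rwa [mul_inv_cancel] at this, by
    have := FiveDl.Ov.mul h1.2 (FiveDl.Ov.inv h2.2)
    rwa [mul_inv_cancel] at this⟩
  exact mul_inv_eq_one.1 h3

/-- `Qs` over `⟨(01), (23)⟩` -/
theorem Qs_over {σ : Equiv.Perm (Fin 5)}
    (h4 : σ = 1 ∨ σ = Equiv.swap 0 1 ∨ σ = Equiv.swap 2 3 ∨ σ = Equiv.swap 0 1 * Equiv.swap 2 3) :
    ∃ x' ∈ Qs (pt 0 1 2 3), Ov P y σ x' := by
  obtain ⟨a, ha, ha'⟩ := L.Qs_ex 0 1 2 3 (by decide)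
  obtain ⟨b, hb, hb'⟩ := L.Qs_ex 2 3 0 1 (by decide)
  rw [← L.pt2 0 1 2 3 (by decide)] at hb
  rcases h4 with rfl | rfl | rfl | rfl
  · exact ⟨1, one_mem _, one_mem _, fun a b _ => by simp⟩
  · exact ⟨a, ha, ha'⟩
  · exact ⟨b, hb, hb'⟩
  · exact ⟨a * b, mul_mem ha hb, mul_mem ha'.1 hb'.1, FiveDl.Ov.mul ha'.2 hb'.2⟩

end

section

variable [Finite G] {S : Sylow 2 G} {P V T : Subgroup G} {z : ι → G} {opp : ι → ι → Prop}
  {C Q QF Qs : ι → Subgroup G} {y : Fin 5 → Fin 5 → G} {pt : Fin 5 → Fin 5 → Fin 5 → Fin 5 → ι}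
variable (h : Base S P V T z opp C Q QF Qs (pt 0 1 2 3)) (L : Lab h.toConf y pt)
include h L

theorem ov_S {x : G} (hx : x ∈ (S : Subgroup G)) : ∃ σ, Ov P y σ x ∧ (σ = 1 ∨ σ ∈ L7) := by
  obtain ⟨σ, hσ, h5⟩ := LabY.ov_z L (h.S_le_P hx) (h.Cz _ x (h.S_le_C hx))
  exact ⟨σ, hσ, L7_of (LabY.d8 h5)⟩

/-- an elementary abelian subgroup of `S` of order `> 24` lies in `T` -/
theorem elem_le (hV : ∀ c ∈ P, (∀ v ∈ V, c * v = v * c) → c ∈ T) (hTD : T ≤ h.toConf.Dl)
    {A : Subgroup G} (hAS : A ≤ (S : Subgroup G)) (hA2 : ∀ a ∈ A, a * a = 1)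
    (hAc : ∀ a ∈ A, ∀ b ∈ A, a * b = b * a) (hcard : 24 < Nat.card A) : A ≤ T := by
  classical
  by_contra hcon
  obtain ⟨x, hxA, hxT⟩ := SetLike.not_le_iff_exists.1 hcon
  have hσ : ∀ a ∈ A, ∃ σ, Ov P y σ a ∧ (σ = 1 ∨ σ ∈ L7) := fun a ha => ov_S h L (hAS ha)
  have hT1 : ∀ a ∈ A, Ov P y 1 a → a ∈ T := fun a _ ho => hV a ho.1 (L.comm_V (Lab.ov ho))
  let f : G → Equiv.Perm (Fin 5) := fun a => if ha : a ∈ A then Classical.choose (hσ a ha) else 1
  have hf : ∀ a ∈ A, Ov P y (f a) a ∧ (f a = 1 ∨ f a ∈ L7) := by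
    intro a ha
    have h1 := Classical.choose_spec (hσ a ha)
    have h2 : f a = Classical.choose (hσ a ha) := dif_pos ha
    rw [h2]
    exact h1
  let s : Finset G := (Set.toFinite (A : Set G)).toFinset
  have hms : ∀ a, a ∈ s ↔ a ∈ A := fun a => by rw [Set.Finite.mem_toFinset]; exact Iff.rfl
  have hs : s.card = Nat.card A := by
    rw [← Set.ncard_eq_toFinset_card]; rfl
  let t : Finset G := (Set.toFinite ((A ⊓ T : Subgroup G) : Set G)).toFinset
  have hmt : ∀ a, a ∈ t ↔ a ∈ A ∧ a ∈ T := fun a => by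
    rw [Set.Finite.mem_toFinset]; exact mem_inf
  -- fibres
  have hfib : ∀ σ ∈ s.image f, (s.filter fun a => f a = σ).card ≤ t.card := by
    intro σ hσ
    obtain ⟨x₀, hx₀, hx₀σ⟩ := Finset.mem_image.1 hσ
    rw [hms] at hx₀
    refine Finset.card_le_card_of_injOn (fun a => a * x₀⁻¹) ?_ (fun a _ b _ hab => mul_right_cancel hab)
    intro a ha
    obtain ⟨ha, haσ⟩ := Finset.mem_filter.1 (Finset.mem_coe.1 ha)
    rw [hms] at ha
    rw [Finset.mem_coe, hmt]
    have h1 := (hf a ha).1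
    have h2 := (hf x₀ hx₀).1
    rw [haσ] at h1
    rw [hx₀σ] at h2
    obtain ⟨h3, h4⟩ := LabY.same_act L h1 h2
    exact ⟨mul_mem ha (inv_mem hx₀), hV _ h3 h4⟩
  have hle := Finset.card_le_mul_card_image s t.card hfib
  rw [hs] at hle
  -- the image
  have him : s.image f ⊆ L6.toFinset := by
    intro σ hσ
    obtain ⟨a, ha, rfl⟩ := Finset.mem_image.1 hσ
    rw [hms] at ha
    rw [List.mem_toFinset]
    obtain ⟨h1, h2⟩ := hf a ha
    rcases h2 with h2 | h2
    · rw [h2]; exact List.mem_cons_self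
    · refine L6_of _ h2 (ov_one L ?_)
      have h3 := FiveDl.Ov.mul h1.2 h1.2
      rw [hA2 a ha] at h3
      exact ⟨one_mem _, h3⟩
  have h6 : (s.image f).card ≤ 6 := (Finset.card_le_card him).trans L6_card
  -- fixed points
  have hfx : ∀ a ∈ A, a ∉ T → f a ∈ L7 ∧ t ⊆ (F (f a)).image (ph y) := by
    intro a ha haT
    obtain ⟨h1, h2⟩ := hf a ha
    refine ⟨h2.resolve_left fun h3 => haT (hT1 a ha (h3 ▸ h1)), fun u hu => ?_⟩
    obtain ⟨huA, huT⟩ := (hmt u).1 hu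
    have huD := hTD huT
    rw [L.Dl_eq] at huD
    obtain ⟨w, hw, rfl⟩ := L.ys.mem_iff.1 huD
    refine Finset.mem_image.2 ⟨w, Finset.mem_filter.2 ⟨Finset.mem_range.2 hw, ?_⟩, rfl⟩
    refine L.ph_inj (ac_lt _ _) hw ?_
    rw [← L.ys.conj (Lab.ov h1), hAc a ha _ huA, mul_inv_cancel_right]
  obtain ⟨hx7, hxF⟩ := hfx x hxA hxT
  have ht8 : t.card ≤ 8 := (Finset.card_le_card hxF).trans (Finset.card_image_le.trans (F_le _ hx7))
  by_cases hall : ∀ a ∈ A, a ∈ T ∨ f a = f x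
  · have h2 : s.image f ⊆ {1, f x} := by
      intro σ hσ
      obtain ⟨a, ha, rfl⟩ := Finset.mem_image.1 hσ
      rw [hms] at ha
      rcases hall a ha with h1 | h1
      · rw [Finset.mem_insert]
        left
        have h3 : Ov P y 1 a := by
          refine ⟨h.TP h1, fun p q hpq => ?_⟩
          have h4 := L.y_T hpq h1
          rw [h4, mul_inv_cancel_right]; rfl
        exact ov_eq L (hf a ha).1 h3
      · rw [h1]; exact Finset.mem_insert_of_mem (Finset.mem_singleton_self _)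
    have h3 : (s.image f).card ≤ 2 := (Finset.card_le_card h2).trans Finset.card_le_two
    have h4 : t.card * (s.image f).card ≤ 8 * 2 := Nat.mul_le_mul ht8 h3
    omega
  · push Not at hall
    obtain ⟨x', hx'A, hx'T, hne⟩ := hall
    obtain ⟨hx7', hxF'⟩ := hfx x' hx'A hx'T
    have h2 : t ⊆ (F (f x) ∩ F (f x')).image (ph y) := by
      intro u hu
      obtain ⟨w, hw, hwu⟩ := Finset.mem_image.1 (hxF hu)
      obtain ⟨w', hw', hwu'⟩ := Finset.mem_image.1 (hxF' hu)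
      have h3 : w = w' := L.ph_inj (Finset.mem_range.1 (Finset.mem_filter.1 hw).1)
        (Finset.mem_range.1 (Finset.mem_filter.1 hw').1) (hwu.trans hwu'.symm)
      subst h3
      exact Finset.mem_image.2 ⟨w, Finset.mem_inter.2 ⟨hw, hw'⟩, hwu⟩
    have h3 : t.card ≤ 4 := (Finset.card_le_card h2).trans
      (Finset.card_image_le.trans (FF_le _ hx7 _ hx7' (fun e => hne e.symm)))
    have h4 : t.card * (s.image f).card ≤ 4 * 6 := Nat.mul_le_mul h3 h6
    omega

theorem seven0 (hT : ∀ i, h.toConf.Tt i ≤ h.toConf.Dl) {s : G} (hs : s ∈ Q (pt 0 1 2 3))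
    (hs' : s ∉ QF (pt 0 1 2 3)) : False := by
  classical
  obtain ⟨g, D⟩ := sevD h L hT hs hs'
  haveI : Nonempty ι := L.nonempty
  have hD : D4 0 1 2 3 := by decide
  have hvV : ph y 30 ∈ V := L.ph_V (by norm_num) (by decide)
  have haV : ph y 29 ∈ V := L.ph_V (by norm_num) (by decide)
  have key : ∀ c ∈ C (pt 0 1 2 3), (∀ u ∈ V, c * u = u * c) →
      c ∈ Q (pt 0 1 2 3) ∨ ph y 30 * c ∈ Q (pt 0 1 2 3) := by
    intro c hc hcV
    refine D.fix_a hc ?_
    rw [hcV _ haV, mul_inv_cancel_right, mul_inv_cancel]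
    exact one_mem _
  have hV : ∀ c ∈ P, (∀ u ∈ V, c * u = u * c) → c ∈ T := by
    intro c hc hcV
    rcases key c (h.PC _ c hc (hcV _ (h.zV _))) hcV with h1 | h1
    · exact h.cT _ c h1 hcV
    · have h2 : ph y 30 * c ∈ T := by
        refine h.cT _ _ h1 fun u hu => ?_
        rw [mul_assoc, hcV u hu, ← mul_assoc, h.Vab _ hvV u hu, mul_assoc]
      have h3 := mul_mem (inv_mem (h.VT hvV)) h2
      rwa [inv_mul_cancel_left] at h3
  have hTD : T ≤ h.toConf.Dl := by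
    intro t ht
    rcases key t (h.TC _ ht) (h.TV t ht) with h1 | h1
    · exact hT _ (h.mem_Tt.2 ⟨ht, h1⟩)
    · have h2 := hT _ (h.mem_Tt.2 ⟨mul_mem (h.VT hvV) ht, h1⟩)
      have h3 := mul_mem (inv_mem (h.V_le_Dl hvV)) h2
      rwa [inv_mul_cancel_left] at h3
  have gen : Qs (pt 0 1 2 3) ≤ closure {x | ∃ c ∈ C (pt 0 1 2 3), ∃ e ∈ V ⊓ Q (pt 0 1 2 3), x = c * e * c⁻¹} := by
    refine (h.QsGen _).trans (closure_mono ?_)
    rintro _ ⟨c, hc, e, he, heQ, rfl⟩
    exact ⟨c, hc, e, mem_inf.2 ⟨he, heQ⟩, rfl⟩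
  have hQsT : ∀ x ∈ Qs (pt 0 1 2 3), x ∈ T → x ∈ V := fun x hx hxT =>
    (mem_inf.1 (D.Qs_cent gen hx fun e he => h.TV x hxT e (mem_inf.1 he).1)).1
  -- `y = y 0 1`
  have hyT : y 0 1 ∈ T := L.y_mem_T (by decide)
  have hyB := L.y_mem_B hD
  have hTS := h.T_le
  have hySS := hTS hyT
  have hy2 := L.sq 0 1 (by decide)
  have hyV := L.notV 0 1 (by decide)
  -- the element `s'`
  obtain ⟨s', hs'S, hov, hss⟩ : ∃ s' ∈ (S : Subgroup G), Ov P y tt s' ∧ s' * s' ∈ V := by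
    obtain ⟨x, hx, hx'⟩ := L.Qs_ex 0 2 1 3 (by decide)
    obtain ⟨x', hx1, hx1'⟩ := L.Qs_ex 1 3 0 2 (by decide)
    rw [← L.pt2 0 2 1 3 (by decide)] at hx1
    have hov : Ov P y tt (x * x') := ⟨mul_mem hx'.1 hx1'.1, FiveDl.Ov.mul hx'.2 hx1'.2⟩
    have hmz : (x * x') * z (pt 0 1 2 3) * (x * x')⁻¹ = z (pt 0 1 2 3) := by
      rw [L.z_eq 0 1 2 3 hD]
      calc (x * x') * (y 0 1 * y 2 3) * (x * x')⁻¹
          = ((x * x') * y 0 1 * (x * x')⁻¹) * ((x * x') * y 2 3 * (x * x')⁻¹) := by group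
        _ = y 2 3 * y 0 1 := by
          rw [hov.2 0 1 (by decide), hov.2 2 3 (by decide)]
          rfl
        _ = y 0 1 * y 2 3 := L.comm _ _ _ _ (by decide) (by decide)
    obtain ⟨s₁, hs₁, c, hc, hcV, hsc⟩ := h.stab _ hov.1 (mul_inv_eq_iff_eq_mul.1 hmz)
    refine ⟨x * x', by rw [hsc]; exact mul_mem hs₁ (hTS (hV c hc hcV)), hov, ?_⟩
    rcases h.sq_Qs (mul_mem hx hx1) with h1 | h1
    · rw [h1]; exact one_mem V
    · rw [h1]; exact h.zV _
  have hs'P := h.S_le_P hs'S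
  have hs'C := h.S_le_C hs'S
  have hs'y : s' * y 0 1 * s'⁻¹ = y 2 3 := hov.2 0 1 (by decide)
  have hS1 : ∀ x ∈ (S : Subgroup G), ∀ q ∈ Qs (pt 0 1 2 3), x * q * x⁻¹ ∈ Qs (pt 0 1 2 3) := fun x hx q hq =>
    norm_conj (h.nQs _) (h.S_le_C hx) hq
  have hS2 : ∀ x ∈ (S : Subgroup G), ∀ q ∈ V, x * q * x⁻¹ ∈ V := fun x hx q hq => h.conj_V (h.S_le_P hx) hq
  -- `N = Qs V`
  set N : Subgroup G := Qs (pt 0 1 2 3) ⊔ V with hN
  have hmN : ∀ x, x ∈ N ↔ ∃ q ∈ Qs (pt 0 1 2 3), ∃ u ∈ V, x = q * u := fun x => by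
    rw [hN]
    exact mem_sup_iff fun a ha b hb => h.conj_V (h.QsP _ ha) hb
  have hNn : ∀ x ∈ (S : Subgroup G), ∀ n ∈ N, x * n * x⁻¹ ∈ N := by
    intro x hx n hn
    obtain ⟨q, hq, u, hu, rfl⟩ := (hmN n).1 hn
    exact (hmN _).2 ⟨_, hS1 x hx q hq, _, hS2 x hx u hu, by group⟩
  have hVN : V ≤ N := le_sup_right
  have hNS : N ≤ (S : Subgroup G) := sup_le ((h.QsQ _).trans h.Q_le) h.V_le
  have hNy : ∀ n ∈ N, n * y 0 1 = y 0 1 * n := by
    intro n hn
    obtain ⟨q, hq, u, hu, rfl⟩ := (hmN n).1 hn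
    have h1 : q * y 0 1 = y 0 1 * q := ((h.mem_B.1 hyB).2 q hq).symm
    have h2 : u * y 0 1 = y 0 1 * u := L.y_T (by decide) (h.VT hu)
    rw [mul_assoc, h2, ← mul_assoc, h1, mul_assoc]
  have hNT : ∀ n ∈ N, n ∈ T → n ∈ V := by
    intro n hn hnT
    obtain ⟨q, hq, u, hu, rfl⟩ := (hmN n).1 hn
    have h1 : q ∈ T := by
      have := mul_mem hnT (inv_mem (h.VT hu))
      rwa [mul_inv_cancel_right] at this
    exact mul_mem (hQsT q hq h1) hu
  -- `K = N ⟨s'⟩`
  let K : Subgroup G :=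
    { carrier := {x | x ∈ (S : Subgroup G) ∧ (x ∈ N ∨ s' * x ∈ N)}
      one_mem' := ⟨one_mem _, Or.inl (one_mem _)⟩
      mul_mem' := by
        rintro a b ⟨ha, ha'⟩ ⟨hb, hb'⟩
        refine ⟨mul_mem ha hb, ?_⟩
        rcases ha' with ha' | ha' <;> rcases hb' with hb' | hb'
        · exact Or.inl (mul_mem ha' hb')
        · right
          have e : s' * (a * b) = (s' * a * s'⁻¹) * (s' * b) := by group
          rw [e]; exact mul_mem (hNn s' hs'S a ha') hb'
        · right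
          rw [← mul_assoc]; exact mul_mem ha' hb'
        · left
          have e : a * b = (s'⁻¹ * (s' * a) * s'⁻¹⁻¹) * (s' * s')⁻¹ * (s' * b) := by group
          rw [e]
          exact mul_mem (mul_mem (hNn _ (inv_mem hs'S) _ ha') (inv_mem (hVN hss))) hb'
      inv_mem' := by
        rintro a ⟨ha, ha'⟩
        refine ⟨inv_mem ha, ?_⟩
        rcases ha' with ha' | ha'
        · exact Or.inl (inv_mem ha')
        · right
          have e : s' * a⁻¹ = (s' * (s' * a)⁻¹ * s'⁻¹) * (s' * s') := by group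
          rw [e]; exact mul_mem (hNn s' hs'S _ (inv_mem ha')) (hVN hss) }
  have hmK : ∀ x, x ∈ K ↔ x ∈ (S : Subgroup G) ∧ (x ∈ N ∨ s' * x ∈ N) := fun x => Iff.rfl
  have hNK : N ≤ K := fun x hx => (hmK x).2 ⟨hNS hx, Or.inl hx⟩
  have hKT : ∀ x ∈ K, x ∈ T → x ∈ V := by
    intro x hx hxT
    rcases ((hmK x).1 hx).2 with h1 | h1
    · exact hNT x h1 hxT
    · exfalso
      have h2 := hNy _ h1
      have h3 : x * y 0 1 = y 0 1 * x := L.y_T (by decide) hxT
      have h4 : s' * y 0 1 = y 0 1 * s' := by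
        have h5 : s' * y 0 1 * x = y 0 1 * s' * x := by
          rw [mul_assoc, ← h3, ← mul_assoc, h2, mul_assoc]
        exact mul_right_cancel h5
      rw [h4, mul_inv_cancel_right] at hs'y
      exact L.y_ne hD hs'y
  have hyK : y 0 1 ∉ K := fun hc => hyV (hKT _ hc hyT)
  -- elements over `⟨(01), (23)⟩`
  have hT2 : ∀ c ∈ T, c ∈ V ∨ c * y 0 1 ∈ V := fun c hc => (L.mem_iff 0 1 (by decide) c).1 (hTD hc)
  have hN4 : ∀ x, ∀ σ, Ov P y σ x → (σ = 1 ∨ σ = Equiv.swap 0 1 ∨ σ = Equiv.swap 2 3 ∨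
      σ = Equiv.swap 0 1 * Equiv.swap 2 3) → x ∈ N ∨ x * y 0 1 ∈ N := by
    intro x σ hσ h4
    obtain ⟨q, hq, hqσ⟩ := Qs_over L h4
    obtain ⟨h1, h2⟩ := LabY.same_act L hσ hqσ
    have h3 := hV _ h1 h2
    have hqN : q ∈ N := (hmN q).2 ⟨q, hq, 1, one_mem _, (mul_one q).symm⟩
    rcases hT2 _ h3 with h5 | h5
    · left
      have e : x = (x * q⁻¹) * q := by group
      rw [e]; exact mul_mem (hVN h5) hqN
    · right
      have hqy := hNy q hqN
      have e : x * y 0 1 = (x * q⁻¹ * y 0 1) * q := by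
        calc x * y 0 1 = x * q⁻¹ * (q * y 0 1) := by group
          _ = _ := by rw [hqy]; group
      rw [e]; exact mul_mem (hVN h5) hqN
  have hK2 : ∀ x ∈ (S : Subgroup G), x ∈ K ∨ x * y 0 1 ∈ K := by
    intro x hx
    obtain ⟨σ, hσ, h5⟩ := LabY.ov_z L (h.S_le_P hx) (h.Cz _ x (h.S_le_C hx))
    rcases LabY.d8 h5 with h6 | h6
    · rcases hN4 x σ hσ h6 with h7 | h7
      · exact Or.inl (hNK h7)
      · exact Or.inr (hNK h7)
    · have h8 : Ov P y (tt * σ) (s' * x) := ⟨mul_mem hs'P (h.S_le_P hx), FiveDl.Ov.mul hov.2 hσ.2⟩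
      have htt : tt * tt = 1 := by decide
      have h9 : tt * σ = 1 ∨ tt * σ = Equiv.swap 0 1 ∨ tt * σ = Equiv.swap 2 3 ∨
          tt * σ = Equiv.swap 0 1 * Equiv.swap 2 3 := by
        rcases h6 with rfl | rfl | rfl | rfl
        · exact Or.inl htt
        · rw [← mul_assoc, htt, one_mul]; exact Or.inr (Or.inl rfl)
        · rw [← mul_assoc, htt, one_mul]; exact Or.inr (Or.inr (Or.inl rfl))
        · rw [← mul_assoc, htt, one_mul]; exact Or.inr (Or.inr (Or.inr rfl))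
      rcases hN4 _ _ h8 h9 with h7 | h7
      · exact Or.inl ((hmK x).2 ⟨hx, Or.inr h7⟩)
      · right
        rw [mul_assoc] at h7
        exact (hmK _).2 ⟨mul_mem hx hySS, Or.inr h7⟩
  have hBS : ∀ b ∈ (S : Subgroup G), b⁻¹ * y 0 1 * b * y 0 1 ∈ V := by
    intro b hb
    have h1 := norm_conj (h.B_norm (pt 0 1 2 3)) (inv_mem (h.S_le_C hb)) hyB
    rw [inv_inv] at h1
    have hbV : b⁻¹ * y 0 1 * b ∉ V := by
      intro hc
      apply hyV
      have := hS2 b hb _ hc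
      rwa [show b * (b⁻¹ * y 0 1 * b) * b⁻¹ = y 0 1 by group] at this
    rcases (L.B_eq hD).1 h1 with h2 | h2 | h2 | h2
    · exact absurd (by rw [h2]; exact one_mem V) hbV
    · exact absurd (by rw [h2]; exact h.zV _) hbV
    · rw [h2, hy2]; exact one_mem V
    · rw [h2, ← L.comm _ _ _ _ (by decide) (by decide), ← L.z_eq 0 1 2 3 hD]; exact h.zV _
  have hK : ∀ a ∈ (S : Subgroup G), ∀ b ∈ (S : Subgroup G), (a * b ∈ K ↔ (a ∈ K ↔ b ∈ K)) := by
    intro a ha b hb
    constructor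
    · intro hab
      constructor
      · intro haK
        have := mul_mem (inv_mem haK) hab
        rwa [inv_mul_cancel_left] at this
      · intro hbK
        have := mul_mem hab (inv_mem hbK)
        rwa [mul_inv_cancel_right] at this
    · intro hiff
      by_cases haK : a ∈ K
      · exact mul_mem haK (hiff.1 haK)
      · have hbK : b ∉ K := fun hc => haK (hiff.2 hc)
        have h1 := (hK2 a ha).resolve_left haK
        have h2 := (hK2 b hb).resolve_left hbK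
        have h3 := mul_mem h1 h2
        have h4 := hNK (hVN (hBS b hb))
        have e : a * b = (a * y 0 1 * (b * y 0 1)) * (b⁻¹ * y 0 1 * b * y 0 1)⁻¹ := by group
        rw [e]
        exact mul_mem h3 (inv_mem h4)
  -- `T` is weakly closed
  have hwc : ∀ g : G, (∀ t ∈ T, g * t * g⁻¹ ∈ (S : Subgroup G)) → ∀ t ∈ T, g * t * g⁻¹ ∈ T := by
    intro g hg t ht
    refine elem_le h L hV hTD (A := T.map (MulAut.conj g).toMonoidHom) ?_ ?_ ?_ ?_ ⟨t, ht, rfl⟩
    · rintro _ ⟨u, hu, rfl⟩; exact hg u hu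
    · rintro _ ⟨u, hu, rfl⟩
      show g * u * g⁻¹ * (g * u * g⁻¹) = 1
      have : g * u * g⁻¹ * (g * u * g⁻¹) = g * (u * u) * g⁻¹ := by group
      rw [this, h.Dl_sq (hTD hu)]; group
    · rintro _ ⟨u, hu, rfl⟩ _ ⟨w, hw, rfl⟩
      show g * u * g⁻¹ * (g * w * g⁻¹) = g * w * g⁻¹ * (g * u * g⁻¹)
      have h1 : u * w = w * u := h.T_Dl hu (hTD hw)
      calc g * u * g⁻¹ * (g * w * g⁻¹) = g * (u * w) * g⁻¹ := by group
        _ = _ := by rw [h1]; group
    · have h1 : Nat.card ↥(T.map (MulAut.conj g).toMonoidHom) = Nat.card T :=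
        Subgroup.card_map_of_injective (MulAut.conj g).injective
      rw [h1]
      have h2 : (((Finset.range 32).image (ph y) : Finset G) : Set G) ⊆ (T : Set G) := by
        intro x hx
        rw [Finset.mem_coe, Finset.mem_image] at hx
        obtain ⟨w, hw, rfl⟩ := hx
        refine h.Dl_le_T ?_
        rw [L.Dl_eq]
        exact L.ys.ph_mem (Finset.mem_range.1 hw)
      have h3 := Set.ncard_le_ncard h2 (Set.toFinite _)
      rw [Set.ncard_coe_finset, Finset.card_image_of_injOn (fun w hw w' hw' e => L.ph_inj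
        (Finset.mem_range.1 (Finset.mem_coe.1 hw)) (Finset.mem_range.1 (Finset.mem_coe.1 hw')) e),
        Finset.card_range] at h3
      have h4 : (T : Set G).ncard = Nat.card T := rfl
      omega
  obtain ⟨f, hf⟩ := TransY.exists_hom S hTS hK hyT hy2 (fun t ht => L.y_T (by decide) ht) hwc (by
    intro g hg hgK
    have h1 := hKT _ hgK hg
    have h2 : g * y 0 1 * g⁻¹ ≠ 1 := fun hc => L.ne_one 0 1 (by decide) (conj_eq_one_iff.1 hc)
    obtain ⟨a, b, c, d, hD', h3⟩ := LabY.exists_pt L h1 h2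
    exact LabY.not_conj h L (by decide) _ g h3)
  -- no homomorphism onto `{± 1}`
  haveI := h.ctx.simple
  rcases (f.normal_ker).eq_bot_or_eq_top with h1 | h1
  · apply h.ctx.nonComm
    refine ⟨⟨fun a b => ?_⟩⟩
    apply (MonoidHom.ker_eq_bot_iff f).1 h1
    rw [map_mul, map_mul, mul_comm]
  · have h2 : y 0 1 ∈ f.ker := by rw [h1]; exact mem_top _
    rw [MonoidHom.mem_ker, hf] at h2
    exact absurd h2 (by decide)

end

/-- **(7)**: `Δ > V`, `T₀ = Δ`: `Q i₀ = QF i₀`. -/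
theorem seven [Finite G] {S : Sylow 2 G} {P V T : Subgroup G} {z : ι → G} {opp : ι → ι → Prop}
    {C Q QF Qs : ι → Subgroup G} {y : Fin 5 → Fin 5 → G} {pt : Fin 5 → Fin 5 → Fin 5 → Fin 5 → ι}
    {i₀ : ι} (h : Base S P V T z opp C Q QF Qs i₀) (L : Lab h.toConf y pt)
    (hT : ∀ i, h.toConf.Tt i ≤ h.toConf.Dl) : Q i₀ ≤ QF i₀ := by
  intro s hs
  by_contra hs'
  obtain ⟨π, L', rfl⟩ := L.exists_base i₀
  exact seven0 (y := fun a b => y (π a) (π b)) (pt := fun a b c d => pt (π a) (π b) (π c) (π d)) h L' hT hs hs'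

end Cfsg.Agent.Omega.NOne.AG.Seven

end

section


/-!
# THEOREM D0ag (bb #15001): the leaf `EndNat4` of N1

`exists_baseA` : the frame of type (α); `false_of_lab` : no labelling, i.e. (5), (6), (7);
**`endNat4`** : the leaf.
-/

set_option autoImplicit false

namespace Cfsg.Agent.Omega.NOne.AG.End

open Subgroup Cfsg Cfsg.Agent.ZN Cfsg.Agent.Omega.MinPar Cfsg.Agent.Omega.Frame
open Cfsg.Agent.Omega.NO1 (Cfg Plus2 Nat4 Sympl EE)

universe u

/-- **The frame of type (α).** -/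
theorem exists_baseA {G : Type u} [Group G] [Finite G] {S : Sylow 2 G} {P : Subgroup G} {W : Tab.B4 → G}
    (h : Cfg S P) (A : Tab.AW P (zl (S : Subgroup G) P) W)
    (hz : zc (S : Subgroup G) = zpowers (W Tab.z0))
    (hE : (EE (S : Subgroup G) P).relIndex (zl (S : Subgroup G) P) = 2) :
    ∃ (C QF Qs : Subgroup G) (hp : Pt P (zl (S : Subgroup G) P)
        ((S : Subgroup G) ⊓ centralizer (zl (S : Subgroup G) P : Set G)) (W Tab.z0) C (o2 C) QF Qs),
      (∀ v ∈ zl (S : Subgroup G) P, ∀ d ∈ C, d ≠ 1 → Odd (orderOf d) → v * d * v⁻¹ = d⁻¹ →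
        C ≤ closure ({m | m ∈ P ∧ m * W Tab.z0 = W Tab.z0 * m} ∪ {d})) ∧
      Base S P (zl (S : Subgroup G) P)
        ((S : Subgroup G) ⊓ centralizer (zl (S : Subgroup G) P : Set G))
        (fun i : Pts P (W Tab.z0) => i.val) hp.opp (tr P (W Tab.z0) C) (tr P (W Tab.z0) (o2 C))
        (tr P (W Tab.z0) QF) (tr P (W Tab.z0) Qs) (Pts.base P (W Tab.z0)) := by
  refine exists_base h hz (fun e => ?_) A.card hE (FactsNat.facts h A hz hE) (FactsNat.stab h A hz)
    (FactsNat.ind h A hz)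
  rw [← A.zero] at e
  exact absurd (A.inj _ _ e) (by decide)

/-- **No labelling** : (5), (6), (7). -/
theorem false_of_lab {G : Type u} [Group G] [Finite G] {ι : Type*} {S : Sylow 2 G} {P V T : Subgroup G}
    {z : ι → G} {opp : ι → ι → Prop} {C Q QF Qs : ι → Subgroup G} {i₀ : ι}
    (hB : Base S P V T z opp C Q QF Qs i₀) {y : Fin 5 → Fin 5 → G}
    {pt : Fin 5 → Fin 5 → Fin 5 → Fin 5 → ι} (L : Lab hB.toConf y pt)
    (hgen : ∀ v ∈ V, ∀ d ∈ C i₀, d ≠ 1 → Odd (orderOf d) → v * d * v⁻¹ = d⁻¹ →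
      C i₀ ≤ closure ({m | m ∈ P ∧ m * z i₀ = z i₀ * m} ∪ {d})) : False := by
  have hT := FivePlug.T0_le hB L
  exact L.six_false hT i₀ (Seven.seven hB L fun i => (hB.toConf.Tt_le_T0 i).trans hT)
    fun v hv _ d hd hd1 hdo hvd => hgen v hv d hd hd1 hdo hvd

/-- Type (α): the configuration, `Δ ≤ V`. -/
theorem natBase : NatBase.{u} := by
  intro G _ _ S P h hN
  obtain ⟨W, A, hz⟩ := exists_aw h hN
  obtain ⟨C, QF, Qs, hp, hgen, hB⟩ := exists_baseA h A hz hN.ind
  refine ⟨_, _, _, _, _, _, _, _, hB, ?_⟩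
  by_contra hD
  have : Nonempty (Pts P (W Tab.z0)) := ⟨Pts.base P (W Tab.z0)⟩
  obtain ⟨y, pt, L⟩ := LabOf.exists_lab hB.toConf A (fun _ _ e => Subtype.ext e) hD
  refine false_of_lab hB L ?_
  rw [hp.trC_base]
  exact hgen

/-- Type (α): `T = V` is impossible. -/
theorem natRank : NatRank.{u} := by
  intro G _ _ S P h hN _ h5
  obtain ⟨ι, ζ, opp, C, Q, QF, Qs, i₀, hB, -⟩ := natBase G S P h hN
  obtain ⟨W, A, hz⟩ := exists_aw h hN
  exact hB.false_of_alp h5 A.alp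

/-- **The leaf `EndNat4` of N1.** -/
theorem endNat4 : NO1.EndNat4.{u} := endNat4_of natBase natRank

end Cfsg.Agent.Omega.NOne.AG.End

end

section


/-!
# N1, type (γ): `|V / E| = 2` (`End.PlusIdx`; bb #14731, helper537)

The `S`-invariant subgroups of `V = N₁ ⊗ N₂` are `1 < ⟨z⟩ < ⟨z, e₀⟩ < z^⊥ < V`, and `E = V ∩ Q` is neither `⟨z⟩`
(Lemma T) nor `V`.  If `E = ⟨z, e₀⟩`, then `Q` induces on `V` a subgroup of `⟨s, s'⟩` (the transvections with
centres `e₀`, `z e₀`), so `Y = ⟨E^C⟩ ≤ Z(Q)`, and `Y` induces `s` and `s'` (otherwise `[Y, z₀₁] ≤ ⟨z⟩` and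
`z₀₁ ∈ Q`).  Now `IdxD.false` applies to `v₁ = z₁₁`, `v₂ = z₂₁`.
-/

set_option autoImplicit false
set_option linter.unusedSectionVars false

namespace Cfsg.Agent.Omega.NOne.AG.Idx

open Subgroup Cfsg Cfsg.Agent.ZN Cfsg.Agent.Omega.MinPar Cfsg.Agent.Omega.Frame
open Cfsg.Agent.Omega.NO1 (Cfg Plus2 EE)
open Cfsg.Agent.Omega.NoFF.LinesPlug (CC)
open Cfsg.Agent.Omega.NOne.DPlus
open Cfsg.Agent.Omega.NOne.DPlusPts
open Cfsg.Agent.Omega.NOne.PlusVec
open Cfsg.Agent.Omega.NOne.AG.FactsPlus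

universe u

/-! ### codes -/

theorem code_a : ∀ v : B4, v.2.2.2 = false → v ≠ o → v ≠ z0 → v ≠ e0 → v ≠ e1 →
    add v (lin (act8 true false false) v) = e0 := by decide +kernel

theorem code_b : ∀ v : B4, v.2.2.2 = true → (add v (lin (act8 false true false) v)).2.2.2 = false ∧
    (add v (lin (act8 false true false) v)) ≠ o ∧ (add v (lin (act8 false true false) v)) ≠ z0 ∧
    (add v (lin (act8 false true false) v)) ≠ e0 ∧ (add v (lin (act8 false true false) v)) ≠ e1 := by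
  decide +kernel

theorem code_perp1 : ∀ v : B4, v.2.2.2 = false → v ∉ [o, z0, e0, e1] → ∀ w : B4, w.2.2.2 = false →
    w ∈ [o, z0, e0, e1, v, add z0 v, add e0 v, add e1 v] := by
  decide +kernel

theorem code_perp (v w : B4) (hv : v.2.2.2 = false) (h1 : v ≠ o) (h2 : v ≠ z0) (h3 : v ≠ e0) (h4 : v ≠ e1)
    (hw : w.2.2.2 = false) :
    w = o ∨ w = z0 ∨ w = e0 ∨ w = e1 ∨ w = v ∨ w = add z0 v ∨ w = add e0 v ∨ w = add e1 v := by
  have h5 := code_perp1 v hv (by simp [h1, h2, h3, h4]) w hw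
  simpa only [List.mem_cons, List.not_mem_nil, or_false] using h5

/-- the elements of `D₈` that move `V` by elements of `⟨z, e₀⟩` -/
theorem code_F : ∀ b i j : Bool, (∀ v : B4, add (lin (act8 b i j) v) v = o ∨ add (lin (act8 b i j) v) v = z0 ∨
    add (lin (act8 b i j) v) v = e0 ∨ add (lin (act8 b i j) v) v = e1) → i = j := by decide +kernel

theorem code_fix : ∀ b i : Bool, lin (act8 b i i) z0 = z0 ∧ lin (act8 b i i) e0 = e0 ∧
    lin (act8 b i i) e1 = e1 := by decide +kernel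

theorem z0_def : z0 = vec (0, 0) := by decide
theorem e0_e1 : add z0 e0 = e1 := by decide
theorem e1_e0 : add z0 e1 = e0 := by decide

theorem code_11 : ∀ b i : Bool, lin (act8 b i i) (vec (1, 1)) = vec (1, 1) ∨
    lin (act8 b i i) (vec (1, 1)) = add e1 (vec (1, 1)) := by decide +kernel

theorem code_21 : ∀ b i : Bool, lin (act8 b i i) (vec (2, 1)) = vec (2, 1) ∨
    lin (act8 b i i) (vec (2, 1)) = add e0 (vec (2, 1)) := by decide +kernel

/-- `s = act8 true false false` -/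
theorem code_s : lin (act8 true false false) (vec (1, 1)) = vec (1, 1) ∧
    lin (act8 true false false) (vec (2, 1)) = add e0 (vec (2, 1)) := by decide +kernel

/-- `s' = act8 true true true` -/
theorem code_s' : lin (act8 true true true) (vec (1, 1)) = add e1 (vec (1, 1)) ∧
    lin (act8 true true true) (vec (2, 1)) = vec (2, 1) := by decide +kernel

/-- `s s' = act8 false true true` and `1` move `z₀₁` by elements of `⟨z⟩`. -/
theorem code_01 : ∀ i : Bool, lin (act8 false i i) (vec (0, 1)) = vec (0, 1) ∨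
    lin (act8 false i i) (vec (0, 1)) = add z0 (vec (0, 1)) := by decide +kernel

/-- `s` and `s'` are conjugate under `act8 false true false` -/
theorem code_conj : ∀ (i : Bool) (p : Fin 3 × Fin 3),
    act8 false true false (act8 true i i (act8 false true false p)) = act8 true (!i) (!i) p := by
  decide +kernel

theorem code_inv : ∀ p, act8 false true false (act8 false true false p) = p := by decide +kernel

section main

variable {G : Type u} [Group G] [Finite G] {S : Sylow 2 G} {P : Subgroup G} {z : Fin 3 → Fin 3 → G}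

/-- `E < V` -/
theorem E_ne (h : Cfg S P) : ¬ zl (S : Subgroup G) P ≤ EE (S : Subgroup G) P := fun hle =>
  h.one.not_le (hle.trans inf_le_right)

/-- `⟨z⟩ < E` (Lemma T) -/
theorem E_not_le (h : Cfg S P) (hz : Plus2 (S : Subgroup G) P z) :
    ¬ EE (S : Subgroup G) P ≤ zc (S : Subgroup G) := by
  intro hle
  have h1 := LemmaT.lemmaT S (F := zc (S : Subgroup G)) (V := zl (S : Subgroup G) P) h.char2C h.Z_le_V
    h.V_le_S (h.S_le.trans (Cfg.P_norm_V S P)) ?_ h.V_comm hle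
  · have h2 := h1 ((pts hz).mem (0, 1))
    rw [hz.Z] at h2
    have h3 : ∀ x ∈ zpowers (z 0 0), x = phi (zz z) o ∨ x = phi (zz z) z0 := by
      rintro x ⟨n, rfl⟩
      change z 0 0 ^ n = _ ∨ z 0 0 ^ n = _
      have h4 : phi (zz z) z0 = z 0 0 := phi_vec (grid hz) (0, 0)
      rw [phi_o, h4]
      have h5 : z 0 0 ^ (2 : ℤ) = 1 := by rw [zpow_two, hz.sq]
      rcases Int.even_or_odd' n with ⟨k, hk | hk⟩
      · left; rw [hk, zpow_mul, h5, one_zpow]
      · right; rw [hk, zpow_add, zpow_mul, h5, one_zpow, one_mul, zpow_one]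
    rw [← phi_vec (grid hz) (0, 1)] at h2
    rcases h3 _ h2 with h4 | h4
    · exact absurd (phi_inj (grid hz) h4) (by decide)
    · exact absurd (phi_inj (grid hz) h4) (by decide)
  · refine le_norm_of fun s hs x hx => ?_
    have h2 := (mem_zc.1 hx).2.1 s hs
    rw [h2, mul_inv_cancel_right]
    exact hx

theorem z0_mem (h : Cfg S P) (hz : Plus2 (S : Subgroup G) P z) : phi (zz z) z0 ∈ EE (S : Subgroup G) P := by
  have h1 : phi (zz z) z0 = z 0 0 := phi_vec (grid hz) (0, 0)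
  rw [h1]
  apply h.Z_le_E
  rw [hz.Z]
  exact mem_zpowers _

theorem lin_mem (h : Cfg S P) (hz : Plus2 (S : Subgroup G) P z) {v : B4}
    (hv : phi (zz z) v ∈ EE (S : Subgroup G) P) (b i j : Bool) :
    phi (zz z) (lin (act8 b i j) v) ∈ EE (S : Subgroup G) P := by
  obtain ⟨s, hs, h1⟩ := exists_S h hz b i j
  rw [← h1.conj_phi (grid hz)]
  exact conj_E h hs hv

theorem add_mem' (hz : Plus2 (S : Subgroup G) P z) {v w : B4}
    (hv : phi (zz z) v ∈ EE (S : Subgroup G) P) (hw : phi (zz z) w ∈ EE (S : Subgroup G) P) :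
    phi (zz z) (add v w) ∈ EE (S : Subgroup G) P := by
  rw [phi_add (grid hz)]
  exact mul_mem hv hw

/-- `e₀ ∈ E` -/
theorem e0_mem (h : Cfg S P) (hz : Plus2 (S : Subgroup G) P z) : phi (zz z) e0 ∈ EE (S : Subgroup G) P := by
  obtain ⟨x, hx, hxz⟩ := SetLike.not_le_iff_exists.1 (E_not_le h hz)
  obtain ⟨v, rfl⟩ := exists_phi (pts hz) hx.1
  have hvo : v ≠ o := by
    rintro rfl
    rw [phi_o] at hxz
    exact hxz (one_mem _)
  have hvz : v ≠ z0 := by
    rintro rfl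
    apply hxz
    have h1 : phi (zz z) z0 = z 0 0 := phi_vec (grid hz) (0, 0)
    rw [h1, hz.Z]
    exact mem_zpowers _
  have key : ∀ w : B4, w.2.2.2 = false → w ≠ o → w ≠ z0 → phi (zz z) w ∈ EE (S : Subgroup G) P →
      phi (zz z) e0 ∈ EE (S : Subgroup G) P := by
    intro w hw hwo hwz hwE
    by_cases hw0 : w = e0
    · rwa [← hw0]
    by_cases hw1 : w = e1
    · rw [hw1] at hwE
      have h1 := add_mem' hz (z0_mem h hz) hwE
      rwa [e1_e0] at h1
    · have h1 := add_mem' hz hwE (lin_mem h hz hwE true false false)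
      rwa [code_a w hw hwo hwz hw0 hw1] at h1
  by_cases hd : v.2.2.2 = false
  · exact key v hd hvo hvz hx
  · rw [Bool.not_eq_false] at hd
    obtain ⟨h1, h2, h3, -, -⟩ := code_b v hd
    exact key _ h1 h2 h3 (add_mem' hz hx (lin_mem h hz hx false true false))

theorem e1_mem (h : Cfg S P) (hz : Plus2 (S : Subgroup G) P z) : phi (zz z) e1 ∈ EE (S : Subgroup G) P := by
  have h1 := add_mem' hz (z0_mem h hz) (e0_mem h hz)
  rwa [e0_e1] at h1

/-- `|V / E| = 2` or `E = ⟨z, e₀⟩` -/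
theorem two_cases (h : Cfg S P) (hz : Plus2 (S : Subgroup G) P z) :
    (EE (S : Subgroup G) P).relIndex (zl (S : Subgroup G) P) = 2 ∨
      ∀ v, phi (zz z) v ∈ EE (S : Subgroup G) P → v = o ∨ v = z0 ∨ v = e0 ∨ v = e1 := by
  by_cases hcon : ∀ v, phi (zz z) v ∈ EE (S : Subgroup G) P → v = o ∨ v = z0 ∨ v = e0 ∨ v = e1
  · exact Or.inr hcon
  left
  push Not at hcon
  obtain ⟨v, hv, hvo, hvz, hv0, hv1⟩ := hcon
  obtain ⟨v, hv, hvo, hvz, hv0, hv1, hvd⟩ : ∃ v, phi (zz z) v ∈ EE (S : Subgroup G) P ∧ v ≠ o ∧ v ≠ z0 ∧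
      v ≠ e0 ∧ v ≠ e1 ∧ v.2.2.2 = false := by
    by_cases hd : v.2.2.2 = false
    · exact ⟨v, hv, hvo, hvz, hv0, hv1, hd⟩
    · rw [Bool.not_eq_false] at hd
      obtain ⟨h1, h2, h3, h4, h5⟩ := code_b v hd
      exact ⟨_, add_mem' hz hv (lin_mem h hz hv false true false), h2, h3, h4, h5, h1⟩
  have hperp : ∀ w : B4, w.2.2.2 = false → phi (zz z) w ∈ EE (S : Subgroup G) P := by
    intro w hw
    rcases code_perp v w hvd hvo hvz hv0 hv1 hw with h1 | h1 | h1 | h1 | h1 | h1 | h1 | h1 <;> rw [h1]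
    · rw [phi_o]; exact one_mem _
    · exact z0_mem h hz
    · exact e0_mem h hz
    · exact e1_mem h hz
    · exact hv
    · exact add_mem' hz (z0_mem h hz) hv
    · exact add_mem' hz (e0_mem h hz) hv
    · exact add_mem' hz (e1_mem h hz) hv
  have hiff : ∀ w : B4, phi (zz z) w ∈ EE (S : Subgroup G) P ↔ w.2.2.2 = false := by
    intro w
    refine ⟨fun hw => ?_, hperp w⟩
    by_contra hd
    rw [Bool.not_eq_false] at hd
    apply E_ne h
    intro x hx
    obtain ⟨u, rfl⟩ := exists_phi (pts hz) hx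
    by_cases hu : u.2.2.2 = false
    · exact hperp u hu
    · rw [Bool.not_eq_false] at hu
      have h1 : phi (zz z) (add u w) ∈ EE (S : Subgroup G) P := by
        apply hperp
        show (u.2.2.2 ^^ w.2.2.2) = false
        rw [hu, hd]; rfl
      rw [phi_add (grid hz)] at h1
      have h2 := mul_mem h1 (inv_mem hw)
      rwa [mul_inv_cancel_right] at h2
  rw [relIndex, index_eq_two_iff]
  refine ⟨⟨zz z (1, 1), (pts hz).mem _⟩, ?_⟩
  rintro ⟨b, hb⟩
  obtain ⟨u, rfl⟩ := exists_phi (pts hz) hb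
  rw [mem_subgroupOf, mem_subgroupOf]
  change Xor (phi (zz z) u * zz z (1, 1) ∈ _) (phi (zz z) u ∈ _)
  rw [← phi_vec (grid hz) (1, 1), ← phi_add (grid hz), hiff, hiff]
  have h3 : (add u (vec (1, 1))).2.2.2 = (u.2.2.2 ^^ true) := rfl
  rw [h3]
  cases u.2.2.2
  · right; simp
  · left; simp

/-! ### `E = ⟨z, e₀⟩` is impossible -/

/-- the normal closure of `E` in `C` -/
def YY (C E : Subgroup G) : Subgroup G := closure {y | ∃ c ∈ C, ∃ e ∈ E, y = c * e * c⁻¹}

omit [Finite G] in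
theorem le_YY (C E : Subgroup G) : E ≤ YY C E := fun e he =>
  subset_closure ⟨1, one_mem _, e, he, by group⟩

omit [Finite G] in
theorem YY_norm (C E : Subgroup G) : C ≤ normalizer (YY C E : Set G) := by
  refine le_norm_of fun c hc x hx => ?_
  induction hx using closure_induction with
  | mem x hx =>
    obtain ⟨d, hd, e, he, rfl⟩ := hx
    exact subset_closure ⟨c * d, mul_mem hc hd, e, he, by group⟩
  | one => simp
  | mul a b _ _ ha hb =>
    have e : c * (a * b) * c⁻¹ = (c * a * c⁻¹) * (c * b * c⁻¹) := by group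
    rw [e]; exact mul_mem ha hb
  | inv a _ ha =>
    have e : c * a⁻¹ * c⁻¹ = (c * a * c⁻¹)⁻¹ := by group
    rw [e]; exact inv_mem ha

theorem false_of (h : Cfg S P) (hz : Plus2 (S : Subgroup G) P z)
    (hE : ∀ v, phi (zz z) v ∈ EE (S : Subgroup G) P → v = o ∨ v = z0 ∨ v = e0 ∨ v = e1) : False := by
  set V := zl (S : Subgroup G) P with hV
  set C := centralizer ({z 0 0} : Set G) with hC
  have hCC : CC (S : Subgroup G) = C := CC_eq hz
  have hEE : EE (S : Subgroup G) P = V ⊓ o2 C := EE_eq hz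
  have hg := grid hz
  have hp := pts hz
  have hzz : phi (zz z) z0 = z 0 0 := phi_vec hg (0, 0)
  have hchar2 : ∀ c ∈ C, (∀ x ∈ o2 C, c * x = x * c) → c ∈ o2 C := by
    intro c hc hcx
    have h1 := h.char2C
    rw [hCC] at h1
    exact h1 ⟨hc, mem_centralizer_iff.2 fun x hx => (hcx x hx).symm⟩
  have hQS : o2 C ≤ (S : Subgroup G) := by
    have h1 := h.Q_le_S
    rwa [hCC] at h1
  have hSC : (S : Subgroup G) ≤ C := by
    have h1 := Cfg.S_le_CC S
    rwa [hCC] at h1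
  have hVC : V ≤ C := h.V_le_S.trans hSC
  have hnQ : C ≤ normalizer (o2 C : Set G) := MinSimple.VModule.le_normalizer_o2 _
  have hVab : ∀ x ∈ V, ∀ y ∈ V, x * y = y * x := fun x hx y hy => hp.abel hx hy
  have hCz : ∀ c ∈ C, c * z 0 0 = z 0 0 * c := fun c hc => mem_centralizer_singleton_iff.1 hc
  -- `[V, Q] ≤ E`
  have hVQ : ∀ v ∈ V, ∀ x ∈ o2 C, v * x * v⁻¹ * x⁻¹ ∈ EE (S : Subgroup G) P := by
    intro v hv x hx
    rw [hEE]
    refine ⟨?_, (o2 C).mul_mem (norm_conj hnQ (hVC hv) hx) ((o2 C).inv_mem hx)⟩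
    have h1 := norm_conj (Cfg.P_norm_V S P) (h.S_le (hQS hx)) (inv_mem hv)
    have h2 := mul_mem hv h1
    have e : v * x * v⁻¹ * x⁻¹ = v * (x * v⁻¹ * x⁻¹) := by group
    rw [e]; exact h2
  -- the action of `Q`
  have hQact : ∀ x ∈ o2 C, ∃ b i, Has (zz z) x (act8 b i i) := by
    intro x hx
    obtain ⟨b, i, j, h1⟩ := exists_act8 hz (h.S_le (hQS hx)) (hCz x (o2_le _ hx))
    have h2 : i = j := by
      apply code_F b i j
      intro v
      apply hE
      rw [phi_add hg, ← h1.conj_phi hg]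
      have h3 := inv_mem (hVQ (phi (zz z) v) (phi_mem hp v) x hx)
      have e : (phi (zz z) v * x * (phi (zz z) v)⁻¹ * x⁻¹)⁻¹ = x * phi (zz z) v * x⁻¹ * (phi (zz z) v)⁻¹ := by
        group
      rw [e, phi_inv hg] at h3
      exact h3
    rw [← h2] at h1
    exact ⟨b, i, h1⟩
  -- `Q` centralises `E`
  have hQE : ∀ x ∈ o2 C, ∀ e ∈ EE (S : Subgroup G) P, x * e = e * x := by
    intro x hx e he
    obtain ⟨b, i, h1⟩ := hQact x hx
    obtain ⟨v, rfl⟩ := exists_phi hp he.1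
    have h2 : lin (act8 b i i) v = v := by
      rcases hE v he with rfl | rfl | rfl | rfl
      · cases b <;> cases i <;> decide
      · exact (code_fix b i).1
      · exact (code_fix b i).2.1
      · exact (code_fix b i).2.2
    have h3 := h1.conj_phi hg v
    rw [h2] at h3
    calc x * phi (zz z) v = x * phi (zz z) v * x⁻¹ * x := by group
      _ = _ := by rw [h3]
  set Y := YY C (EE (S : Subgroup G) P) with hY
  have hnY : C ≤ normalizer (Y : Set G) := YY_norm _ _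
  have hEY : EE (S : Subgroup G) P ≤ Y := le_YY _ _
  have hEQ : EE (S : Subgroup G) P ≤ o2 C := by rw [hEE]; exact inf_le_right
  have hYQ : Y ≤ o2 C := by
    rw [hY, YY, closure_le]
    rintro _ ⟨c, hc, e, he, rfl⟩
    exact norm_conj hnQ hc (hEQ he)
  have hQY : ∀ x ∈ o2 C, ∀ y ∈ Y, x * y = y * x := by
    intro x hx y hy
    have h1 : Y ≤ centralizer {x} := by
      rw [hY, YY, closure_le]
      rintro _ ⟨c, hc, e, he, rfl⟩
      refine mem_centralizer_singleton_iff.2 ?_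
      have h2 := hQE _ (norm_conj hnQ (inv_mem hc) hx) e he
      calc c * e * c⁻¹ * x = c * (e * (c⁻¹ * x * c⁻¹⁻¹)) * c⁻¹ := by group
        _ = x * (c * e * c⁻¹) := by rw [← h2]; group
    exact (mem_centralizer_singleton_iff.1 (h1 hy)).symm
  have hz00Y : z 0 0 ∈ Y := by
    rw [← hzz]
    exact hEY (z0_mem h hz)
  have h01 : zz z (0, 1) ∉ o2 C := by
    intro hm
    have h1 : phi (zz z) (vec (0, 1)) ∈ EE (S : Subgroup G) P := by
      rw [phi_vec hg, hEE]
      exact ⟨hp.mem _, hm⟩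
    rcases hE _ h1 with h2 | h2 | h2 | h2
    · exact absurd h2 (by decide)
    · exact absurd h2 (by decide)
    · exact absurd h2 (by decide)
    · exact absurd h2 (by decide)
  -- (2)
  have hYs : ∃ y ∈ Y, ∃ i, Has (zz z) y (act8 true i i) := by
    by_contra hcon
    push Not at hcon
    apply h01
    have hQQ : DZeroPts.QQ (z 0 0) = o2 C := by rw [DZeroPts.QQ, DZeroPts.CC_eq]
    rw [← hQQ]
    refine chain3 (x := z 0 0) (R := Y) (Z := zpowers (z 0 0)) ?_ ?_ ?_ ?_ ?_ ?_ ?_ ?_ ?_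
    · intro g hg1 hg2
      rw [hQQ] at hg2 ⊢
      exact hchar2 g (mem_centralizer_singleton_iff.2 hg1) hg2
    · rw [hQQ]; exact hYQ
    · exact (zpowers_le).2 hz00Y
    · intro c hc y hy
      exact norm_conj hnY (mem_centralizer_singleton_iff.2 hc) hy
    · rintro c hc _ ⟨n, rfl⟩
      have h1 : Commute c (z 0 0) := hc
      change c * z 0 0 ^ n * c⁻¹ ∈ _
      rw [(h1.zpow_right n).eq, mul_inv_cancel_right]
      exact ⟨n, rfl⟩
    · exact hCz _ (hVC (hp.mem _))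
    · intro q hq
      rw [hQQ] at hq
      exact hEY (hVQ _ (hp.mem _) q hq)
    · intro y hy
      obtain ⟨b, i, h1⟩ := hQact y (hYQ hy)
      have hb : b = false := by
        by_contra hb
        rw [Bool.not_eq_false] at hb
        rw [hb] at h1
        exact hcon y hy i h1
      rw [hb] at h1
      have h2 := h1.conj_phi hg (vec (0, 1))
      rw [phi_vec hg] at h2
      have e : zz z (0, 1) * y * (zz z (0, 1))⁻¹ * y⁻¹ = zz z (0, 1) * (y * zz z (0, 1) * y⁻¹)⁻¹ := by group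
      rw [e, h2]
      rcases code_01 i with h3 | h3
      · rw [h3, phi_vec hg, mul_inv_cancel]; exact one_mem _
      · rw [h3, phi_add hg, phi_vec hg, hzz]
        have e2 : zz z (0, 1) * (z 0 0 * zz z (0, 1))⁻¹ = (z 0 0)⁻¹ := by group
        rw [e2]
        exact inv_mem (mem_zpowers _)
    · rintro _ ⟨n, rfl⟩
      have h1 : Commute (zz z (0, 1)) (z 0 0) := hg.comm (0, 1) (0, 0)
      exact h1.zpow_right n
  have hYs2 : ∀ i, ∃ y ∈ Y, Has (zz z) y (act8 true i i) := by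
    obtain ⟨y, hy, i, h1⟩ := hYs
    obtain ⟨r, hr, h2⟩ := exists_S h hz false true false
    have h3 : Has (zz z) (r * y * r⁻¹) (act8 true (!i) (!i)) := by
      intro p
      have e : r * y * r⁻¹ * zz z p * (r * y * r⁻¹)⁻¹ = r * (y * (r⁻¹ * zz z p * r) * y⁻¹) * r⁻¹ := by group
      have e2 : r⁻¹ * zz z p * r = zz z (act8 false true false p) := by
        have h4 := h2 (act8 false true false p)
        rw [code_inv] at h4
        rw [← h4]; group
      rw [e, e2, h1, h2, code_conj]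
    intro k
    by_cases hk : k = i
    · rw [hk]; exact ⟨y, hy, h1⟩
    · have hk' : k = !i := by
        cases k <;> cases i <;> simp_all
      rw [hk']
      exact ⟨_, norm_conj hnY (hSC hr) hy, h3⟩
  -- the data
  have hflip : ∀ {v ε : B4} {y : G} {b i : Bool}, Has (zz z) y (act8 b i i) → lin (act8 b i i) v = add ε v →
      phi (zz z) v * y * (phi (zz z) v)⁻¹ = phi (zz z) ε * y := by
    intro v ε y b i h1 h2
    have h3 := h1.conj_phi hg v
    rw [h2, phi_add hg] at h3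
    have h4 : y * phi (zz z) v = phi (zz z) ε * phi (zz z) v * y := by
      rw [← h3]; group
    calc phi (zz z) v * y * (phi (zz z) v)⁻¹
        = (phi (zz z) ε * phi (zz z) ε) * phi (zz z) v * y * (phi (zz z) v)⁻¹ := by
          rw [phi_sq hg, one_mul]
      _ = phi (zz z) ε * (phi (zz z) ε * phi (zz z) v * y) * (phi (zz z) v)⁻¹ := by group
      _ = phi (zz z) ε * y := by rw [← h4]; group
  have hfix : ∀ {v : B4} {y : G} {b i : Bool}, Has (zz z) y (act8 b i i) → lin (act8 b i i) v = v →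
      phi (zz z) v * y * (phi (zz z) v)⁻¹ = y := by
    intro v y b i h1 h2
    have h3 := h1.conj_phi hg v
    rw [h2] at h3
    have h4 : y * phi (zz z) v = phi (zz z) v * y := by
      nth_rw 2 [← h3]; group
    rw [← h4, mul_inv_cancel_right]
  have hze : phi (zz z) e1 = z 0 0 * phi (zz z) e0 := by
    rw [← e0_e1, phi_add hg, hzz]
  have hw : phi (zz z) (vec (1, 1)) * phi (zz z) (vec (2, 1)) = zz z (0, 1) := by
    rw [← phi_add hg, ← phi_vec hg (0, 1)]
    congr 1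
  have D : IdxD C (o2 C) Y (z 0 0) (phi (zz z) e0) (phi (zz z) (vec (1, 1))) (phi (zz z) (vec (2, 1))) :=
    { Qo2 := rfl
      char2 := hchar2
      Cz := hCz
      z2 := hz.sq 0 0
      z1 := hz.ne_one 0 0
      zY := hz00Y
      YQ := hYQ
      QY := hQY
      nY := hnY
      v1C := hVC (phi_mem hp _)
      v2C := hVC (phi_mem hp _)
      sq1 := phi_sq hg _
      sq2 := phi_sq hg _
      cv := phi_comm hg _ _
      QV1 := fun x hx => hEY (hVQ _ (phi_mem hp _) x hx)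
      QV2 := fun x hx => hEY (hVQ _ (phi_mem hp _) x hx)
      e0Y := hEY (e0_mem h hz)
      e02 := phi_sq hg _
      ev1 := phi_comm hg _ _
      ev2 := phi_comm hg _ _
      t1 := by
        intro y hy
        obtain ⟨b, i, h1⟩ := hQact y (hYQ hy)
        rcases code_11 b i with h2 | h2
        · left; exact hfix h1 h2
        · right; rw [← hze]; exact hflip h1 h2
      t2 := by
        intro y hy
        obtain ⟨b, i, h1⟩ := hQact y (hYQ hy)
        rcases code_21 b i with h2 | h2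
        · left; exact hfix h1 h2
        · right; exact hflip h1 h2
      y1 := by
        obtain ⟨y, hy, h1⟩ := hYs2 true
        refine ⟨y, hy, ?_, hfix h1 code_s'.2⟩
        rw [← hze]; exact hflip h1 code_s'.1
      y2 := by
        obtain ⟨y, hy, h1⟩ := hYs2 false
        exact ⟨y, hy, hfix h1 code_s.1, hflip h1 code_s.2⟩ }
  apply D.false
  rw [hw]
  exact h01

end main

/-- **Type (γ): `|V / E| = 2`.** -/
theorem plusIdx : End.PlusIdx.{u} := by
  intro G _ _ S P h z hz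
  rcases two_cases h hz with h1 | h1
  · exact h1
  · exact (false_of h hz h1).elim

end Cfsg.Agent.Omega.NOne.AG.Idx

end

section


/-!
# The leaf `EndPlus2` of N1 (D0ag (γ)): closed
-/

set_option autoImplicit false

namespace Cfsg.Agent.Omega.NOne.AG.PlusThm

universe u

/-- **`EndPlus2`.** -/
theorem endPlus2 : NO1.EndPlus2.{u} := End.endPlus2 Idx.plusIdx

end Cfsg.Agent.Omega.NOne.AG.PlusThm

end
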